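import Cfsg.Agent.BX.No33.Dot
set_option linter.all false
open scoped Cfsg.Agent.FastGrp

/-!
# The test that excludes a candidate for `L₃(3)` (helper8)

Let `A ^ 13 = 1`, `y A y⁻¹ = A ^ 3`, let the involution `c` invert `y`, and let `v`, `v'` be vectors fixed by `A` and `y`.
With `u = v c`, `u' = v' c` put `f i = (u A ^ i, u')`; then `f (3 i) = f i`.  If `c` commutes with `c ^ (A ^ m)`, then
`f m = f (-m)`.  So `f 1 ≠ f 12` and `f 6 ≠ f 7` exclude this for all `m` prime to 13.
`blk` runs this test for the involutions `x (c₀ e₁ ^ d₁ ⋯ e_r ^ d_r) x⁻¹ y ^ n`.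
-/

set_option autoImplicit false
set_option maxHeartbeats 200000

namespace Cfsg.Agent.BX.No33

open Cfsg.Agent.Lib.PermNet Cfsg.Agent.Monster.VecEngine Cfsg.Agent.Monster.VecSpace
  Cfsg.Agent.BabyM.Conc Cfsg.Agent.BMx.Fast Cfsg.Agent.BMx.FastV Cfsg.Agent.H819.U33

/-! ### The abstract argument -/

section core

variable {H X : Type*} [Group H] {act : H → X → X} {φ : X → X → ℚ}
  (hm : ∀ a b x, act (a * b) x = act b (act a x)) (h1 : ∀ x, act 1 x = x)
  (hφ : ∀ a x x', φ (act a x) (act a x') = φ x x')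

include hm h1 in
theorem fix_inv {a : H} {x : X} (h : act a x = x) : act a⁻¹ x = x := by
  conv_lhs => rw [← h]
  rw [← hm, mul_inv_cancel, h1]

include hm h1 in
theorem fix_pow {a : H} {x : X} (h : act a x = x) (n : ℕ) : act (a ^ n) x = x := by
  induction n with
  | zero => rw [pow_zero, h1]
  | succ n ih => rw [pow_succ, hm, ih, h]

include hm h1 in
theorem fix_conj {y c : H} {v : X} (c2 : c ^ 2 = 1) (cy : (c * y) ^ 2 = 1) (vy : act y v = v) :
    act y (act c v) = act c v := by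
  have e : c * y = y⁻¹ * c := by
    rw [pow_two] at c2 cy
    have h2 : c * y = (c * y)⁻¹ := eq_inv_of_mul_eq_one_left cy
    rw [h2, mul_inv_rev, inv_eq_of_mul_eq_one_right c2]
  rw [← hm, e, hm, fix_inv hm h1 vy]

include hm h1 hφ in
theorem shift (a : H) (x x' : X) : φ x (act a x') = φ (act a⁻¹ x) x' := by
  rw [← hφ a (act a⁻¹ x), ← hm, inv_mul_cancel, h1]

include hm h1 hφ in
theorem core {A y c : H} {v v' : X} (ap : A ^ 13 = 1) (ya : y * A * y⁻¹ = A ^ 3) (c2 : c ^ 2 = 1)
    (cy : (c * y) ^ 2 = 1) (vA : act A v = v) (vy : act y v = v) (vA' : act A v' = v') (vy' : act y v' = v')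
    (n1 : φ (act A (act c v)) (act c v') ≠ φ (act c v) (act A (act c v')))
    (n2 : φ (act c v) (act (A ^ 7) (act c v')) ≠ φ (act A (act c v)) (act (A ^ 7) (act c v')))
    (m : ℕ) (hm13 : ¬ 13 ∣ m) : ¬ Commute c ((A ^ m)⁻¹ * c * A ^ m) := by
  intro hc
  have uy := fix_conj hm h1 c2 cy vy
  have uy' := fix_conj hm h1 c2 cy vy'
  have ci : c⁻¹ = c := inv_eq_of_mul_eq_one_right (by rw [← pow_two, c2])
  obtain ⟨f, hf⟩ : ∃ f : ℕ → ℚ, ∀ k, f k = φ (act (A ^ k) (act c v)) (act c v') := ⟨_, fun _ => rfl⟩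
  have f13 : ∀ k, f k = f (k % 13) := fun k => by rw [hf, hf, pow_eq_pow_mod k ap]
  have f3 : ∀ k, f (3 * k) = f k := fun k => by
    rw [hf, hf, pow_mul, ← ya, conj_pow, hm, hm, uy, ← shift hm h1 hφ, uy']
  have inv : ∀ k l, k + l = 13 → (A ^ k)⁻¹ = A ^ l := fun k l h =>
    inv_eq_of_mul_eq_one_right (by rw [← pow_add, h, ap])
  have e1 : f 1 ≠ f 12 := by
    rw [hf, hf, pow_one, ← inv 1 12 rfl, pow_one, ← shift hm h1 hφ]
    exact n1
  have e2 : f 6 ≠ f 7 := by
    have e : A * (A ^ 7)⁻¹ = A ^ 7 := by rw [inv 7 6 rfl, ← pow_succ']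
    rw [shift hm h1 hφ (A ^ 7), shift hm h1 hφ (A ^ 7), ← hm A, e, inv 7 6 rfl] at n2
    rw [hf, hf]
    exact n2
  have e3 : f m = f (12 * m) := by
    have h2 : φ (act (c * ((A ^ m)⁻¹ * c * A ^ m)) v) v' = φ (act ((A ^ m)⁻¹ * c * A ^ m * c) v) v' := by rw [hc.eq]
    have vm := fix_pow hm h1 vA m
    have vm' := fix_pow hm h1 vA' m
    have i12 : (A ^ m)⁻¹ = A ^ (12 * m) := inv_eq_of_mul_eq_one_right (by
      rw [← pow_add, show m + 12 * m = 13 * m by ring, pow_mul, ap, one_pow])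
    have t : ∀ x, φ (act c x) v' = φ x (act c v') := fun x => by rw [shift hm h1 hφ, ci]
    have t' : ∀ x, φ (act (A ^ m) x) v' = φ x v' := fun x => by
      conv_lhs => rw [← vm']
      exact hφ _ _ _
    rw [hm, hm, hm, hm, hm, hm, fix_inv hm h1 vm, t', t, t, i12] at h2
    rw [hf, hf, h2]
  have a1 := f3 1
  have a2 := f3 3
  have a3 := f3 2
  have a4 := (f13 18).symm.trans (f3 6)
  have a5 := f3 4
  have a6 := (f13 36).symm.trans (f3 12)
  have a7 := (f13 21).symm.trans (f3 7)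
  have a8 := (f13 24).symm.trans (f3 8)
  norm_num at a1 a2 a3 a4 a5 a6 a7 a8
  rw [f13 m, f13 (12 * m), Nat.mul_mod] at e3
  have hr : m % 13 ≠ 0 := fun h => hm13 (Nat.dvd_of_mod_eq_zero h)
  have hl : m % 13 < 13 := Nat.mod_lt _ (by norm_num)
  generalize m % 13 = r at e3 hr hl
  interval_cases r <;> norm_num at e3 hr <;> first | (apply e1; linarith) | (apply e2; linarith)

end core

/-! ### The action of the Baby Monster -/

/-- the right action -/
noncomputable def act (x : G) (f : V) : V := ((x⁻¹ : G) : V ≃ₗ[ℚ] V) f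

/-- the invariant form -/
noncomputable def dot (f f' : V) : ℚ := dotW ℚ U wt f f'

theorem act_mul (a b : G) (f : V) : act (a * b) f = act b (act a f) := by
  unfold act
  rw [mul_inv_rev]
  rfl

theorem act_one (f : V) : act 1 f = f := by
  unfold act
  rw [inv_one]
  rfl

theorem act_g (w : List Ltr) (f : V) : act (g w) f = W w f := by
  unfold act g
  rw [inv_inv]
  rfl

theorem dot_act (a : G) (f f' : V) : dot (act a f) (act a f') = dot f f' := by
  have h : F (act a f) (act a f') = F f f' := (BabyM.Instance.all.G_le (a⁻¹).2).1 f f'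
  rw [F_apply, F_apply] at h
  exact mul_left_cancel₀ (by norm_num) h

theorem dot_comm (f f' : V) : dot f f' = dot f' f := dotW_comm ℚ U wt f f'

theorem RegV.run' {x : ℕ} {f : V} (hx : RegV x f) (w : List Ltr) (k : ℕ → Bool) (h : runW w x k = true) :
    ∃ y, RegV y (act (g w) f) ∧ k y = true := by
  rw [act_g]
  exact hx.run w k h

theorem dot_ne' {x y x' y' : ℕ} {f g f' g' : V} (hx : RegV x f) (hy : RegV y g) (hx' : RegV x' f') (hy' : RegV y' g')
    (h : not (Nat.beq (dt x (rv y)) (dt x' (rv y'))) = true) : dot f g ≠ dot f' g' :=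
  dot_ne hx hy hx' hy' (ne_of_not_beq h)

attribute [irreducible] act dot

/-! ### The checks -/

/-- the vector `p` is short and fixed by `A` and `y` -/
structure Fix (A y : G) (p : Pl) : Prop where
  reg : RegV (ofPl p) (vecU ℚ U p)
  fA : act A (vecU ℚ U p) = vecU ℚ U p
  fy : act y (vecU ℚ U p) = vecU ℚ U p

/-- the check of `Fix`; `n` is the sum of the squares -/
noncomputable def fixB (wA wy : List Ltr) (p : Pl) (n : ℕ) : Bool :=
  and (okV p n) (and (runW wA (ofPl p) fun x => Nat.beq x (ofPl p)) (runW wy (ofPl p) fun x => Nat.beq x (ofPl p)))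

theorem fix_of {wA wy : List Ltr} {p : Pl} {n : ℕ} (h : fixB wA wy p n = true) : Fix (g wA) (g wy) p := by
  unfold fixB at h
  rw [Bool.and_eq_true, Bool.and_eq_true] at h
  have r := regV_of_okV h.1
  have key : ∀ w, (runW w (ofPl p) fun x => Nat.beq x (ofPl p)) = true → act (g w) (vecU ℚ U p) = vecU ℚ U p := by
    intro w hw
    obtain ⟨x, hx, hk⟩ := r.run' w _ hw
    rw [Nat.eq_of_beq_eq_true hk] at hx
    exact hx.inj r
  exact ⟨r, key _ h.2.1, key _ h.2.2⟩

/-- the data of a case -/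
structure Start (A y : G) (p q : Pl) : Prop where
  ap : A ^ 13 = 1
  ya : y * A * y⁻¹ = A ^ 3
  fp : Fix A y p
  fq : Fix A y q

/-- the two inequalities -/
def Good (a b : G) (f f' : V) : Prop :=
  dot (act a f) f' ≠ dot f (act a f') ∧ dot f (act b f') ≠ dot (act a f) (act b f')

/-- one test -/
noncomputable def leaf (wA wA7 : List Ltr) (u u' : ℕ) : Bool :=
  runW wA u fun X => runW wA u' fun Y => runW wA7 u' fun Z => seqB (rv u) fun R => seqB (rv X) fun S =>
    and (not (Nat.beq (dt u' S) (dt Y R))) (not (Nat.beq (dt Z R) (dt Z S)))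

theorem leaf_sound {wA wA7 : List Ltr} {u u' : ℕ} {f f' : V} (hu : RegV u f) (hu' : RegV u' f')
    (h : leaf wA wA7 u u' = true) : Good (g wA) (g wA7) f f' := by
  obtain ⟨X, hX, h⟩ := hu.run' wA _ h
  obtain ⟨Y, hY, h⟩ := hu'.run' wA _ h
  obtain ⟨Z, hZ, h⟩ := hu'.run' wA7 _ h
  rw [seqB_eq, seqB_eq, Bool.and_eq_true] at h
  have h1 := dot_ne' hu' hX hY hu h.1
  have h2 := dot_ne' hZ hu hZ hX h.2
  exact ⟨by rwa [dot_comm _ f', dot_comm f], by rwa [dot_comm f, dot_comm (act (g wA) f)]⟩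

/-- membership -/
noncomputable def memL (k : ℕ) (l : List ℕ) : Bool :=
  List.rec (motive := fun _ => Bool) false (fun a _ ih => or (Nat.beq a k) ih) l

theorem mem_of_memL {k : ℕ} {l : List ℕ} (h : memL k l = true) : k ∈ l := by
  induction l with
  | nil => exact absurd h (by simp [memL])
  | cons a l ih =>
    have h' : or (Nat.beq a k) (memL k l) = true := h
    rw [Bool.or_eq_true] at h'
    rcases h' with h1 | h1
    · rw [Nat.eq_of_beq_eq_true h1]
      exact List.mem_cons_self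
    · exact List.mem_cons_of_mem _ (ih h1)

/-- all tests below a node -/
noncomputable def tree (wA wA7 : List Ltr) (skip : List ℕ) (es : List (List Ltr)) : ℕ → ℕ → ℕ → Bool :=
  List.rec (motive := fun _ => ℕ → ℕ → ℕ → Bool) (fun k u u' => or (memL k skip) (leaf wA wA7 u u'))
    (fun e _ ih k u u' => and (ih (Nat.mul 3 k) u u') (runW e u fun a => runW e u' fun a' =>
      and (ih (Nat.succ (Nat.mul 3 k)) a a') (runW e a fun b => runW e a' fun b' =>
        ih (Nat.succ (Nat.succ (Nat.mul 3 k))) b b'))) es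

/-- the product `e₁ ^ d₁ ⋯ e_r ^ d_r` -/
noncomputable def pe : List (List Ltr) → List ℕ → G
  | e :: es, d :: ds => g e ^ d * pe es ds
  | _, _ => 1

theorem pe_cons (e : List Ltr) (es : List (List Ltr)) (d : ℕ) (ds : List ℕ) :
    pe (e :: es) (d :: ds) = g e ^ d * pe es ds := rfl

theorem pe_nil : pe [] [] = 1 := rfl

/-- the number with the digits `ds` in base 3, the first digit is the leading one -/
def code (ds : List ℕ) : ℕ := ds.foldl (fun k d => 3 * k + d) 0

theorem tree_sound {wA wA7 : List Ltr} {skip : List ℕ} (es : List (List Ltr)) {k u u' : ℕ} {f f' : V}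
    (hu : RegV u f) (hu' : RegV u' f') (h : tree wA wA7 skip es k u u' = true) (ds : List ℕ)
    (hl : ds.length = es.length) (hd : ∀ d ∈ ds, d < 3) (hs : ds.foldl (fun k d => 3 * k + d) k ∉ skip) :
    Good (g wA) (g wA7) (act (pe es ds) f) (act (pe es ds) f') := by
  induction es generalizing k u u' f f' ds with
  | nil =>
    obtain rfl : ds = [] := List.length_eq_zero_iff.1 hl
    have h' : or (memL k skip) (leaf wA wA7 u u') = true := h
    rw [Bool.or_eq_true] at h'
    rw [pe_nil, act_one, act_one]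
    exact leaf_sound hu hu' (h'.resolve_left fun h1 => hs (mem_of_memL h1))
  | cons e es ih =>
    obtain ⟨d, ds, rfl⟩ := List.exists_cons_of_length_eq_add_one hl
    have h' : and (tree wA wA7 skip es (3 * k) u u') (runW e u fun a => runW e u' fun a' =>
      and (tree wA wA7 skip es (3 * k + 1) a a') (runW e a fun b => runW e a' fun b' =>
        tree wA wA7 skip es (3 * k + 2) b b')) = true := h
    rw [Bool.and_eq_true] at h'
    obtain ⟨a, ha, h1⟩ := hu.run' e _ h'.2
    obtain ⟨a', ha', h1⟩ := hu'.run' e _ h1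
    rw [Bool.and_eq_true] at h1
    obtain ⟨b, hb, h2⟩ := ha.run' e _ h1.2
    obtain ⟨b', hb', h2⟩ := ha'.run' e _ h2
    have hl' : ds.length = es.length := Nat.succ.inj hl
    have hd' : ∀ d ∈ ds, d < 3 := fun d h => hd d (List.mem_cons_of_mem _ h)
    have h3 : d < 3 := hd d List.mem_cons_self
    rw [List.foldl_cons] at hs
    rw [pe_cons, act_mul, act_mul]
    interval_cases d
    · rw [pow_zero, act_one, act_one]
      exact ih hu hu' h'.1 ds hl' hd' hs
    · rw [pow_one]
      exact ih ha ha' h1.1 ds hl' hd' hs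
    · rw [pow_two, act_mul, act_mul]
      exact ih hb hb' h2 ds hl' hd' hs

/-- **A block of tests.** -/
noncomputable def blk (p q : Pl) (wX wA wA7 : List Ltr) (es : List (List Ltr)) (skip : List ℕ) (wc : List Ltr) : Bool :=
  runW wX (ofPl p) fun a => runW wc a fun u => runW wX (ofPl q) fun a' => runW wc a' fun u' =>
    tree wA wA7 skip es 0 u u'

theorem blk_sound {A y : G} {p q : Pl} (S : Start A y p q) {wX wA wA7 wc : List Ltr} {es : List (List Ltr)}
    {skip : List ℕ} (hA : g wA = (g wX)⁻¹ * A * g wX) (h7 : g wA7 = g wA ^ 7)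
    (h : blk p q wX wA wA7 es skip wc = true) (ds : List ℕ) (hl : ds.length = es.length) (hd : ∀ d ∈ ds, d < 3)
    (hs : code ds ∉ skip) (c : G) (n : ℕ) (hc : c = g wX * (g wc * pe es ds) * (g wX)⁻¹ * y ^ n)
    (c2 : c ^ 2 = 1) (cy : (c * y) ^ 2 = 1) (m : ℕ) (hm : ¬ 13 ∣ m) : ¬ Commute c ((A ^ m)⁻¹ * c * A ^ m) := by
  obtain ⟨a, ha, h⟩ := S.fp.reg.run' wX _ h
  obtain ⟨u, hu, h⟩ := ha.run' wc _ h
  obtain ⟨a', ha', h⟩ := S.fq.reg.run' wX _ h
  obtain ⟨u', hu', h⟩ := ha'.run' wc _ h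
  have h1 := tree_sound es hu hu' h ds hl hd hs
  have e : ∀ v, act y v = v → act (pe es ds) (act (g wc) (act (g wX) v)) = act (g wX) (act c v) := fun v hv => by
    have e1 : g wX * g wc * pe es ds = c * (y ^ n)⁻¹ * g wX := by rw [hc]; group
    rw [← act_mul, ← act_mul, ← mul_assoc, e1, act_mul, act_mul,
      fix_inv act_mul act_one (fix_pow act_mul act_one (fix_conj act_mul act_one c2 cy hv) n)]
  rw [e _ S.fp.fy, e _ S.fq.fy] at h1
  have eA : ∀ v, act (g wA) (act (g wX) v) = act (g wX) (act A v) := fun v => by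
    rw [← act_mul, ← act_mul, hA]
    congr 1
    group
  have e7 : ∀ v, act (g wA7) (act (g wX) v) = act (g wX) (act (A ^ 7) v) := fun v => by
    have e1 : g wX * ((g wX)⁻¹ * A * g wX) ^ 7 = A ^ 7 * g wX := by
      have e2 := conj_pow (a := (g wX)⁻¹) (b := A) (i := 7)
      rw [inv_inv] at e2
      rw [e2]
      group
    rw [← act_mul, ← act_mul, h7, hA, e1]
  unfold Good at h1
  rw [eA, eA, e7, dot_act, dot_act, dot_act, dot_act] at h1
  exact core act_mul act_one dot_act S.ap S.ya c2 cy S.fp.fA S.fp.fy S.fq.fA S.fq.fy h1.1 h1.2 m hm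

/-- the check of the words of a block; `wA0`, `wB0` are the words of `A` and `A ^ 7` -/
noncomputable def hd (wA0 wB0 wX wA wA7 : List Ltr) : Bool :=
  runW wX x0 fun a => and (runW wA a fun s => runW wA0 x0 fun t => runW wX t fun t' => Nat.beq s t')
    (runW wA7 a fun s => runW wB0 x0 fun t => runW wX t fun t' => Nat.beq s t')

theorem hd_sound {wA0 wB0 wX wA wA7 : List Ltr} (h0 : g wB0 = g wA0 ^ 7) (h : hd wA0 wB0 wX wA wA7 = true) :
    g wA = (g wX)⁻¹ * g wA0 * g wX ∧ g wA7 = g wA ^ 7 := by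
  obtain ⟨a, ha, h⟩ := runW_sound reg0 wX _ h
  rw [Bool.and_eq_true] at h
  have key : ∀ v w : List Ltr, (runW v a fun s => runW w x0 fun t => runW wX t fun t' => Nat.beq s t') = true →
      g v = (g wX)⁻¹ * g w * g wX := fun v w hv => by
    obtain ⟨s, hs, hv⟩ := runW_sound ha v _ hv
    obtain ⟨t, ht, hv⟩ := runW_sound reg0 w _ hv
    obtain ⟨t', ht', hv⟩ := runW_sound ht wX _ hv
    rw [Nat.eq_of_beq_eq_true hv] at hs
    have e := hs.eq ht'
    rw [List.nil_append, List.nil_append, g_append, g_append] at e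
    rw [mul_assoc, ← e, inv_mul_cancel_left]
  have h1 := key _ _ h.1
  refine ⟨h1, ?_⟩
  have e2 := conj_pow (a := (g wX)⁻¹) (b := g wA0) (i := 7)
  rw [inv_inv] at e2
  rw [key _ _ h.2, h1, h0, e2]

end Cfsg.Agent.BX.No33
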