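import Cfsg.Agent.BX.No33.T.D0
import Cfsg.Agent.BX.No33.T.D1
import Cfsg.Agent.BX.No33.T.D2
import Cfsg.Agent.BX.No33.T.D3
import Cfsg.Agent.BX.No33.T.D4
import Cfsg.Agent.BX.No33.T.D5
import Cfsg.Agent.BX.No33.T.D6
import Cfsg.Agent.BX.No33.T.D7
import Cfsg.Agent.BX.No33.T.D8
import Cfsg.Agent.BX.No33.T.D9
import Cfsg.Agent.BX.No33.T.D10
import Cfsg.Agent.BX.No33.T.D11
import Cfsg.Agent.BX.No33.T.D12
import Cfsg.Agent.BX.No33.T.D13
import Cfsg.Agent.BX.No33.T.D14
import Cfsg.Agent.BX.No33.T.D15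
import Cfsg.Agent.BX.No33.T.D16
import Cfsg.Agent.BX.No33.T.D17
import Cfsg.Agent.BX.No33.T.D18
import Cfsg.Agent.BX.No33.T.D19
import Cfsg.Agent.BX.No33.T.D20
import Cfsg.Agent.BX.No33.T.D21
import Cfsg.Agent.BX.No33.T.D22
import Cfsg.Agent.BX.No33.T.D23
import Cfsg.Agent.BX.No33.T.D24
import Cfsg.Agent.BX.No33.T.D25
import Cfsg.Agent.BX.No33.T.D26
import Cfsg.Agent.BX.No33.T.D27
import Cfsg.Agent.BX.No33.T.D28
import Cfsg.Agent.BX.No33.T.D29
import Cfsg.Agent.BX.No33.T.D30
import Cfsg.Agent.BX.No33.T.D31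
import Cfsg.Agent.BX.No33.T.D32
import Cfsg.Agent.BX.No33.T.D33
import Cfsg.Agent.BX.No33.T.D34
import Cfsg.Agent.BX.No33.T.D35
import Cfsg.Agent.BX.No33.T.D36
import Cfsg.Agent.BX.No33.T.D37
import Cfsg.Agent.BX.No33.T.D38
import Cfsg.Agent.BX.No33.T.D39
import Cfsg.Agent.BX.No33.T.D40
import Cfsg.Agent.BX.No33.T.D41
import Cfsg.Agent.BX.No33.T.D42
import Cfsg.Agent.BX.No33.T.D43
import Cfsg.Agent.BX.No33.T.D44
import Cfsg.Agent.BX.No33.T.D45
import Cfsg.Agent.BX.No33.T.D46
import Cfsg.Agent.BX.No33.T.D47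
import Cfsg.Agent.BX.No33.T.D48
import Cfsg.Agent.BX.No33.T.D49
import Cfsg.Agent.BX.No33.T.D50
import Cfsg.Agent.BX.No33.T.D51
import Cfsg.Agent.BX.No33.T.D52
import Cfsg.Agent.BX.No33.T.D53
import Cfsg.Agent.BX.No33.T.D54
import Cfsg.Agent.BX.No33.T.D55
import Cfsg.Agent.BX.No33.T.D56
import Cfsg.Agent.BX.No33.T.D57
import Cfsg.Agent.BX.No33.T.D58
import Cfsg.Agent.BX.No33.T.D59
import Cfsg.Agent.BX.No33.T.D60
import Cfsg.Agent.BX.No33.T.D61
import Cfsg.Agent.BX.No33.T.D62
import Cfsg.Agent.BX.No33.T.D63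
import Cfsg.Agent.BX.No33.T.D64
import Cfsg.Agent.BX.No33.T.D65
import Cfsg.Agent.BX.No33.T.D66
import Cfsg.Agent.BX.No33.T.D67
import Cfsg.Agent.BX.No33.T.D68
import Cfsg.Agent.BX.No33.T.D69
import Cfsg.Agent.BX.No33.T.D70
import Cfsg.Agent.BX.No33.T.D71
import Cfsg.Agent.BX.No33.T.D72
import Cfsg.Agent.BX.No33.T.D73
import Cfsg.Agent.BX.No33.T.D74
import Cfsg.Agent.BX.No33.T.D75
import Cfsg.Agent.BX.No33.T.D76
import Cfsg.Agent.BX.No33.T.D77
import Cfsg.Agent.BX.No33.T.D78
import Cfsg.Agent.BX.No33.T.D79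
import Cfsg.Agent.BX.No33.T.D80
import Cfsg.Agent.BX.No33.T.D81
import Cfsg.Agent.BX.No33.T.D82
import Cfsg.Agent.BX.No33.T.D83
import Cfsg.Agent.BX.No33.T.D84
import Cfsg.Agent.BX.No33.T.D85
import Cfsg.Agent.BX.No33.T.D86
import Cfsg.Agent.BX.No33.T.D87
import Cfsg.Agent.BX.No33.T.D88
import Cfsg.Agent.BX.No33.T.D89
import Cfsg.Agent.BX.No33.T.D90
import Cfsg.Agent.BX.No33.T.D91
import Cfsg.Agent.BX.No33.T.P0
import Cfsg.Agent.BX.No33.T.P1
import Cfsg.Agent.BX.No33.T.P2
import Cfsg.Agent.BX.No33.T.P3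
import Cfsg.Agent.BX.No33.T.P4
import Cfsg.Agent.BX.No33.T.P5
import Cfsg.Agent.BX.No33.T.P6
import Cfsg.Agent.BX.No33.T.P7
import Cfsg.Agent.BX.No33.T.P8
import Cfsg.Agent.BX.No33.T.P9
import Cfsg.Agent.BX.No33.T.P10
import Cfsg.Agent.BX.No33.T.P11
import Cfsg.Agent.BX.No33.T.P12
import Cfsg.Agent.BX.No33.T.P13
import Cfsg.Agent.BX.No33.T.P14
import Cfsg.Agent.BX.No33.T.P15
import Cfsg.Agent.BX.No33.T.P16
import Cfsg.Agent.BX.No33.T.P17
import Cfsg.Agent.BX.No33.T.P18
import Cfsg.Agent.BX.No33.T.P19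
import Cfsg.Agent.BX.No33.T.P20
import Cfsg.Agent.BX.No33.T.P21
import Cfsg.Agent.BX.No33.T.P22
import Cfsg.Agent.BX.No33.T.P23
import Cfsg.Agent.BX.No33.T.P24
import Cfsg.Agent.BX.No33.T.P25
import Cfsg.Agent.BX.No33.T.P26
import Cfsg.Agent.BX.No33.T.P27
import Cfsg.Agent.BX.No33.T.P28
import Cfsg.Agent.BX.No33.T.P29
import Cfsg.Agent.BX.No33.T.P30
import Cfsg.Agent.BX.No33.T.P31
import Cfsg.Agent.BX.No33.T.P32
import Cfsg.Agent.BX.No33.T.P33
import Cfsg.Agent.BX.No33.T.P34
import Cfsg.Agent.BX.No33.T.P35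
set_option linter.all false

/-!
# All the tests (helper5; generated)
-/

set_option autoImplicit false
set_option maxRecDepth 100000

namespace Cfsg.Agent.BX.No33.Bk

open Cfsg.Agent.H819.U33 Cfsg.Agent.BX.No33.Front

theorem allD : AllG F (g wAd) LD :=
  D0.all.append (D1.all.append (D2.all.append (D3.all.append (D4.all.append (D5.all.append (D6.all.append
   (D7.all.append (D8.all.append (D9.all.append (D10.all.append (D11.all.append (D12.all.append (D13.all.append
   (D14.all.append (D15.all.append (D16.all.append (D17.all.append (D18.all.append (D19.all.append (D20.all.append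
   (D21.all.append (D22.all.append (D23.all.append (D24.all.append (D25.all.append (D26.all.append (D27.all.append
   (D28.all.append (D29.all.append (D30.all.append (D31.all.append (D32.all.append (D33.all.append (D34.all.append
   (D35.all.append (D36.all.append (D37.all.append (D38.all.append (D39.all.append (D40.all.append (D41.all.append
   (D42.all.append (D43.all.append (D44.all.append (D45.all.append (D46.all.append (D47.all.append (D48.all.append
   (D49.all.append (D50.all.append (D51.all.append (D52.all.append (D53.all.append (D54.all.append (D55.all.append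
   (D56.all.append (D57.all.append (D58.all.append (D59.all.append (D60.all.append (D61.all.append (D62.all.append
   (D63.all.append (D64.all.append (D65.all.append (D66.all.append (D67.all.append (D68.all.append (D69.all.append
   (D70.all.append (D71.all.append (D72.all.append (D73.all.append (D74.all.append (D75.all.append (D76.all.append
   (D77.all.append (D78.all.append (D79.all.append (D80.all.append (D81.all.append (D82.all.append (D83.all.append
   (D84.all.append (D85.all.append (D86.all.append (D87.all.append (D88.all.append (D89.all.append (D90.all.append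
   (D91.all)))))))))))))))))))))))))))))))))))))))))))))))))))))))))))))))))))))))))))))))))))))))))))

/-- **The tests.** -/
theorem goodD : ∀ q ∈ LD, Gd F (g wAd) q.1 q.2 := allD

theorem allP : AllG F (g wAp) LP :=
  P0.all.append (P1.all.append (P2.all.append (P3.all.append (P4.all.append (P5.all.append (P6.all.append
   (P7.all.append (P8.all.append (P9.all.append (P10.all.append (P11.all.append (P12.all.append (P13.all.append
   (P14.all.append (P15.all.append (P16.all.append (P17.all.append (P18.all.append (P19.all.append (P20.all.append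
   (P21.all.append (P22.all.append (P23.all.append (P24.all.append (P25.all.append (P26.all.append (P27.all.append
   (P28.all.append (P29.all.append (P30.all.append (P31.all.append (P32.all.append (P33.all.append (P34.all.append
   (P35.all)))))))))))))))))))))))))))))))))))

/-- **The tests.** -/
theorem goodP : ∀ q ∈ LP, Gd F (g wAp) q.1 q.2 := allP

end Cfsg.Agent.BX.No33.Bk
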