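import Cfsg.Agent.BX.No33.CovDef
set_option linter.all false

/-!
# No maximal `L₃(3)` : the data (helper13)

`fSd`, `fSp` : words in the frame at `y` for the elements centralising `y` and normalising `⟨A⟩` (diagonal and pure case).
`fc k` : the two classes of involutions of `N(⟨y⟩)` inverting `y` up to `O₃`; `fe k i` : a basis of `[O₃, fc k]` modulo `y`.
`wg k` conjugates `fc k`, `fe k i` to the short words `wc k`, `we k i`.
-/

set_option autoImplicit false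

namespace Cfsg.Agent.BX.No33.Base

open Cfsg.Agent.BabyM.Conc (Ltr)

/-- frame word, squares the diagonal element of order 13 -/
def fhd : FW :=
  [(0, 2), (1, 2), (2, 2), (3, 2), (7, 1), (13, 1), (16, 1), (17, 1), (16, 1), (17, 1), (16, 1), (15, 1), (15, 1),
   (15, 1), (16, 1), (0, 1), (1, 1), (0, 2), (1, 2), (0, 1), (1, 1), (0, 2), (1, 2)]

/-- frame word, squares the pure element of order 13 -/
def fhp : FW :=
  [(17, 1), (15, 1), (15, 1), (15, 1), (17, 1), (17, 1), (17, 1), (14, 1), (0, 1), (1, 1), (0, 2), (1, 2)]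

/-- frame word, centralises the pure element of order 13 -/
def fs1 : FW :=
  [(17, 1), (15, 1), (11, 1), (15, 1), (12, 1), (16, 1), (17, 1), (17, 1), (17, 1), (16, 1), (15, 1), (0, 1), (1,
   1), (0, 2), (1, 2)]

/-- frame word, centralises the pure element of order 13 -/
def fs2 : FW :=
  [(17, 1), (15, 1), (17, 1), (17, 1), (17, 1), (10, 1), (15, 1), (15, 1), (17, 1), (15, 1), (17, 1)]

/-- the symmetries, diagonal case -/
def fSd : List FW := [fhd]

/-- the symmetries, pure case -/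
def fSp : List FW := [fhp, fs1, fs2]

/-- short word for `fhd` -/
def whd : List Ltr :=
  [.z, .Z10, .Z8, .Z6, .Z5, .Z0, .X8, .X7, .X6, .X3, .X2, .X1, .X0, .y9, .y5, .y2, .y1, .p10, .hi, .p8, .hi, .p3,
   .hi, .p9, .hi, .p3, .hi, .p3, .hi, .p8, .xii, .hi, .xii, .p8, .y2, .tau, .X0, .p4, .xii, .p10, .xii, .y6, .p3,
   .hi, .p5, .tau, .p2, .xii, .p7, .xii, .y7, .p6, .y8, .taui, .xii, .p9, .xii, .y5, .p3, .y3, .xii, .y7, .taui,
   .xii, .p10, .xii, .y8]

/-- short word for `fs2` -/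
def ws2 : List Ltr :=
  [.Z9, .Z8, .Z7, .Z5, .Z4, .Z3, .Z2, .Z1, .Z0, .X6, .X4, .X1, .y10, .y9, .y5, .y4, .y3, .p6, .hi, .p8, .hi, .p5,
   .hi, .p3, .hi, .p4, .hi, .p3, .xii, .p10, .hi, .p2, .hi, .p10, .taui, .xii, .y1, .p3, .hi, .xii, .y1, .p10,
   .taui, .X0, .p9, .xii, .p3, .hi, .y7, .p8, .taui, .xii, .y2, .hi, .p5]

/-- an involution inverting `y` -/
def fc0 : FW :=
  [(0, 2), (1, 2), (2, 2), (5, 2), (6, 1), (7, 1), (13, 1), (16, 1), (16, 1), (15, 1), (16, 1), (10, 1), (15, 1),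
   (17, 1), (17, 1), (15, 1), (17, 1), (16, 1), (16, 1)]

/-- an element of `O₃` -/
def fe00 : FW :=
  [(0, 2), (1, 2), (4, 2), (6, 2), (7, 1), (0, 1), (1, 1), (0, 2), (1, 2)]

/-- an element of `O₃` -/
def fe01 : FW :=
  [(0, 1), (3, 2), (4, 2), (7, 2), (0, 1), (1, 1), (0, 2), (1, 2)]

/-- an element of `O₃` -/
def fe02 : FW :=
  [(1, 2), (2, 2), (3, 2), (4, 2), (5, 2), (6, 1)]

/-- an element of `O₃` -/
def fe03 : FW :=
  [(0, 1), (2, 1), (5, 2), (7, 1), (0, 1), (1, 1), (0, 2), (1, 2), (0, 1), (1, 1), (0, 2), (1, 2)]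

/-- an involution inverting `y` -/
def fc1 : FW :=
  [(0, 1), (2, 1), (3, 1), (4, 2), (6, 2), (7, 2), (8, 1), (16, 1), (15, 1), (17, 1), (15, 1), (17, 1), (14, 1),
   (17, 1), (15, 1), (16, 1), (17, 1), (17, 1), (15, 1), (0, 1), (1, 1), (0, 2), (1, 2)]

/-- an element of `O₃` -/
def fe10 : FW :=
  [(0, 1), (1, 2), (2, 2), (4, 2), (5, 2), (7, 1), (0, 1), (1, 1), (0, 2), (1, 2), (0, 1), (1, 1), (0, 2), (1, 2)]

/-- an element of `O₃` -/
def fe11 : FW :=
  [(1, 1), (2, 1), (3, 1), (4, 2), (5, 1), (0, 1), (1, 1), (0, 2), (1, 2), (0, 1), (1, 1), (0, 2), (1, 2)]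

/-- an element of `O₃` -/
def fe12 : FW :=
  [(0, 1), (1, 1), (3, 2), (4, 2), (5, 1), (6, 1)]

/-- an element of `O₃` -/
def fe13 : FW :=
  [(0, 1), (1, 1), (3, 1), (4, 2), (5, 2), (7, 2), (0, 1), (1, 1), (0, 2), (1, 2)]

/-- the involutions -/
def fc : Fin 2 → FW := ![fc0, fc1]

/-- the bases -/
def fe : Fin 2 → Fin 4 → FW := ![![fe00, fe01, fe02, fe03], ![fe10, fe11, fe12, fe13]]

/-- the conjugating element -/
def wg0 : List Ltr :=
  [.Z10, .Z9, .Z7, .Z0, .X10, .X6, .X4, .X3, .X2, .y10, .y9, .y7, .y6, .y4, .y2, .p3, .hi, .p9, .hi, .p, .hi, .p4,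
   .hi, .p, .hi, .p9, .xii, .p, .xii, .y6, .p9, .xii, .y8, .y10, .tau, .xii, .y6, .p, .xii, .p, .xii, .y5, .y8,
   .tau, .X0, .xii, .p4, .xii, .y4, .p8, .xii, .y1, .y4, .y9, .tau, .xii, .p7, .xii, .y2, .y10, .p9, .xii, .y7,
   .y10, .taui, .xii, .p]

/-- the involution in the cheap position -/
def wc0 : List Ltr :=
  [.Z2, .Z1, .X10, .p5, .hi, .p5, .hi, .p3, .hi, .p5, .hi, .p9]

/-- a basis element in the cheap position -/
def we00 : List Ltr :=
  [.Z10, .Z7, .X10, .X9, .X7, .X6, .X5, .X3, .X1, .y9, .y8, .y6, .y3, .hi, .p7, .hi, .p3, .hi, .p6, .hi, .p10, .xii,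
   .p10, .xii, .y2, .tau, .xii, .p, .xii, .y6, .hi, .p, .hi, .p7]

/-- a basis element in the cheap position -/
def we01 : List Ltr :=
  [.Z7, .Z2, .hi, .p9, .hi, .p4, .hi, .p10, .hi, .p, .hi, .p, .hi, .p4]

/-- a basis element in the cheap position -/
def we02 : List Ltr :=
  [.Z5, .Z0, .hi, .p, .hi, .p10]

/-- a basis element in the cheap position -/
def we03 : List Ltr :=
  [.tau]

/-- the conjugating element -/
def wg1 : List Ltr :=
  [.Z10, .Z9, .Z7, .Z6, .Z4, .Z3, .Z0, .X10, .X7, .X6, .X4, .X3, .X2, .X1, .X0, .y7, .y6, .y4, .y3, .y1, .p10, .hi,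
   .p8, .hi, .p8, .hi, .p8, .hi, .p7, .hi, .p2, .hi, .xii, .y2, .hi, .p8, .xii, .y2, .taui, .xii, .p, .xii, .hi,
   .y8, .xii, .y3, .y9, .taui, .xii, .p8, .xii, .p4, .y5, .xii, .y7, .p6, .y8, .taui, .xii, .p9, .xii, .y9, .y10,
   .p3, .xii, .y10, .tau, .xii, .hi, .p9]

/-- the involution in the cheap position -/
def wc1 : List Ltr :=
  [.Z9, .Z8, .Z5, .Z3, .X9, .X6, .X1, .y10, .y3, .y1, .hi, .p5, .hi, .p6, .hi, .p5, .hi, .p7, .hi, .p5, .xii, .p10,
   .xii, .y2, .tau, .xii, .p, .xii, .y6, .p5]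

/-- a basis element in the cheap position -/
def we10 : List Ltr :=
  [.Z8, .Z7, .Z6, .Z4, .Z0, .X8, .X4, .X1, .X0, .y7, .y4, .y1, .p6, .hi, .p6, .hi, .p8, .hi, .p10, .hi, .p10, .hi,
   .p5, .hi, .xii, .p10, .xii, .y4, .tau, .p5, .xii, .p, .y5, .xii, .y10, .hi, .p7, .tau, .xii, .p, .xii, .y6, .p4]

/-- a basis element in the cheap position -/
def we11 : List Ltr :=
  [.z, .Z9, .Z8, .Z7, .Z2, .Z1, .X10, .X5, .y10, .y8, .y6, .y5, .y3, .p10, .hi, .p, .hi, .p3, .xii, .p, .xii, .y10,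
   .p4, .taui, .X0, .p7, .xii, .p10, .xii, .p8, .y3]

/-- a basis element in the cheap position -/
def we12 : List Ltr :=
  [.Z5, .Z0, .hi, .p, .hi, .p10]

/-- a basis element in the cheap position -/
def we13 : List Ltr :=
  [.tau]

/-- the conjugating elements -/
def wg : Fin 2 → List Ltr := ![wg0, wg1]

/-- the involutions in the cheap position -/
def wc : Fin 2 → List Ltr := ![wc0, wc1]

/-- the bases in the cheap position -/
def we : Fin 2 → Fin 4 → List Ltr := ![![we00, we01, we02, we03], ![we10, we11, we12, we13]]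

end Cfsg.Agent.BX.No33.Base
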