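import Cfsg.Agent.BX.Cov.K
import Cfsg.Agent.BX.Frame.Fr3W
set_option linter.all false

/-!
# The covering of the involutions inverting `y`: the statement in the model (helper9)
-/

set_option autoImplicit false

namespace Cfsg.Agent.BX.No33

open Subgroup Cfsg.Agent.BX.Cov Cfsg.Agent.BX.Frame.Fr3

/-- words in the generators of the frame -/
abbrev FW : Type := List (Fin 18 × ℕ)

/-- every involution of `N(⟨y⟩)/⟨y⟩` with multiplier `≠ 1` is conjugate to a listed element by a listed word times an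
element of the group generated by `fS` -/
def CoverM (fS : List FW) (L : List (Fin 2 × FW)) (fc : Fin 2 → FW) (fe : Fin 2 → Fin 4 → FW) : Prop :=
  ∀ (H : Type) [Group H] [Finite H] (gen : Fin 18 → H) (ρ : H →* Matrix (Fin 9) (Fin 9) (ZMod 3)),
    Function.Injective ρ → (∀ i, ρ (gen i) = M3 i) → closure (Set.range gen) = ⊤ → ¬ 2 ^ 15 ∣ Nat.card H →
    ∀ c : H, c ^ 2 = 1 → ρ c 8 8 ≠ 1 → ∃ s ∈ gp gen fS, ∃ p ∈ L, ∃ i j l m : ℕ, i < 3 ∧ j < 3 ∧ l < 3 ∧ m < 3 ∧
      c = (ev gen p.2 * s)⁻¹ * (ev gen (fc p.1) * ev gen (fe p.1 0) ^ i * ev gen (fe p.1 1) ^ j *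
        ev gen (fe p.1 2) ^ l * ev gen (fe p.1 3) ^ m) * (ev gen p.2 * s) ∧ ρ (ev gen p.2) 8 8 = 1

end Cfsg.Agent.BX.No33

private theorem eqs_bx9_covdef : _root_.True := by
  try have : _root_.True := by simp only [_root_.Cfsg.Agent.BX.No33.CoverM.eq_1]
  try have : _root_.True := by simp only [_root_.Cfsg.Agent.BX.No33.FW.eq_1]
  exact _root_.True.intro
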