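import Cfsg.Agent.BX.No33.Test
import Cfsg.Agent.BX.No33.CovDef
import Cfsg.Agent.BX.Frame.Fr3
set_option linter.all false

/-!
# Blocks of tests (helper5)

`Gd F A p ex` : no involution of the block `p` with a code outside `ex` commutes with one of its conjugates by the
powers of `A`.  `good9`, `good3` : a block from the check of its words and nine or three runs.
-/

set_option autoImplicit false

namespace Cfsg.Agent.BX.No33.Bk

open Cfsg.Agent.BMx.Fast Cfsg.Agent.H819.U33 Cfsg.Agent.Monster.VecEngine Cfsg.Agent.BX.Cov Cfsg.Agent.BX.Frame.Fr3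
open Cfsg.Agent.BabyM.Conc (Ltr)
open Cfsg.Agent.H863.U33 (wy1)

/-- the two involutions and the bases of their fibres, as words of the frame and as cheap words -/
structure Frm where
  fc : Fin 2 → FW
  fe : Fin 2 → Fin 4 → FW
  wg : Fin 2 → List Ltr
  wc : Fin 2 → List Ltr
  we : Fin 2 → Fin 4 → List Ltr
  wp : Fin 2 → ℕ → ℕ → List Ltr

/-- the cheap words are conjugate to the words of the frame -/
structure Frm.Ok (F : Frm) : Prop where
  hc : ∀ k, ev gen3 (F.fc k) = g (F.wg k) * g (F.wc k) * (g (F.wg k))⁻¹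
  he : ∀ k i, ev gen3 (F.fe k i) = g (F.wg k) * g (F.we k i) * (g (F.wg k))⁻¹
  hp : ∀ k, ∀ i < 3, ∀ j < 3, g (F.wp k i j) = g (F.wc k) * g (F.we k 0) ^ i * g (F.we k 1) ^ j

/-- what a block proves -/
def Gd (F : Frm) (A : G) (p : Fin 2 × FW) (ex : List ℕ) : Prop :=
  ∀ i j l m : ℕ, i < 3 → j < 3 → l < 3 → m < 3 → 27 * i + 9 * j + 3 * l + m ∉ ex → ∀ (n : ℕ) (c : G),
    c = (ev gen3 p.2)⁻¹ * (ev gen3 (F.fc p.1) * ev gen3 (F.fe p.1 0) ^ i * ev gen3 (F.fe p.1 1) ^ j *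
      ev gen3 (F.fe p.1 2) ^ l * ev gen3 (F.fe p.1 3) ^ m * g wy1 ^ n) * ev gen3 p.2 →
    Commute (ev gen3 p.2) (g wy1) → c ^ 2 = 1 → (c * g wy1) ^ 2 = 1 →
    ∀ t : ℕ, ¬ 13 ∣ t → ¬ Commute c ((A ^ t)⁻¹ * c * A ^ t)

/-- the words of a block: `X`, `X⁻¹ A X` and its seventh power -/
structure Wd where
  k : Fin 2
  fw : FW
  wX : List Ltr
  wA : List Ltr
  wA7 : List Ltr

/-- the check of the words of a block; `w7` is the word of the seventh power of `w1` -/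
noncomputable def hdB (F : Frm) (w1 w7 : List Ltr) (b : Wd) : Bool :=
  and (eqF (evw b.fw ++ b.wX) (F.wg b.k)) (hd w1 w7 b.wX b.wA b.wA7)

/-- what the check of the words gives -/
structure Hd (F : Frm) (A : G) (b : Wd) : Prop where
  hX : ev gen3 b.fw * g b.wX = g (F.wg b.k)
  hA : g b.wA = (g b.wX)⁻¹ * A * g b.wX
  h7 : g b.wA7 = g b.wA ^ 7

theorem hd_of {F : Frm} {w1 w7 : List Ltr} (h7 : g w7 = g w1 ^ 7) {b : Wd} (h : hdB F w1 w7 b = true) : Hd F (g w1) b := by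
  unfold hdB at h
  rw [Bool.and_eq_true] at h
  have h1 := eq_of_eqF h.1
  rw [g_append, g_evw] at h1
  exact ⟨h1, (hd_sound h7 h.2).1, (hd_sound h7 h.2).2⟩

/-- what the runs prove, in the cheap frame -/
def Run (F : Frm) (A : G) (b : Wd) (i j l m : ℕ) : Prop :=
  ∀ (n : ℕ) (c : G), c = g b.wX * (g (F.wc b.k) * g (F.we b.k 0) ^ i * g (F.we b.k 1) ^ j * g (F.we b.k 2) ^ l *
    g (F.we b.k 3) ^ m) * (g b.wX)⁻¹ * g wy1 ^ n → c ^ 2 = 1 → (c * g wy1) ^ 2 = 1 →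
    ∀ t : ℕ, ¬ 13 ∣ t → ¬ Commute c ((A ^ t)⁻¹ * c * A ^ t)

theorem good_of_run {F : Frm} (hF : F.Ok) {A : G} {b : Wd} (h : Hd F A b) {ex : List ℕ}
    (hr : ∀ i j l m : ℕ, i < 3 → j < 3 → l < 3 → m < 3 → 27 * i + 9 * j + 3 * l + m ∉ ex → Run F A b i j l m) :
    Gd F A (b.k, b.fw) ex := by
  intro i j l m hi hj hl hm hex n c hc hw c2 cy
  refine hr i j l m hi hj hl hm hex n c ?_ c2 cy
  have h1 : g b.wX = (ev gen3 b.fw)⁻¹ * g (F.wg b.k) := by rw [← h.hX, inv_mul_cancel_left]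
  have h2 : g wy1 ^ n * ev gen3 b.fw = ev gen3 b.fw * g wy1 ^ n := (Commute.pow_right hw n).eq.symm
  rw [hc, h1]
  simp only [hF.hc, hF.he, conj_pow]
  generalize g wy1 ^ n = Y at h2 ⊢
  generalize g (F.we b.k 0) ^ i = E0
  generalize g (F.we b.k 1) ^ j = E1
  generalize g (F.we b.k 2) ^ l = E2
  generalize g (F.we b.k 3) ^ m = E3
  generalize g (F.wc b.k) = C
  generalize g (F.wg b.k) = Γ
  generalize ev gen3 b.fw = W at h2 ⊢
  simp only [mul_assoc, h2, inv_mul_cancel_left, mul_inv_rev, inv_inv]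

/-- one run of nine tests -/
noncomputable def r9 (F : Frm) (p q : Pl) (b : Wd) (i j : ℕ) (skip : List ℕ) : Bool :=
  blk p q b.wX b.wA b.wA7 [F.we b.k 2, F.we b.k 3] skip (F.wp b.k i j)

/-- a run of nine tests with some pair of vectors -/
def R9 (F : Frm) (A : G) (b : Wd) (ex : List ℕ) (i j : ℕ) : Prop :=
  ∃ (p q : Pl) (skip : List ℕ), Start A (g wy1) p q ∧ r9 F p q b i j skip = true ∧ ∀ s ∈ skip, 27 * i + 9 * j + s ∈ ex

theorem R9.of {F : Frm} {A : G} {b : Wd} {ex : List ℕ} {i j : ℕ} {p q : Pl} (S : Start A (g wy1) p q)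
    (h : r9 F p q b i j [] = true) : R9 F A b ex i j :=
  ⟨p, q, [], S, h, fun _ hs => absurd hs List.not_mem_nil⟩

theorem R9.of' {F : Frm} {A : G} {b : Wd} {ex : List ℕ} {i j : ℕ} {p q : Pl} (S : Start A (g wy1) p q) {skip : List ℕ}
    (h : r9 F p q b i j skip = true) (hs : ∀ s ∈ skip, 27 * i + 9 * j + s ∈ ex) : R9 F A b ex i j :=
  ⟨p, q, skip, S, h, hs⟩

theorem R9.run {F : Frm} (hF : F.Ok) {A : G} {b : Wd} (h : Hd F A b) {ex : List ℕ} {i j : ℕ} (hr : R9 F A b ex i j)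
    {l m : ℕ} (hi : i < 3) (hj : j < 3) (hl : l < 3) (hm : m < 3) (hex : 27 * i + 9 * j + 3 * l + m ∉ ex) : Run F A b i j l m := by
  obtain ⟨p, q, skip, S, h1, h2⟩ := hr
  intro n c hc c2 cy t ht
  refine blk_sound S h.hA h.h7 h1 [l, m] rfl ?_ (fun h3 => hex ?_) c n ?_ c2 cy t ht
  · intro d hd
    simp only [List.mem_cons, List.not_mem_nil, or_false] at hd
    rcases hd with rfl | rfl
    exacts [hl, hm]
  · have h4 := h2 _ h3
    have h5 : code [l, m] = 3 * l + m := by simp [code]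
    rwa [h5, ← Nat.add_assoc] at h4
  · have h5 : pe [F.we b.k 2, F.we b.k 3] [l, m] = g (F.we b.k 2) ^ l * g (F.we b.k 3) ^ m := by
      rw [pe_cons, pe_cons, pe_nil, mul_one]
    rw [hc, h5, hF.hp _ i hi j hj]
    simp only [mul_assoc]

/-- **A block from nine runs.** -/
theorem good9 {F : Frm} (hF : F.Ok) {A : G} {b : Wd} (h : Hd F A b) {ex : List ℕ}
    (h0 : R9 F A b ex 0 0) (h1 : R9 F A b ex 0 1) (h2 : R9 F A b ex 0 2)
    (h3 : R9 F A b ex 1 0) (h4 : R9 F A b ex 1 1) (h5 : R9 F A b ex 1 2)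
    (h6 : R9 F A b ex 2 0) (h7 : R9 F A b ex 2 1) (h8 : R9 F A b ex 2 2) : Gd F A (b.k, b.fw) ex := by
  refine good_of_run hF h fun i j l m hi hj hl hm hex => R9.run hF h ?_ hi hj hl hm hex
  have e1 : i = 0 ∨ i = 1 ∨ i = 2 := by omega
  have e2 : j = 0 ∨ j = 1 ∨ j = 2 := by omega
  rcases e1 with rfl | rfl | rfl <;> rcases e2 with rfl | rfl | rfl <;> assumption

/-- one run of 27 tests -/
noncomputable def r27 (F : Frm) (p q : Pl) (b : Wd) (i : ℕ) (skip : List ℕ) : Bool :=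
  blk p q b.wX b.wA b.wA7 [F.we b.k 1, F.we b.k 2, F.we b.k 3] skip (F.wp b.k i 0)

/-- a run of 27 tests with some pair of vectors -/
def R27 (F : Frm) (A : G) (b : Wd) (ex : List ℕ) (i : ℕ) : Prop :=
  ∃ (p q : Pl) (skip : List ℕ), Start A (g wy1) p q ∧ r27 F p q b i skip = true ∧ ∀ s ∈ skip, 27 * i + s ∈ ex

theorem R27.of {F : Frm} {A : G} {b : Wd} {ex : List ℕ} {i : ℕ} {p q : Pl} (S : Start A (g wy1) p q)
    (h : r27 F p q b i [] = true) : R27 F A b ex i :=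
  ⟨p, q, [], S, h, fun _ hs => absurd hs List.not_mem_nil⟩

theorem R27.of' {F : Frm} {A : G} {b : Wd} {ex : List ℕ} {i : ℕ} {p q : Pl} (S : Start A (g wy1) p q) {skip : List ℕ}
    (h : r27 F p q b i skip = true) (hs : ∀ s ∈ skip, 27 * i + s ∈ ex) : R27 F A b ex i :=
  ⟨p, q, skip, S, h, hs⟩

theorem R27.run {F : Frm} (hF : F.Ok) {A : G} {b : Wd} (h : Hd F A b) {ex : List ℕ} {i : ℕ} (hr : R27 F A b ex i)
    {j l m : ℕ} (hi : i < 3) (hj : j < 3) (hl : l < 3) (hm : m < 3) (hex : 27 * i + 9 * j + 3 * l + m ∉ ex) :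
    Run F A b i j l m := by
  obtain ⟨p, q, skip, S, h1, h2⟩ := hr
  intro n c hc c2 cy t ht
  refine blk_sound S h.hA h.h7 h1 [j, l, m] rfl ?_ (fun h3 => hex ?_) c n ?_ c2 cy t ht
  · intro d hd
    simp only [List.mem_cons, List.not_mem_nil, or_false] at hd
    rcases hd with rfl | rfl | rfl
    exacts [hj, hl, hm]
  · have h4 := h2 _ h3
    have h5 : 27 * i + code [j, l, m] = 27 * i + 9 * j + 3 * l + m := by
      simp [code]
      omega
    rwa [h5] at h4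
  · have h5 : pe [F.we b.k 1, F.we b.k 2, F.we b.k 3] [j, l, m] =
        g (F.we b.k 1) ^ j * (g (F.we b.k 2) ^ l * g (F.we b.k 3) ^ m) := by
      rw [pe_cons, pe_cons, pe_cons, pe_nil, mul_one]
    rw [hc, h5, hF.hp _ i hi 0 (by norm_num)]
    simp only [mul_assoc, pow_zero, mul_one, one_mul]

/-- **A block from three runs.** -/
theorem good3 {F : Frm} (hF : F.Ok) {A : G} {b : Wd} (h : Hd F A b) {ex : List ℕ}
    (h0 : R27 F A b ex 0) (h1 : R27 F A b ex 1) (h2 : R27 F A b ex 2) : Gd F A (b.k, b.fw) ex := by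
  refine good_of_run hF h fun i j l m hi hj hl hm hex => R27.run hF h ?_ hi hj hl hm hex
  have e1 : i = 0 ∨ i = 1 ∨ i = 2 := by omega
  rcases e1 with rfl | rfl | rfl <;> assumption

/-- all the blocks of a list -/
def AllG (F : Frm) (A : G) (L : List ((Fin 2 × FW) × List ℕ)) : Prop := ∀ q ∈ L, Gd F A q.1 q.2

theorem AllG.nil {F : Frm} {A : G} : AllG F A [] := fun _ h => absurd h List.not_mem_nil

theorem AllG.cons {F : Frm} {A : G} {p : Fin 2 × FW} {ex : List ℕ} {L : List ((Fin 2 × FW) × List ℕ)}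
    (h : Gd F A p ex) (hL : AllG F A L) : AllG F A ((p, ex) :: L) := by
  intro q hq
  rcases List.mem_cons.1 hq with rfl | hq
  exacts [h, hL q hq]

theorem AllG.append {F : Frm} {A : G} {L L' : List ((Fin 2 × FW) × List ℕ)} (h : AllG F A L) (h' : AllG F A L') :
    AllG F A (L ++ L') := fun q hq => (List.mem_append.1 hq).elim (h q) (h' q)

end Cfsg.Agent.BX.No33.Bk
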