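import Cfsg.Agent.BX.No33.CovB
import Cfsg.Agent.BX.No33.CovT1
import Cfsg.Agent.BX.No33.CovT2
set_option linter.all false
set_option Elab.async false

/-!
# The diagonal parts of the involutions: the tree is closed under conjugation (helper18)
-/

set_option autoImplicit false
set_option maxRecDepth 100000

namespace Cfsg.Agent.BX.No33.Cv

open Cfsg.Agent.BX.Cov Cfsg.Agent.BX.Frame.Fr3 Cfsg.Agent.Lib.PackMat Cfsg.Agent.Lib.PackMatMul
open Cfsg.Agent.Lib.PackMatOrbit (getO)

/-- the diagonal parts of the involutions -/
noncomputable def TT : Tr :=
  (.node (.node (.node (.node T_llll (nat_lit 0x1020102020101000202000101000102000001000202010100000102010000010202010002020201020002000201010002020101020200020100010002020000010201020001000200010101020202) (nat_lit 3594) (nat_lit 43397) (nat_lit 0) T_lllr) (nat_lit 0x100020100000202010100000001010100020001020102010201000200010002010002010000010202000101000200020001010002000102010202000100020201010002010202020002020202020000) (nat_lit 54026) (nat_lit 1209) (nat_lit 0) (.node T_llrl (nat_lit 0x102020002000201020101010001000102010202020101010200000002020000020101020001010000000202010000000001000202000201000201000102000001010102000001010101010200000102)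 (nat_lit 82945) (nat_lit 34348) (nat_lit 0) T_llrr)) (nat_lit 0x201000200020000010000000102020201020000020002020202020200010201020100020101020100000000020001000001010201010202000100000001000000020000010201010001000101000100) (nat_lit 85891) (nat_lit 41349) (nat_lit 0) (.node (.node T_lrll (nat_lit 0x202020002020000010201010001010000010002020202010102010000010001020001020000010100000100010101020101000201010002000001020002000202000001000202020002020200010100) (nat_lit 86921) (nat_lit 26658) (nat_lit 0) T_lrlr) (nat_lit 0x10001010102010201010002020101020102010100000200020100000201010001000002010202020201020102010102020100020102000200020200010002020100010201000101010101000200020102) (nat_lit 91522) (nat_lit 1029) (nat_lit 0) (.node T_lrrl (nat_lit 0x10100010001010001010000000100020201000000020102000201010101010202020102020000020002010200020202000001000100010001020201000200000201000200000000010202020101010002) (nat_lit 43138) (nat_lit 28835) (nat_lit 0) T_lrrr))) (nat_lit 0x10101020101000100020101010001020202000201000202020100020202020001010201000201000000000200020101000202000001000200010100000201010100020101000201010101010101020002) (nat_lit 95877) (nat_lit 12181)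 (nat_lit 0) (.node (.node (.node T_rlll (nat_lit 0x10200000201010201010101020100000002020002020100010002020200000000000100000001000002010102000102010000000100010100000102010102020001000001010200020001010100000201) (nat_lit 40070) (nat_lit 45249) (nat_lit 0) T_rllr) (nat_lit 0x10202000102020202010102000100000101020102010100000100000201000001010201020200000102020101010101020200010001000102020002010102000102010002020202010202000100000100) (nat_lit 54273) (nat_lit 34493) (nat_lit 0) (.node T_rlrl (nat_lit 0x20000020000000200020101000100020101000101010000010000010201010200020002000102000002000002010102000202010202000201010000010200020102000100010101010201020101000202) (nat_lit 41985) (nat_lit 34438) (nat_lit 0) T_rlrr)) (nat_lit 0x20002000200000101010002010002010202010201020200010002020202010101020000020200020100000000000000000001010101000200020100010102020102010200020100010001000000020000) (nat_lit 79104) (nat_lit 23724) (nat_lit 0) (.node (.node T_rrll (nat_lit 0x20100010202020002000001020202010102010200020000010200010100010102020101000000010202010000020100020002010200010000020202000102020001000100020201010201000002020202) (nat_lit 77446) (nat_lit 26399) (nat_lit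 0) T_rrlr) (nat_lit 0x20102010001010201020100000200020002000101000200020101000000010202010200010100020202020201010100020002000101010001000202000000020101020200020201010100000101020200) (nat_lit 66059) (nat_lit 43285) (nat_lit 0) (.node T_rrrl (nat_lit 0x20201000102010202000002010201000101000000000100010000000002020102010101000000010102000101000200010102020101000001020201000202000002020102000001000202020202010201) (nat_lit 5761) (nat_lit 1667) (nat_lit 0) T_rrrr))))

theorem invs : invC C3 dat TT = true := by decide +kernel

theorem T_llll_cl : T_llll.All (clsP C3 dat TT) := clsC_sound (by decide +kernel)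

theorem T_lllr_cl : T_lllr.All (clsP C3 dat TT) := clsC_sound (by decide +kernel)

theorem T_llrl_cl : T_llrl.All (clsP C3 dat TT) := clsC_sound (by decide +kernel)

theorem T_llrr_cl : T_llrr.All (clsP C3 dat TT) := clsC_sound (by decide +kernel)

theorem T_lrll_cl : T_lrll.All (clsP C3 dat TT) := clsC_sound (by decide +kernel)

theorem T_lrlr_cl : T_lrlr.All (clsP C3 dat TT) := clsC_sound (by decide +kernel)

theorem T_lrrl_cl : T_lrrl.All (clsP C3 dat TT) := clsC_sound (by decide +kernel)

theorem T_lrrr_cl : T_lrrr.All (clsP C3 dat TT) := clsC_sound (by decide +kernel)

theorem T_rlll_cl : T_rlll.All (clsP C3 dat TT) := clsC_sound (by decide +kernel)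

theorem T_rllr_cl : T_rllr.All (clsP C3 dat TT) := clsC_sound (by decide +kernel)

theorem T_rlrl_cl : T_rlrl.All (clsP C3 dat TT) := clsC_sound (by decide +kernel)

theorem T_rlrr_cl : T_rlrr.All (clsP C3 dat TT) := clsC_sound (by decide +kernel)

theorem T_rrll_cl : T_rrll.All (clsP C3 dat TT) := clsC_sound (by decide +kernel)

theorem T_rrlr_cl : T_rrlr.All (clsP C3 dat TT) := clsC_sound (by decide +kernel)

theorem T_rrrl_cl : T_rrrl.All (clsP C3 dat TT) := clsC_sound (by decide +kernel)

theorem T_rrrr_cl : T_rrrr.All (clsP C3 dat TT) := clsC_sound (by decide +kernel)

theorem TT_cl : TT.All (clsP C3 dat TT) :=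
  (Tr.All.node (Tr.All.node (Tr.All.node (Tr.All.node (T_llll_cl) (clsC_sound (by decide +kernel)) (T_lllr_cl)) (clsC_sound (by decide +kernel)) (Tr.All.node (T_llrl_cl) (clsC_sound (by decide +kernel)) (T_llrr_cl))) (clsC_sound (by decide +kernel)) (Tr.All.node (Tr.All.node (T_lrll_cl) (clsC_sound (by decide +kernel)) (T_lrlr_cl)) (clsC_sound (by decide +kernel)) (Tr.All.node (T_lrrl_cl) (clsC_sound (by decide +kernel)) (T_lrrr_cl)))) (clsC_sound (by decide +kernel)) (Tr.All.node (Tr.All.node (Tr.All.node (T_rlll_cl) (clsC_sound (by decide +kernel)) (T_rllr_cl)) (clsC_sound (by decide +kernel)) (Tr.All.node (T_rlrl_cl) (clsC_sound (by decide +kernel)) (T_rlrr_cl))) (clsC_sound (by decide +kernel)) (Tr.All.node (Tr.All.node (T_rrll_cl) (clsC_sound (by decide +kernel)) (T_rrlr_cl)) (clsC_sound (by decide +kernel)) (Tr.All.node (T_rrrl_cl) (clsC_sound (by decide +kernel)) (T_rrrr_cl)))))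

end Cfsg.Agent.BX.No33.Cv
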