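import Cfsg.Agent.BX.No33.CovDef
set_option linter.all false

/-!
# The representatives of the blocks, diagonal case (helper5; generated)
-/

set_option autoImplicit false
set_option maxRecDepth 100000

namespace Cfsg.Agent.BX.No33.Bk

def d0 : FW :=
  [(0,1), (9,1), (15,3), (17,1), (12,1), (0,1), (15,1), (17,1), (16,1), (15,1), (0,1), (15,1), (0,1), (15,1), (0,1),
   (15,1), (0,1), (1,1), (0,2), (1,2)]

def d1 : FW :=
  [(9,1), (15,1), (17,1), (0,1), (15,1), (17,1), (0,1), (15,2), (16,1), (15,1), (0,1), (3,1), (16,1), (9,1), (0,1),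
   (1,1), (0,2), (1,2)]

def d2 : FW :=
  [(0,1), (1,1), (12,1), (17,1), (15,3), (17,1), (15,1), (17,1), (15,1), (17,1), (16,1), (0,1), (12,1), (15,1), (0,1),
   (0,1), (1,1), (0,2), (1,2)]

def d3 : FW :=
  [(9,1), (15,1), (17,1), (12,1), (15,1), (0,1), (15,1), (17,1), (1,1), (15,1), (16,1), (15,2), (1,1), (12,1), (0,2),
   (15,1), (16,1), (0,1), (1,1), (0,2), (1,2)]

def d4 : FW :=
  [(9,1), (15,1), (3,1), (16,1), (17,1), (16,1), (12,1), (1,1), (15,1), (17,1), (15,2), (0,1), (16,1), (15,2), (0,1),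
   (1,1), (0,2), (1,2)]

def d5 : FW :=
  [(0,1), (12,1), (1,1), (15,1), (16,1), (1,1), (9,1), (17,1), (0,1), (17,1), (15,1), (16,1), (15,1), (0,1), (16,1),
   (9,1), (16,1), (15,1), (0,1), (1,1), (0,2), (1,2)]

def d6 : FW :=
  [(16,1), (9,1), (17,1), (16,1), (9,1), (15,1), (0,1), (17,1), (1,1), (15,1), (16,1), (15,1), (0,1), (15,1), (16,1),
   (0,1), (1,1), (0,1), (1,2), (0,2)]

def d7 : FW :=
  [(9,1), (15,2), (12,1), (15,1), (0,1), (17,1), (0,1), (16,1), (9,1), (15,2), (0,1), (15,1), (0,1), (16,2), (9,1),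
   (17,1), (1,1), (0,1), (1,2), (0,2)]

def d8 : FW :=
  [(12,1), (1,1), (16,1), (15,1), (3,1), (17,1), (15,1), (16,2), (17,1), (15,2), (0,1), (15,1), (0,1), (1,1), (0,2),
   (1,2)]

def d9 : FW :=
  [(16,1), (0,1), (9,1), (15,3), (0,1), (15,1), (16,1), (15,1), (12,1), (17,1), (15,1), (17,1), (1,2), (15,2), (1,1),
   (0,1), (1,2), (0,2)]

def d10 : FW :=
  [(9,1), (17,1), (4,2), (12,1), (15,1), (0,2), (15,1), (17,1), (15,2), (17,1), (15,1), (17,1), (15,1), (12,1)]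

def d11 : FW :=
  [(9,1), (15,2), (17,1), (15,1), (16,1), (1,1), (9,1), (15,1), (16,1), (9,1), (8,1), (17,1), (0,2), (16,1), (0,1),
   (15,1)]

def d12 : FW :=
  [(1,2), (12,1), (17,1), (12,1), (16,1), (1,1), (17,1), (15,1), (17,1), (15,1), (0,1), (15,1), (17,1), (15,2)]

def d13 : FW :=
  [(0,1), (9,1), (15,2), (0,1), (15,1), (0,1), (16,1), (15,1), (12,1), (17,1), (0,1), (15,1), (17,1), (0,1), (16,1),
   (15,1), (1,1), (0,1), (1,2), (0,2)]

def d14 : FW :=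
  [(1,1), (9,1), (15,1), (0,2), (12,1), (0,1), (15,1), (16,1), (17,1), (0,1), (12,1), (15,2), (17,1), (15,2), (0,1),
   (15,2), (0,1), (1,1), (0,2), (1,2)]

def d15 : FW :=
  [(9,1), (12,1), (15,2), (12,1), (17,1), (15,1), (0,1), (15,4), (16,1), (0,1), (3,1), (17,1), (0,1), (1,1), (0,1),
   (1,2), (0,2)]

def d16 : FW :=
  [(15,1), (17,1), (15,1), (16,1), (15,1), (0,1), (15,1), (12,1), (15,1), (17,1), (16,2), (15,1), (1,1), (15,1),
   (1,1), (0,1), (1,2), (0,2)]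

def d17 : FW :=
  [(15,2), (16,1), (9,1), (15,3), (1,1), (15,1), (16,1), (0,1), (9,1), (15,2), (12,1), (1,1), (16,1), (15,2)]

def d18 : FW :=
  [(15,1), (0,1), (15,1), (12,1), (15,1), (16,1), (0,1), (9,1), (15,1), (1,1), (15,1), (16,1), (15,3), (0,1), (15,2),
   (16,1), (15,1)]

def d19 : FW :=
  [(1,1), (9,1), (17,1), (16,1), (15,1), (17,1), (0,1), (15,2), (0,1), (15,2), (16,1), (9,1), (17,2), (15,1), (1,1),
   (0,1), (1,1), (0,2), (1,2)]

def d20 : FW :=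
  [(15,1), (0,1), (17,1), (0,1), (17,1), (16,1), (9,1), (15,1), (17,1), (12,1), (15,1), (12,1), (15,1), (0,1), (17,1),
   (15,1), (16,1), (0,1)]

def d21 : FW :=
  [(9,1), (15,1), (0,2), (15,1), (17,1), (15,1), (12,1), (15,2), (16,1), (9,1), (15,1), (12,1), (0,2), (17,1)]

def d22 : FW :=
  [(15,1), (0,1), (1,1), (17,2), (15,1), (17,1), (12,1), (16,1), (0,2), (17,2), (0,1), (17,1), (0,1), (1,1), (0,2),
   (1,2)]

def d23 : FW :=
  [(0,1), (15,1), (1,1), (15,1), (16,1), (0,1), (15,1), (16,1), (15,1), (16,1), (12,1), (15,1), (17,1), (0,1), (15,2),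
   (17,1), (15,1), (0,1), (1,1), (0,2), (1,2)]

def d24 : FW :=
  [(8,1), (17,1), (15,1), (1,1), (12,1), (16,1), (0,2), (15,1), (17,1), (1,1), (16,1), (0,1), (16,1), (15,1), (1,1),
   (0,1), (1,2), (0,2)]

def d25 : FW :=
  [(1,1), (16,1), (15,1), (16,1), (9,1), (16,1), (0,1), (12,1), (16,1), (1,1), (15,1), (16,1), (1,1), (9,1), (16,1),
   (15,1), (1,1), (0,1), (1,2), (0,2)]

def d26 : FW :=
  [(0,1), (15,3), (0,1), (15,2), (16,1), (9,1), (15,1), (0,1), (15,1), (16,1), (1,1), (9,1), (8,1), (17,1), (15,1),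
   (17,1), (15,2), (1,1), (0,1), (1,2), (0,2)]

def d27 : FW :=
  [(1,1), (16,2), (0,1), (15,1), (17,2), (16,1), (9,1), (11,1), (0,1), (15,1), (0,1), (1,1), (0,1), (1,1), (0,2),
   (1,2)]

def d28 : FW :=
  [(9,1), (15,1), (16,1), (15,1), (0,2), (15,1), (1,1), (17,1), (15,1), (16,1), (0,1), (17,1), (15,3), (12,1), (15,2),
   (0,1), (1,1), (0,2), (1,2)]

def d29 : FW :=
  [(0,1), (15,2), (12,1), (15,3), (17,1), (15,1), (0,1), (15,1), (16,1), (15,1), (0,2), (17,1), (16,1)]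

def d30 : FW :=
  [(0,2), (3,1), (16,1), (9,1), (15,2), (17,1), (0,1), (12,1), (15,1), (17,1), (16,1), (0,1), (9,1), (1,1), (0,1),
   (1,2), (0,2)]

def d31 : FW :=
  [(9,1), (15,1), (12,1), (16,1), (17,1), (0,1), (15,2), (17,1), (0,1), (17,1), (15,1), (0,1), (16,1), (9,1), (17,1),
   (0,2), (1,1), (0,1), (1,2), (0,2)]

def d32 : FW :=
  [(16,1), (15,3), (0,2), (16,1), (9,1), (15,1), (16,1), (0,1), (16,1), (9,1), (16,1), (15,1), (1,1), (0,1), (1,2),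
   (0,2)]

def d33 : FW :=
  [(9,1), (16,1), (0,1), (12,1), (15,5), (16,1), (0,1), (17,1), (0,1), (12,1), (15,2), (17,1), (1,1), (0,1), (1,2),
   (0,2)]

def d34 : FW :=
  [(17,1), (12,1), (15,1), (16,1), (17,1), (15,2), (17,1), (1,1), (17,1), (15,1), (16,1), (0,1), (3,1)]

def d35 : FW :=
  [(1,1), (15,2), (17,1), (15,1), (16,1), (1,1), (9,1), (8,1), (16,2), (17,1), (15,1), (0,1), (15,3), (0,1), (1,1),
   (0,2), (1,2)]

def d36 : FW :=
  [(0,1), (15,4), (16,1), (0,2), (9,1), (16,1), (9,1), (15,1), (16,1), (15,5), (1,1), (0,1), (1,2), (0,2)]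

def d37 : FW :=
  [(15,1), (12,1), (0,1), (15,2), (16,1), (15,3), (17,1), (0,1), (15,1), (1,1), (16,1), (1,1), (15,1), (17,1)]

def d38 : FW :=
  [(0,1), (9,1), (15,1), (1,1), (17,2), (16,1), (0,1), (15,1), (1,1), (16,1), (9,1), (17,1), (15,1), (17,1), (12,1),
   (15,1), (0,1), (1,1), (0,2), (1,2)]

def d39 : FW :=
  [(1,1), (15,1), (0,1), (12,1), (16,1), (0,1), (15,4), (17,1), (15,1), (17,1), (15,1), (16,1), (12,1), (15,2), (0,1),
   (15,1)]

def d40 : FW :=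
  [(9,1), (15,1), (16,1), (12,1), (15,4), (17,1), (15,1), (1,1), (17,1), (15,1), (16,1), (15,1), (0,1), (15,2), (0,1),
   (1,1), (0,2), (1,2)]

def d41 : FW :=
  [(9,1), (16,1), (17,1), (12,1), (0,1), (15,1), (16,1), (17,1), (15,1), (0,1), (1,1), (16,1), (15,4)]

def d42 : FW :=
  [(17,1), (16,1), (1,1), (16,2), (12,1), (15,2), (12,1), (15,1), (17,1), (0,1), (15,1), (0,1), (1,1), (0,2), (1,2)]

def d43 : FW :=
  [(9,1), (16,1), (12,1), (0,2), (15,1), (16,1), (0,1), (15,2), (16,1), (0,1), (15,1), (0,1), (15,1), (16,1), (9,1),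
   (15,1)]

def d44 : FW :=
  [(15,1), (17,1), (15,1), (1,1), (15,1), (16,1), (9,1), (17,1), (15,1), (16,1), (1,1), (12,1), (17,2), (1,1), (15,1),
   (1,1), (0,1), (1,2), (0,2)]

def d45 : FW :=
  [(15,1), (12,1), (15,4), (17,1), (15,2), (0,1), (15,1), (17,1), (15,2), (0,1), (15,1), (16,1), (0,1), (2,1), (9,1),
   (8,1), (1,1), (1,1), (0,1), (1,2), (0,2)]

def d46 : FW :=
  [(9,1), (16,1), (15,2), (0,1), (15,3), (16,1), (3,1), (9,1), (15,1), (16,1), (15,2), (0,1), (15,3), (16,1), (12,1)]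

def d47 : FW :=
  [(12,1), (17,1), (0,1), (15,1), (0,1), (15,1), (16,1), (9,1), (15,1), (1,1), (17,1), (0,1), (15,4), (16,1), (0,1),
   (1,1), (0,2), (1,2)]

def d48 : FW :=
  [(2,1), (9,1), (16,1), (0,1), (15,3), (17,1), (15,3), (0,1), (17,1), (15,2), (0,1), (1,1), (0,2), (1,2)]

def d49 : FW :=
  [(1,2), (16,1), (0,1), (17,1), (0,1), (15,4), (17,1), (12,1), (16,1), (1,1), (0,1), (1,1), (0,2), (1,2)]

def d50 : FW :=
  [(16,1), (1,1), (9,1), (17,1), (15,1), (17,1), (12,1), (15,2), (17,1), (0,1), (16,1), (15,1), (0,1), (17,1), (1,1),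
   (0,1), (1,2), (0,2)]

def d51 : FW :=
  [(8,1), (15,2), (16,1), (15,1), (12,1), (16,1), (17,2), (0,2), (16,1), (0,2), (1,1), (0,1), (1,2), (0,2)]

def d52 : FW :=
  [(9,1), (15,1), (0,1), (15,1), (12,1), (16,1), (15,3), (0,1), (15,2), (16,1), (15,1), (16,2), (1,1), (9,1), (15,1),
   (0,1), (1,1), (0,2), (1,2)]

def d53 : FW :=
  [(12,1), (15,1), (16,1), (9,1), (17,1), (0,1), (15,2), (0,1), (15,3), (16,1), (15,1), (17,1), (15,2), (16,1), (0,1),
   (9,1)]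

def d54 : FW :=
  [(9,1), (15,2), (12,1), (17,1), (16,1), (9,1), (16,1), (0,2), (15,1), (16,1), (17,1), (1,2)]

def d55 : FW :=
  [(0,1), (1,1), (16,1), (15,1), (16,3), (9,1), (15,1), (1,1), (16,1), (0,1), (15,2), (12,1), (0,1), (1,1), (0,2),
   (1,2)]

def d56 : FW :=
  [(0,2), (15,1), (16,1), (12,1), (15,1), (0,1), (15,1), (16,1), (9,1), (15,1), (16,1), (17,1), (15,1), (0,1), (17,1),
   (0,1), (15,1)]

def d57 : FW :=
  [(9,1), (15,4), (17,1), (12,1), (1,1), (15,1), (0,1), (16,1), (0,1), (16,1), (9,1), (15,1), (17,1), (15,1), (0,1),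
   (15,1), (0,1), (1,1), (0,2), (1,2)]

def d58 : FW :=
  [(15,2), (16,1), (15,2), (17,1), (12,1), (15,4), (1,1), (16,1), (0,2), (16,1), (9,1), (15,1), (17,1), (1,1), (0,1),
   (1,2), (0,2)]

def d59 : FW :=
  [(1,1), (15,1), (1,1), (12,1), (15,1), (16,2), (9,1), (16,1), (12,1), (15,5)]

def d60 : FW :=
  [(0,1), (9,1), (15,1), (16,1), (15,2), (0,1), (15,1), (0,1), (15,2), (0,1), (16,1), (9,1), (15,2), (17,1), (0,1),
   (15,1), (17,1), (15,1)]

def d61 : FW :=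
  [(15,1), (17,1), (15,1), (0,1), (17,1), (15,1), (17,1), (15,1), (16,1), (9,1), (8,1), (16,1), (0,1), (17,1)]

def d62 : FW :=
  [(0,1), (9,1), (17,1), (0,1), (15,1), (0,1), (16,1), (0,2), (15,1), (17,1), (0,1), (12,1), (15,1)]

def d63 : FW :=
  [(1,1), (3,2), (16,1), (15,2), (17,1), (12,1), (15,1), (0,1), (15,2), (17,1), (12,1), (17,2), (15,1)]

def d64 : FW :=
  [(15,1), (16,1), (1,1), (16,1), (9,1), (17,1), (1,1), (15,2), (16,1), (15,1), (17,1), (0,1), (15,1), (0,1), (11,1),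
   (15,1)]

def d65 : FW :=
  [(0,1), (1,1), (12,1), (0,2), (1,1), (16,1), (17,1), (15,1), (0,1), (15,1), (0,1), (15,2), (17,1), (12,1), (15,1),
   (17,2), (1,1), (0,1), (1,2), (0,2)]

def d66 : FW :=
  [(0,1), (15,1), (17,1), (15,2), (0,1), (12,1), (16,1), (15,2), (0,2), (16,1), (15,1), (0,1), (15,1), (12,1), (15,1),
   (17,1), (1,1), (0,1), (1,2), (0,2)]

def d67 : FW :=
  [(15,2), (1,1), (15,1), (16,1), (15,1), (12,1), (0,1), (16,1), (15,1), (17,1), (0,1), (1,1), (17,1), (16,1), (9,1),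
   (1,1), (0,1), (1,2), (0,2)]

def d68 : FW :=
  [(0,1), (9,1), (15,1), (0,1), (15,1), (0,1), (15,1), (16,2), (0,1), (16,1), (0,1), (12,1), (15,1), (17,1), (0,1),
   (15,1), (17,1), (12,1)]

def d69 : FW :=
  [(16,2), (15,1), (12,1), (15,1), (0,1), (17,1), (0,1), (17,1), (16,1), (1,1), (9,1), (16,1), (0,1), (9,1), (16,1),
   (9,1), (15,1), (1,1), (1,1), (0,1), (1,2), (0,2)]

def d70 : FW :=
  [(3,1), (9,1), (16,1), (9,1), (15,1), (12,1), (15,1), (17,2), (1,1), (16,1), (1,1), (9,1), (16,1), (9,1), (17,2),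
   (1,1), (0,1), (1,2), (0,2)]

def d71 : FW :=
  [(9,1), (16,1), (17,1), (15,2), (0,1), (16,1), (15,2), (0,2), (17,1), (1,1)]

def d72 : FW :=
  [(17,1), (15,2), (17,1), (16,1), (9,1), (15,2), (0,2), (12,1), (15,1), (16,1), (15,1), (1,1), (0,1), (1,2), (0,2)]

def d73 : FW :=
  [(15,1), (16,1), (1,2), (16,1), (0,1), (15,1), (0,1), (16,1), (15,1), (1,1), (12,1), (0,1), (1,1), (0,2), (1,2)]

def d74 : FW :=
  [(16,2), (17,2), (0,1), (15,1), (1,1), (11,1), (16,1), (1,1), (15,1), (16,1), (1,2)]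

def d75 : FW :=
  [(8,1), (0,1), (15,2), (17,1), (15,1), (16,1), (0,1), (1,2), (16,1), (0,1), (17,1), (0,1), (15,1), (0,1), (17,2),
   (0,1), (1,1), (0,2), (1,2)]

def d76 : FW :=
  [(9,1), (16,2), (17,1), (16,1), (0,1), (15,2), (16,1), (3,1), (9,1), (17,1), (15,2), (1,1), (0,1), (1,2), (0,2)]

def d77 : FW :=
  [(9,1), (15,1), (0,1), (12,1), (15,1), (0,1), (16,1), (9,1), (15,2), (0,1), (16,1), (17,1), (15,2), (0,1), (17,1),
   (0,1), (15,1)]

def d78 : FW :=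
  [(15,1), (0,1), (16,1), (15,1), (16,1), (12,1), (0,1), (15,1), (16,1), (9,1), (15,2), (0,1), (15,1), (17,2)]

def d79 : FW :=
  [(9,1), (15,2), (17,1), (16,1), (0,2), (9,1), (16,1), (1,1), (9,1), (15,1), (16,1), (15,1), (0,1), (15,1), (17,1),
   (0,2), (0,1), (1,1), (0,2), (1,2)]

def d80 : FW :=
  [(0,1), (15,1), (17,1), (11,1), (15,1), (16,1), (15,1), (16,1), (15,1), (17,1), (15,1), (0,1), (16,1), (0,1),
   (15,3), (1,1), (0,1), (1,1), (0,2), (1,2)]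

def d81 : FW :=
  [(0,1), (9,1), (12,1), (15,2), (0,1), (16,1), (9,1), (16,1), (9,1), (16,1), (15,2), (17,1), (0,1), (15,2), (0,1),
   (15,2), (17,1), (1,1), (0,1), (1,2), (0,2)]

def d82 : FW :=
  [(9,1), (15,2), (12,1), (15,2), (1,1), (12,1), (0,1), (15,1), (17,1), (16,2), (9,1), (16,1), (17,1), (1,2), (1,1),
   (0,1), (1,2), (0,2)]

def d83 : FW :=
  [(0,1), (9,1), (15,1), (0,1), (15,2), (17,2), (15,1), (16,1), (1,1), (9,1), (11,1), (15,1), (0,2)]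

def d84 : FW :=
  [(17,1), (15,1), (0,1), (1,1), (16,1), (9,1), (17,2), (12,1), (17,1), (0,1), (15,1), (16,1), (0,1), (9,1), (1,1),
   (0,1), (1,2), (0,2)]

def d85 : FW :=
  [(0,1), (17,1), (15,1), (16,1), (0,1), (1,1), (15,1), (16,1), (12,1), (15,3), (17,1), (16,1), (12,1), (15,1), (1,1),
   (0,1), (1,2), (0,2)]

def d86 : FW :=
  [(0,1), (9,1), (17,1), (16,1), (15,1), (17,1), (15,2), (16,1), (15,1), (0,1), (16,1), (9,1), (8,1), (15,3), (0,1)]

def d87 : FW :=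
  [(1,1), (9,1), (15,1), (16,1), (15,2), (16,1), (1,2), (9,1), (16,1), (15,5), (16,1), (1,1), (1,1), (0,1), (1,2),
   (0,2)]

def d88 : FW :=
  [(9,1), (15,1), (0,2), (16,1), (0,1), (17,1), (16,1), (15,1), (16,1), (17,1), (15,2), (0,1), (15,3), (0,1), (1,1),
   (0,2), (1,2)]

def d89 : FW :=
  [(9,1), (15,2), (17,3), (16,1), (0,1), (1,1), (15,1), (16,1), (12,1), (1,1), (17,1), (12,1), (15,1), (1,1), (0,1),
   (1,2), (0,2)]

def d90 : FW :=
  [(15,2), (17,1), (15,1), (16,1), (1,2), (12,1), (15,1), (16,1), (17,1), (0,1), (12,1), (15,3), (1,1)]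

def d91 : FW :=
  [(15,1), (16,1), (15,1), (16,1), (0,1), (15,1), (1,1), (16,1), (9,1), (15,4), (1,1), (17,1), (15,1), (0,1), (17,1)]

def d92 : FW :=
  [(9,1), (15,2), (0,1), (15,1), (17,1), (1,1), (15,1), (16,1), (1,1), (15,1), (16,1), (17,1), (12,1), (15,3)]

def d93 : FW :=
  [(15,2), (3,1), (17,1), (16,1), (9,1), (16,1), (0,1), (9,1), (15,1), (16,1), (9,1), (17,1), (11,1), (15,2), (0,1),
   (15,1), (1,1), (0,1), (1,2), (0,2)]

def d94 : FW :=
  [(9,1), (15,1), (0,1), (15,2), (0,1), (15,1), (16,1), (0,1), (15,4), (12,1), (15,1), (17,1), (15,1), (17,1), (15,1),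
   (0,1), (1,1), (0,1), (1,2), (0,2)]

def d95 : FW :=
  [(0,1), (9,1), (12,1), (17,1), (0,1), (16,1), (1,2), (9,1), (16,1), (15,1), (16,1), (9,1), (17,1), (0,1), (15,2),
   (0,1), (15,1)]

def d96 : FW :=
  [(12,1), (1,1), (17,1), (15,3), (12,1), (16,1), (1,1), (16,2), (15,1), (0,1), (17,1), (15,1), (1,1), (0,1), (1,2),
   (0,2)]

def d97 : FW :=
  [(9,1), (17,1), (1,1), (15,2), (17,1), (15,1), (16,1), (1,2), (15,1), (16,1), (12,1), (15,2), (0,1), (1,1), (0,2),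
   (1,2)]

def d98 : FW :=
  [(1,1), (16,1), (15,1), (0,1), (15,2), (0,1), (15,1), (16,1), (12,1), (0,1), (15,1), (17,1), (15,3), (17,1)]

def d99 : FW :=
  [(9,1), (15,1), (0,1), (16,1), (9,1), (15,1), (16,1), (15,2), (0,1), (16,1), (3,1), (9,1), (15,2), (17,1), (12,1),
   (15,1), (17,1), (1,1), (0,1), (1,2), (0,2)]

def d100 : FW :=
  [(17,1), (15,2), (17,1), (0,1), (15,1), (16,1), (0,1), (12,1), (0,1), (15,1), (16,1), (15,1), (12,1), (0,1), (15,1),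
   (0,1), (1,1), (0,1), (1,2), (0,2)]

def d101 : FW :=
  [(15,3), (12,1), (0,1), (16,1), (1,1), (15,1), (17,1), (16,2), (15,1), (17,1), (1,2), (0,1), (1,1), (0,2), (1,2)]

def d102 : FW :=
  [(0,2), (9,1), (17,2), (16,1), (0,1), (16,1), (1,1), (12,1), (15,2), (16,1), (15,1), (16,1), (0,1), (0,1), (1,1),
   (0,2), (1,2)]

def d103 : FW :=
  [(1,1), (9,1), (15,2), (0,1), (17,1), (15,2), (16,1), (15,1), (16,1), (9,1), (15,1), (1,1), (15,2), (16,1), (9,1),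
   (15,1), (17,1), (0,1), (1,1), (0,1), (1,2), (0,2)]

def d104 : FW :=
  [(15,1), (16,1), (15,1), (17,1), (15,2), (0,1), (16,1), (0,1), (9,1), (15,1), (1,1), (17,1), (15,1)]

def d105 : FW :=
  [(9,1), (11,1), (15,1), (17,1), (0,1), (17,1), (15,1), (16,1), (15,1), (0,1), (16,1), (9,1), (16,1), (15,1), (1,1),
   (0,1), (1,2), (0,2)]

def d106 : FW :=
  [(1,1), (15,1), (0,1), (15,1), (16,1), (0,1), (17,1), (0,1), (16,1), (1,1), (16,1), (12,1), (16,1), (15,1), (17,1),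
   (0,1), (1,1), (0,2), (1,2)]

def d107 : FW :=
  [(0,1), (3,1), (9,1), (15,1), (16,1), (9,1), (17,1), (0,1), (17,1), (15,1), (0,1), (17,1), (15,1), (12,1), (15,1),
   (16,1), (17,1)]

def d108 : FW :=
  [(0,1), (15,2), (0,1), (15,3), (16,1), (15,1), (16,1), (15,2), (16,1), (9,1), (11,1), (15,5), (0,1), (0,1), (1,1),
   (0,2), (1,2)]

def d109 : FW :=
  [(15,1), (17,1), (12,1), (15,3), (0,1), (16,1), (17,1), (15,1), (1,1), (15,2), (0,1), (16,1), (1,1), (9,1), (15,3)]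

def d110 : FW :=
  [(0,1), (1,1), (9,1), (16,1), (15,1), (16,1), (15,1), (16,1), (0,1), (16,1), (0,1), (9,1), (8,1), (15,3), (0,1),
   (16,1), (15,1), (1,1), (0,1), (1,2), (0,2)]

def d111 : FW :=
  [(9,1), (17,1), (15,1), (0,1), (15,1), (1,1), (15,1), (17,1), (16,1), (12,1), (17,2), (15,2), (0,1)]

def d112 : FW :=
  [(9,1), (15,2), (0,1), (15,2), (0,1), (15,1), (17,1), (0,1), (16,1), (0,1), (16,1), (12,1), (16,1), (17,1), (15,1),
   (0,1), (1,1), (0,2), (1,2)]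

def d113 : FW :=
  [(15,1), (17,1), (0,1), (15,2), (16,1), (0,2), (16,1), (15,1), (17,1), (1,1), (16,2), (0,1), (9,1), (8,1), (1,1),
   (0,1), (1,2), (0,2)]

def d114 : FW :=
  [(9,1), (17,1), (16,1), (0,2), (9,1), (16,1), (12,1), (15,2), (16,1), (17,1), (15,1), (1,1), (16,1), (1,1), (0,1),
   (1,1), (0,2), (1,2)]

def d115 : FW :=
  [(9,1), (12,1), (15,2), (12,1), (17,1), (15,4), (0,1), (17,1), (16,1), (0,1), (3,1), (16,2), (15,2), (0,1), (1,1),
   (0,2), (1,2)]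

def d116 : FW :=
  [(9,1), (15,1), (17,1), (0,2), (15,1), (0,1), (16,1), (9,1), (15,2), (16,1), (9,1), (16,1), (0,1), (9,1), (15,1),
   (17,1), (15,2), (1,1)]

def d117 : FW :=
  [(0,1), (16,1), (15,1), (0,1), (15,2), (16,1), (12,1), (16,1), (15,2), (16,1), (0,2), (9,1), (17,2), (0,1), (1,1),
   (0,2), (1,2)]

def d118 : FW :=
  [(0,1), (9,1), (16,1), (9,1), (15,1), (17,1), (3,1), (15,2), (16,1), (9,1), (16,1), (9,1), (17,1), (15,1), (16,1),
   (1,1), (9,1), (8,1), (0,1), (0,1), (1,1), (0,2), (1,2)]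

def d119 : FW :=
  [(9,1), (15,1), (12,1), (0,1), (15,1), (0,1), (15,1), (0,1), (17,2), (16,1), (0,1), (9,1), (15,1), (17,1), (1,1),
   (15,2), (17,1), (0,1), (15,1), (0,1), (1,1), (0,2), (1,2)]

def d120 : FW :=
  [(9,1), (15,1), (1,1), (15,1), (1,1), (17,1), (16,1), (9,1), (15,1), (12,1), (0,1), (17,1), (15,1), (17,1), (15,2),
   (17,1), (15,1), (1,1), (0,1), (1,1), (0,2), (1,2)]

def d121 : FW :=
  [(1,1), (15,3), (12,1), (15,1), (16,2), (0,1), (15,2), (17,1), (16,1), (0,1), (15,2), (17,1), (1,1), (1,1), (0,1),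
   (1,2), (0,2)]

def d122 : FW :=
  [(1,1), (15,1), (0,1), (17,1), (15,1), (12,1), (15,1), (17,1), (16,1), (1,1), (17,1), (15,1), (12,1), (0,1), (15,2),
   (17,1), (15,1), (1,1), (0,1), (1,2), (0,2)]

def d123 : FW :=
  [(9,1), (15,1), (16,1), (9,1), (17,1), (0,1), (15,2), (16,1), (9,1), (15,1), (0,1), (15,1), (17,1), (16,1), (1,1),
   (9,1), (15,3)]

def d124 : FW :=
  [(0,2), (9,1), (17,1), (16,1), (9,1), (16,1), (15,1), (17,1), (0,1), (15,2), (0,1), (16,1), (9,1), (11,1), (0,1),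
   (1,1), (0,1), (1,1), (0,2), (1,2)]

def d125 : FW :=
  [(0,1), (9,1), (15,2), (0,1), (15,1), (16,1), (17,1), (16,1), (0,1), (9,1), (8,1), (17,1), (0,1), (15,1), (16,1),
   (12,1), (15,3)]

def d126 : FW :=
  [(0,1), (15,1), (0,2), (3,1), (16,1), (15,1), (12,1), (17,1), (0,1), (15,5), (17,1), (16,1), (1,1), (0,1), (1,2),
   (0,2)]

def d127 : FW :=
  [(15,1), (0,1), (15,1), (17,1), (16,1), (9,1), (16,1), (1,2), (9,1), (15,3), (16,1), (0,1), (12,1), (17,1), (0,1),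
   (15,2), (1,1), (0,1), (1,2), (0,2)]

def d128 : FW :=
  [(17,1), (15,1), (0,1), (17,1), (15,1), (16,1), (9,1), (15,2), (12,1), (15,1), (0,2), (15,1), (16,1), (15,1), (1,1),
   (0,1), (1,2), (0,2)]

def d129 : FW :=
  [(12,1), (15,1), (0,1), (15,3), (16,2), (9,1), (17,1), (0,1), (15,1), (0,1), (17,1), (16,1), (1,1), (15,1), (1,1),
   (0,1), (1,2), (0,2)]

def d130 : FW :=
  [(9,1), (15,1), (17,1), (15,1), (11,1), (0,1), (1,1), (16,1), (12,1), (0,1), (17,1), (15,1), (0,1), (17,1), (15,1),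
   (17,1), (15,1)]

def d131 : FW :=
  [(9,1), (16,1), (0,1), (9,1), (15,1), (0,1), (16,1), (15,1), (17,1), (0,1), (16,1), (0,1), (17,1), (15,1), (11,1),
   (15,1), (1,1), (1,1), (0,1), (1,2), (0,2)]

def d132 : FW :=
  [(1,2), (9,1), (15,1), (1,2), (10,1), (9,1), (17,1), (15,1), (17,1), (15,1), (0,1), (1,1), (15,1), (17,1), (15,1),
   (17,1), (0,1), (1,1), (0,2), (1,2)]

def d133 : FW :=
  [(9,1), (17,1), (15,1), (17,1), (15,1), (0,1), (16,1), (9,1), (15,1), (0,1), (16,1), (15,1), (0,1), (16,1), (1,2),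
   (0,1), (1,1), (0,2), (1,2)]

def d134 : FW :=
  [(9,1), (17,1), (15,1), (1,2), (15,1), (16,1), (9,1), (8,1), (16,1), (1,1), (16,1), (17,1), (1,1), (15,1), (0,1)]

def d135 : FW :=
  [(1,1), (9,1), (17,1), (15,1), (0,1), (15,1), (17,1), (15,2), (16,1), (15,1), (16,1), (9,1), (8,1), (15,1), (16,1),
   (0,1), (1,1)]

def d136 : FW :=
  [(9,1), (8,1), (0,1), (15,1), (16,1), (1,1), (12,1), (16,1), (15,1), (0,1), (17,1), (1,1), (15,3), (17,1), (16,1),
   (15,1), (0,1), (1,1), (0,2), (1,2)]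

def d137 : FW :=
  [(0,2), (9,1), (16,1), (9,1), (15,4), (1,1), (15,1), (16,1), (1,1), (15,1), (0,1), (16,1)]

def d138 : FW :=
  [(9,1), (15,1), (16,1), (15,1), (1,1), (15,1), (0,1), (15,1), (0,1), (16,1), (12,1), (17,1), (15,1), (17,1), (0,1),
   (12,1), (15,2), (0,1), (1,1), (0,2), (1,2)]

def d139 : FW :=
  [(0,1), (12,1), (15,2), (1,1), (15,1), (16,1), (15,1), (0,1), (15,1), (12,1), (17,1), (15,1), (17,1), (15,1),
   (16,1), (15,2), (0,1), (15,1), (1,1), (0,1), (1,2), (0,2)]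

def d140 : FW :=
  [(15,2), (17,1), (0,1), (15,1), (16,1), (9,1), (15,1), (17,1), (0,1), (16,1), (1,1), (15,1), (12,1), (15,1), (0,1),
   (0,1), (1,1), (0,2), (1,2)]

def d141 : FW :=
  [(0,2), (16,1), (9,1), (15,2), (0,1), (12,1), (15,1), (16,1), (9,1), (15,4), (0,1), (15,1), (0,1), (16,1), (9,1),
   (16,1), (1,1), (0,1), (1,2), (0,2)]

def d142 : FW :=
  [(15,1), (0,1), (15,1), (1,1), (15,1), (16,1), (9,1), (16,1), (17,1), (15,1), (17,1), (16,1), (15,1), (0,1), (15,1),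
   (0,2)]

def d143 : FW :=
  [(17,1), (16,1), (9,1), (17,1), (1,1), (16,1), (1,1), (17,2), (0,1), (11,1), (15,1), (16,1), (1,1), (1,1), (0,1),
   (1,2), (0,2)]

def d144 : FW :=
  [(9,1), (15,2), (17,1), (15,1), (16,1), (1,1), (9,1), (15,1), (1,1), (15,1), (16,1), (9,1), (15,1), (0,1), (15,1),
   (12,1), (15,1), (17,1), (0,1), (1,1), (0,1), (1,2), (0,2)]

def d145 : FW :=
  [(9,1), (15,2), (16,1), (9,1), (17,1), (15,1), (12,1), (1,1), (15,1), (0,1), (16,1), (9,1), (15,1), (1,1), (17,1),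
   (15,3)]

def d146 : FW :=
  [(16,1), (1,1), (15,1), (17,1), (0,2), (16,1), (12,1), (17,1), (1,1), (15,3), (16,2), (9,1), (0,1), (1,1), (0,2),
   (1,2)]

def d147 : FW :=
  [(17,1), (15,1), (0,1), (15,1), (12,1), (17,1), (0,1), (15,2), (16,1), (9,1), (15,1), (1,1), (15,2), (16,1), (15,1),
   (0,1), (0,1), (1,1), (0,2), (1,2)]

def d148 : FW :=
  [(12,1), (0,1), (16,1), (0,1), (17,1), (16,1), (15,2), (16,1), (3,1), (15,1), (17,1), (1,1), (0,1), (1,2), (0,2)]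

def d149 : FW :=
  [(9,1), (15,5), (16,1), (1,2), (9,1), (17,1), (0,1), (15,1), (16,1), (15,1), (17,1), (15,3), (0,1), (1,1), (0,2),
   (1,2)]

def d150 : FW :=
  [(0,1), (9,1), (16,1), (15,1), (0,1), (15,1), (12,1), (17,1), (15,1), (17,1), (15,1), (17,1), (0,1), (16,1), (0,1),
   (9,1), (17,1), (0,1)]

def d151 : FW :=
  [(9,1), (15,2), (17,1), (15,2), (0,1), (16,1), (0,1), (15,1), (0,1), (17,1), (16,1), (15,1), (12,1), (0,2), (15,1),
   (1,1), (0,1), (1,2), (0,2)]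

def d152 : FW :=
  [(9,1), (15,1), (16,1), (0,1), (15,1), (12,1), (17,1), (15,3), (17,1), (15,4), (16,1), (0,1), (1,1), (15,1), (1,1),
   (1,1), (0,1), (1,2), (0,2)]

def d153 : FW :=
  [(1,2), (16,1), (0,1), (9,1), (15,3), (16,1), (9,1), (15,1), (17,1), (15,1), (17,1), (15,1), (1,1), (15,3), (16,1),
   (9,1), (1,1), (0,1), (1,2), (0,2)]

def d154 : FW :=
  [(17,1), (15,3), (12,1), (17,1), (15,3), (1,1), (16,1), (1,1), (15,1), (0,1), (15,1), (0,1), (15,1), (1,1), (0,1),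
   (1,2), (0,2)]

def d155 : FW :=
  [(17,1), (0,1), (1,1), (16,1), (15,1), (16,1), (9,1), (17,1), (12,1), (1,1), (15,1), (16,1), (1,1), (16,1), (9,1),
   (0,1), (1,1), (0,2), (1,2)]

def d156 : FW :=
  [(15,2), (0,1), (16,1), (1,1), (9,1), (16,1), (9,1), (15,1), (16,1), (9,1), (15,1), (0,1), (15,1), (0,1), (12,1),
   (15,1), (17,2)]

def d157 : FW :=
  [(0,1), (17,2), (0,1), (15,1), (0,1), (17,1), (16,1), (17,1), (16,1), (9,1), (8,1), (15,1)]

def d158 : FW :=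
  [(9,1), (15,1), (0,1), (16,1), (9,1), (16,1), (0,1), (1,1), (12,1), (17,1), (16,1), (9,1), (16,1), (0,1), (17,1)]

def d159 : FW :=
  [(17,1), (15,2), (0,1), (17,1), (15,1), (16,1), (12,1), (15,1), (12,1), (15,1), (0,1), (16,1), (1,1), (15,1), (0,1),
   (15,1), (0,1), (1,1), (0,2), (1,2)]

def d160 : FW :=
  [(9,1), (15,1), (0,2), (15,1), (17,1), (15,2), (16,3), (0,1), (9,1), (17,1), (1,1), (15,1), (1,1), (15,1), (1,1),
   (0,1), (1,2), (0,2)]

def d161 : FW :=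
  [(0,1), (12,1), (17,1), (0,1), (15,1), (17,1), (16,1), (9,1), (16,1), (9,1), (16,1), (0,1), (1,1), (15,1)]

def d162 : FW :=
  [(5,1), (15,1), (0,2), (17,1), (16,1), (9,1), (16,1), (12,1), (17,1), (1,1), (15,3), (17,1), (12,1), (17,1), (15,1),
   (0,1), (1,1), (0,2), (1,2)]

def d163 : FW :=
  [(9,1), (17,1), (15,1), (12,1), (16,1), (1,1), (15,3), (17,1), (0,1), (16,1), (15,1), (0,1), (1,1), (1,1), (0,1),
   (1,2), (0,2)]

def d164 : FW :=
  [(0,1), (9,1), (16,1), (15,1), (16,1), (1,1), (9,1), (16,1), (9,1), (17,1), (15,1), (16,1), (9,1), (8,1), (17,1),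
   (15,1), (0,1), (1,1), (0,2), (1,2)]

def d165 : FW :=
  [(1,1), (15,1), (0,1), (1,1), (15,1), (0,1), (16,1), (0,1), (9,1), (8,1), (17,2), (15,3), (17,1), (15,1), (17,1),
   (0,1), (1,1), (0,2), (1,2)]

def d166 : FW :=
  [(16,1), (1,1), (9,1), (15,1), (16,2), (0,1), (17,1), (15,1), (12,1), (16,1), (0,1), (17,1), (15,1), (0,1), (1,1),
   (0,2), (1,2)]

def d167 : FW :=
  [(1,2), (9,1), (17,1), (15,1), (0,1), (16,1), (12,1), (16,1), (15,1), (17,1), (16,1), (1,2), (9,1), (0,1), (1,1),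
   (0,2), (1,2)]

def d168 : FW :=
  [(9,1), (17,1), (15,2), (1,1), (15,1), (16,1), (9,1), (15,1), (1,1), (15,3), (0,1), (16,1), (9,1), (8,1), (16,1),
   (17,1), (1,1), (1,1), (0,1), (1,2), (0,2)]

def d169 : FW :=
  [(12,1), (0,1), (15,2), (0,1), (16,1), (9,1), (15,2), (12,1), (16,1), (0,1), (16,1), (15,1), (17,1), (0,1), (15,1),
   (17,1), (1,1), (0,1), (1,2), (0,2)]

def d170 : FW :=
  [(15,1), (0,1), (17,3), (15,1), (0,1), (16,1), (9,1), (15,4), (0,1), (17,1), (0,1), (1,1), (0,2), (1,2)]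

def d171 : FW :=
  [(16,1), (15,1), (0,2), (17,1), (15,1), (16,1), (0,1), (9,1), (17,2), (0,2), (15,1), (0,1), (17,1)]

def d172 : FW :=
  [(15,3), (0,1), (15,1), (17,1), (15,3), (0,1), (16,1), (15,2), (17,1), (12,1), (0,1), (15,2), (12,1), (0,1), (0,1),
   (1,1), (0,2), (1,2)]

def d173 : FW :=
  [(15,1), (0,1), (16,1), (15,1), (0,1), (12,1), (17,2), (15,1), (16,1), (15,1), (0,1), (16,1), (9,1), (8,1), (15,1),
   (1,1), (0,1), (1,2), (0,2)]

def d174 : FW :=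
  [(15,1), (17,1), (4,1), (15,1), (17,1), (15,1), (17,1), (15,2), (17,1), (1,1), (11,1), (15,1), (16,1), (1,1)]

def d175 : FW :=
  [(1,1), (15,1), (0,1), (17,1), (12,1), (15,1), (12,1), (15,2), (16,1), (0,1), (16,1), (17,1), (15,5), (1,1), (0,1),
   (1,1), (0,2), (1,2)]

def d176 : FW :=
  [(15,1), (0,2), (16,1), (9,1), (15,2), (16,1), (9,1), (17,1), (12,1), (17,1), (16,2), (15,1), (1,2)]

def d177 : FW :=
  [(16,1), (15,3), (0,1), (15,1), (17,1), (12,1), (15,2), (1,1), (16,1), (15,1), (1,2), (12,1), (17,1), (15,1), (0,1),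
   (1,1), (0,2), (1,2)]

def d178 : FW :=
  [(0,1), (15,1), (17,1), (0,1), (15,4), (16,1), (9,1), (16,1), (9,1), (15,1), (0,1), (15,1), (1,1), (16,1), (9,1),
   (17,1), (0,1), (15,1), (0,1), (0,1), (1,1), (0,2), (1,2)]

def d179 : FW :=
  [(1,1), (15,1), (1,2), (16,1), (9,1), (16,1), (9,1), (15,2), (16,1), (15,1), (16,1), (9,1), (8,1), (1,1), (15,2)]

def d180 : FW :=
  [(1,1), (16,1), (15,3), (1,1), (15,1), (1,1), (16,1), (15,1), (0,1), (11,1), (15,2), (0,1), (1,1), (0,2), (1,2)]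

def d181 : FW :=
  [(0,1), (17,1), (15,2), (17,1), (15,1), (16,1), (1,2), (15,1), (11,1), (16,1), (15,3), (1,1), (15,2), (16,1), (9,1),
   (1,1), (0,1), (1,2), (0,2)]

def d182 : FW :=
  [(9,1), (17,1), (0,1), (16,1), (0,1), (9,1), (17,1), (16,1), (17,1), (0,1), (17,1), (15,1), (0,1), (16,1), (1,1),
   (9,1), (0,1), (1,1), (0,2), (1,2)]

def d183 : FW :=
  [(1,2), (9,1), (17,1), (0,1), (16,2), (9,1), (16,1), (15,1), (16,1), (12,1), (0,1), (17,1), (15,1)]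

def d184 : FW :=
  [(9,1), (17,1), (0,1), (15,2), (12,1), (1,1), (15,1), (17,1), (15,1), (16,1), (9,1), (15,2), (0,1), (15,2), (0,1),
   (1,1), (0,1), (1,2), (0,2)]

def d185 : FW :=
  [(0,1), (1,1), (9,1), (8,1), (16,1), (12,1), (15,1), (0,1), (15,3), (0,1), (16,1), (0,2), (1,1), (16,1), (1,1),
   (0,1), (1,2), (0,2)]

def d186 : FW :=
  [(9,1), (16,1), (15,2), (0,2), (15,1), (16,1), (0,1), (9,1), (16,1), (12,1), (15,1), (16,1), (0,2), (1,1), (1,1),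
   (0,1), (1,2), (0,2)]

def d187 : FW :=
  [(0,1), (1,1), (17,1), (15,3), (16,1), (0,1), (15,1), (0,1), (17,1), (16,1), (9,1), (15,1), (11,1), (1,1), (1,1),
   (0,1), (1,2), (0,2)]

def d188 : FW :=
  [(9,1), (8,1), (15,1), (16,1), (0,2), (16,1), (17,1), (15,1), (12,1), (0,1), (16,1), (0,2), (17,1), (0,1), (1,1),
   (0,2), (1,2)]

def d189 : FW :=
  [(0,1), (15,1), (17,1), (15,5), (1,1), (17,1), (16,1), (17,1), (12,1), (15,1), (17,1), (1,2), (12,1), (15,1)]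

def d190 : FW :=
  [(1,2), (16,1), (9,1), (17,1), (15,1), (0,1), (3,1), (17,1), (12,1), (15,1), (0,1), (1,1), (0,2), (1,2)]

def d191 : FW :=
  [(9,1), (15,3), (0,1), (15,1), (16,2), (9,1), (15,1), (17,1), (15,1), (12,1), (17,1), (16,1), (0,2), (1,1), (15,1),
   (0,1), (1,1), (0,2), (1,2)]

def d192 : FW :=
  [(1,2), (16,1), (15,2), (12,1), (0,1), (17,1), (15,1), (12,1), (15,2), (16,1), (15,1), (17,1), (15,2), (0,1), (0,1),
   (1,1), (0,2), (1,2)]

def d193 : FW :=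
  [(15,1), (0,1), (11,1), (15,1), (0,1), (15,2), (17,1), (16,1), (0,1), (1,1), (16,1), (0,1), (9,1), (15,3), (16,1),
   (9,1), (17,1), (0,1), (1,1), (0,2), (1,2)]

def d194 : FW :=
  [(15,2), (1,1), (17,1), (16,1), (1,1), (9,1), (16,1), (15,3), (16,1), (12,1), (17,1), (1,1), (15,2), (0,1)]

def d195 : FW :=
  [(17,2), (15,1), (16,2), (15,1), (12,1), (16,1), (15,2), (1,1), (15,1), (1,1), (16,1)]

def d196 : FW :=
  [(1,1), (9,1), (15,1), (16,1), (0,1), (1,2), (16,1), (9,1), (15,3), (16,1), (1,1), (12,1), (16,1)]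

def d197 : FW :=
  [(1,1), (16,1), (12,1), (17,1), (15,3), (17,1), (16,2), (9,1), (15,3), (0,2)]

def d198 : FW :=
  [(1,1), (17,1), (12,1), (16,1), (0,1), (15,1), (17,1), (16,1), (0,1), (9,1), (17,1), (15,1), (17,1), (1,1), (12,1),
   (0,1), (1,1), (0,2), (1,2)]

def d199 : FW :=
  [(9,1), (12,1), (16,1), (0,1), (17,1), (15,1), (17,1), (16,1), (0,1), (16,1), (9,1), (15,2), (0,1), (15,3), (0,1)]

def d200 : FW :=
  [(1,2), (9,1), (16,1), (17,1), (12,1), (15,1), (0,1), (12,1), (15,1), (17,1), (15,1), (0,1), (15,1), (16,1), (15,1),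
   (16,1), (0,2), (0,1), (1,1), (0,2), (1,2)]

def d201 : FW :=
  [(1,1), (15,1), (17,1), (15,2), (0,1), (16,1), (9,1), (15,1), (0,1), (1,1), (15,1), (17,1), (16,1), (15,3), (0,1),
   (1,1), (0,2), (1,2)]

def d202 : FW :=
  [(0,2), (15,1), (17,1), (16,1), (15,5), (16,1), (1,1), (17,1), (12,1), (16,1), (15,1), (0,1)]

def d203 : FW :=
  [(0,1), (12,1), (16,1), (17,1), (15,2), (1,1), (17,1), (15,3), (16,1), (0,1), (9,1), (8,1), (16,1)]

def d204 : FW :=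
  [(15,1), (17,1), (15,2), (12,1), (15,1), (0,2), (16,1), (12,1), (17,1), (0,1), (15,1), (16,1), (15,1), (1,1),
   (15,2), (0,1), (1,1), (0,2), (1,2)]

def d205 : FW :=
  [(9,1), (11,1), (15,1), (17,2), (16,1), (0,2), (1,1), (9,1), (16,1), (15,1), (16,1), (0,1), (15,3), (1,1), (15,1),
   (0,1), (1,1), (0,2), (1,2)]

def d206 : FW :=
  [(15,2), (0,1), (15,1), (12,1), (15,1), (17,1), (15,1), (17,1), (1,1), (16,1), (2,1), (3,1), (0,1), (1,1), (0,2),
   (1,2)]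

def d207 : FW :=
  [(0,1), (9,1), (8,1), (16,1), (15,1), (16,2), (0,1), (15,1), (0,1), (15,2), (16,1), (0,1), (1,1), (15,1), (17,2),
   (1,1), (0,1), (1,2), (0,2)]

def d208 : FW :=
  [(1,1), (9,1), (16,1), (9,1), (15,1), (16,1), (9,1), (17,1), (15,1), (17,1), (15,1), (16,1), (15,2), (0,2)]

def d209 : FW :=
  [(11,1), (15,1), (1,1), (15,1), (0,1), (15,1), (16,1), (9,1), (15,2), (0,1), (16,1), (9,1), (17,1), (0,1), (16,1),
   (9,1), (17,1), (1,1), (0,1), (1,2), (0,2)]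

def d210 : FW :=
  [(17,1), (15,2), (0,1), (15,1), (12,1), (15,1), (17,1), (0,1), (16,1), (15,2), (16,1), (9,1), (15,3), (1,1), (0,1),
   (1,1), (0,2), (1,2)]

def d211 : FW :=
  [(0,2), (1,1), (17,1), (16,1), (0,1), (9,1), (17,1), (12,1), (15,1), (12,1), (17,1), (1,1), (15,1), (17,1), (1,1),
   (0,1), (1,2), (0,2)]

def d212 : FW :=
  [(15,1), (1,1), (17,1), (15,4), (12,1), (15,1), (16,1), (1,1), (12,1), (15,1), (17,1), (16,1), (15,2), (0,1), (1,1),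
   (0,1), (1,2), (0,2)]

def d213 : FW :=
  [(9,1), (15,1), (1,2), (15,1), (16,1), (0,1), (1,1), (17,1), (15,1), (17,1), (15,2), (16,1), (9,1), (16,1), (15,1),
   (16,1), (0,1), (1,1), (0,2), (1,2)]

def d214 : FW :=
  [(15,1), (17,1), (15,4), (0,2), (16,1), (17,1), (15,1), (0,2), (16,1), (0,1), (15,2), (1,1), (0,1), (1,2), (0,2)]

def d215 : FW :=
  [(15,2), (3,1), (16,2), (9,1), (15,1), (17,2), (16,1), (9,1), (15,3), (0,1), (0,1), (1,1), (0,2), (1,2)]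

def d216 : FW :=
  [(3,2), (9,1), (16,1), (15,1), (16,1), (0,1), (3,1), (9,1), (16,1), (9,1), (17,1), (15,1), (12,1), (1,1), (17,1),
   (15,2), (0,1), (0,1), (1,1), (0,2), (1,2)]

def d217 : FW :=
  [(15,1), (17,1), (12,1), (15,1), (0,1), (15,1), (17,1), (15,2), (17,1), (0,1), (16,1), (9,1), (15,2), (12,1),
   (17,1), (0,1), (1,1), (0,2), (1,2)]

def d218 : FW :=
  [(9,1), (12,1), (0,1), (15,1), (0,1), (16,1), (15,1), (12,1), (17,1), (15,1), (1,1), (15,3), (16,1), (0,2), (17,1),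
   (0,1), (1,1), (0,2), (1,2)]

def d219 : FW :=
  [(0,1), (9,1), (15,1), (17,1), (16,1), (1,1), (15,1), (17,1), (15,1), (16,1), (1,1), (17,1), (0,1), (15,2), (17,1),
   (12,1), (0,1), (1,1), (0,2), (1,2)]

def d220 : FW :=
  [(0,1), (17,1), (16,2), (9,1), (15,3), (1,1), (17,1), (11,1), (15,1), (0,1), (16,1), (1,1), (15,1), (1,1), (0,1),
   (1,2), (0,2)]

def d221 : FW :=
  [(15,1), (1,1), (15,3), (17,1), (15,3), (12,1), (15,1), (16,1), (1,1), (17,1), (16,1), (1,1), (12,1), (1,1), (15,2),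
   (0,1), (1,1), (0,2), (1,2)]

def d222 : FW :=
  [(3,1), (15,2), (0,1), (17,1), (16,1), (17,1), (15,1), (11,1), (15,1), (1,1), (17,1), (15,1), (17,1), (15,1), (0,1),
   (15,2), (0,1), (1,1), (0,2), (1,2)]

def d223 : FW :=
  [(9,1), (16,1), (0,1), (15,3), (1,1), (16,1), (15,3), (17,1), (12,1), (17,1), (15,1), (0,1), (1,1), (0,1), (1,2),
   (0,2)]

def d224 : FW :=
  [(0,1), (1,1), (3,1), (15,1), (1,1), (16,1), (9,1), (17,1), (12,1), (15,1), (0,1), (17,3), (1,1), (12,1), (15,2),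
   (1,1), (0,1), (1,2), (0,2)]

def d225 : FW :=
  [(9,1), (15,1), (17,2), (0,1), (15,2), (16,1), (15,1), (12,1), (15,1), (0,1), (15,2), (16,2), (3,1), (9,1), (0,1),
   (1,1), (0,2), (1,2)]

def d226 : FW :=
  [(9,1), (15,1), (17,1), (15,1), (16,1), (15,1), (17,1), (0,2), (16,1), (0,1), (15,1), (16,1), (9,1), (15,3), (0,1),
   (0,1), (1,1), (0,2), (1,2)]

def d227 : FW :=
  [(9,1), (15,1), (0,1), (16,1), (15,2), (16,1), (1,1), (16,1), (15,2), (12,1), (15,1), (17,2), (1,1), (0,1), (1,2),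
   (0,2)]

def d228 : FW :=
  [(17,1), (15,1), (0,1), (16,1), (17,1), (15,1), (0,1), (15,4), (16,1), (12,1), (15,1), (1,1), (0,1), (1,2), (0,2)]

def d229 : FW :=
  [(15,1), (0,1), (15,1), (0,1), (17,1), (15,1), (16,1), (9,1), (16,1), (17,1), (15,1), (16,1), (12,1), (0,2), (0,1),
   (1,1), (0,2), (1,2)]

def d230 : FW :=
  [(0,2), (16,1), (9,1), (15,2), (12,1), (15,2), (16,1), (15,1), (16,1), (0,1), (9,1), (16,1), (0,1), (15,1), (1,1),
   (0,1), (1,2), (0,2)]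

def d231 : FW :=
  [(16,2), (1,1), (15,2), (16,1), (9,1), (15,5), (1,1), (16,1), (9,1), (15,2), (1,1), (0,1), (1,2), (0,2)]

def d232 : FW :=
  [(16,1), (9,1), (15,2), (1,1), (15,1), (0,1), (16,1), (15,3), (16,1), (12,1), (1,1), (15,1), (16,1), (9,1), (15,1),
   (0,1), (1,1), (0,2), (1,2)]

def d233 : FW :=
  [(0,1), (9,1), (16,1), (0,1), (9,1), (17,1), (12,1), (0,2), (17,1), (16,1), (17,1), (15,1), (17,1), (0,1), (0,1),
   (1,1), (0,2), (1,2)]

def d234 : FW :=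
  [(17,1), (1,2), (16,1), (15,5), (17,1), (16,1), (9,1), (11,1), (15,4), (0,1), (0,1), (1,1), (0,2), (1,2)]

def d235 : FW :=
  [(0,2), (16,1), (9,1), (15,3), (16,1), (15,2), (12,1), (15,1), (16,1), (9,1), (15,3)]

def d236 : FW :=
  [(9,1), (15,2), (16,1), (0,1), (9,1), (15,3), (1,1), (16,2), (15,2), (16,1), (15,1), (0,1), (0,1), (1,1), (0,2),
   (1,2)]

def d237 : FW :=
  [(15,1), (12,1), (15,2), (0,1), (15,1), (16,1), (15,1), (0,1), (1,1), (16,1), (17,2), (15,2), (1,1), (15,1)]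

def d238 : FW :=
  [(0,1), (17,1), (12,1), (15,1), (12,1), (15,2), (1,1), (16,1), (17,1), (15,1), (1,1), (16,1), (1,1), (15,1), (16,1),
   (1,1), (0,1), (1,2), (0,2)]

def d239 : FW :=
  [(9,1), (15,1), (17,1), (15,1), (16,1), (0,1), (15,1), (0,1), (15,1), (0,1), (12,1), (17,1), (0,1), (16,2), (9,1),
   (16,1), (1,1), (0,1), (1,2), (0,2)]

def d240 : FW :=
  [(16,1), (9,1), (17,1), (12,1), (15,1), (16,1), (9,1), (17,1), (16,1), (0,1), (1,1), (16,1), (9,1), (15,2), (0,1),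
   (15,1), (1,1), (0,1), (1,2), (0,2)]

def d241 : FW :=
  [(1,1), (12,1), (0,1), (15,1), (12,1), (15,1), (17,1), (16,1), (0,1), (17,1), (0,1), (3,1), (16,1), (0,1), (1,1),
   (0,2), (1,2)]

def d242 : FW :=
  [(15,1), (12,1), (15,2), (17,2), (16,1), (9,1), (16,1), (9,1), (17,1), (15,1), (17,1), (1,2), (4,1)]

def d243 : FW :=
  [(15,1), (12,1), (17,1), (15,3), (12,1), (0,1), (16,1), (15,1), (1,1), (16,1), (0,1), (9,1), (15,3), (1,1), (17,1),
   (0,1), (1,1), (0,2), (1,2)]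

def d244 : FW :=
  [(1,1), (12,1), (0,1), (17,1), (0,1), (16,1), (12,1), (0,1), (15,2), (17,1), (15,1), (0,1), (15,1), (17,1), (15,1),
   (17,1)]

def d245 : FW :=
  [(15,1), (1,1), (15,2), (16,1), (12,1), (0,1), (16,1), (0,1), (17,1), (15,3), (16,1), (9,1), (17,1)]

def d246 : FW :=
  [(0,1), (9,1), (17,1), (16,1), (9,1), (15,1), (0,1), (16,1), (15,3), (16,1), (9,1), (16,1), (17,1), (1,2), (0,1),
   (1,1), (0,2), (1,2)]

def d247 : FW :=
  [(9,1), (15,1), (12,1), (15,1), (0,2), (15,1), (1,1), (16,1), (9,1), (15,1), (17,1), (12,1), (15,2), (1,1), (17,1),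
   (15,1), (0,1), (15,2), (16,1), (1,1), (0,1), (1,2), (0,2)]

def d248 : FW :=
  [(0,1), (15,2), (12,1), (15,2), (17,1), (16,1), (17,1), (0,1), (17,1), (1,1), (15,2), (17,1), (12,1), (15,1), (0,1),
   (1,1), (0,2), (1,2)]

def d249 : FW :=
  [(0,2), (9,1), (17,2), (12,1), (16,1), (15,4), (1,1), (15,1), (16,1), (9,1), (16,1), (0,1), (1,1), (0,2), (1,2)]

def d250 : FW :=
  [(16,1), (9,1), (15,1), (1,1), (16,1), (0,1), (9,1), (17,1), (12,1), (0,1), (17,1), (16,1), (15,2), (0,1), (1,1),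
   (0,1), (1,2), (0,2)]

def d251 : FW :=
  [(12,1), (15,1), (0,1), (15,1), (0,2), (15,1), (16,1), (15,2), (12,1), (15,1), (17,1), (15,5), (17,1), (15,1),
   (1,1)]

def d252 : FW :=
  [(0,2), (15,1), (17,1), (12,1), (15,1), (17,2), (15,1), (16,1), (0,1), (15,2), (17,1), (15,1), (0,2), (15,1)]

def d253 : FW :=
  [(0,1), (9,1), (15,2), (16,2), (0,1), (16,1), (9,1), (15,1), (12,1), (0,1), (15,2), (16,1), (0,1), (9,1), (15,2)]

def d254 : FW :=
  [(9,1), (15,1), (0,1), (1,1), (15,1), (16,1), (1,1), (16,1), (9,1), (16,1), (17,1), (15,1), (1,1), (17,1), (15,1),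
   (0,1), (12,1), (15,1), (0,1), (1,1), (0,2), (1,2)]

def d255 : FW :=
  [(15,1), (0,1), (16,1), (9,1), (15,1), (0,1), (15,1), (16,1), (15,1), (16,2), (15,1), (0,1), (15,1), (16,1), (1,1),
   (9,1), (15,2)]

def d256 : FW :=
  [(0,1), (12,1), (16,1), (15,3), (0,1), (15,2), (0,1), (16,1), (0,1), (17,1), (0,1), (15,1), (17,1), (12,1), (15,1),
   (0,1), (1,1), (0,2), (1,2)]

def d257 : FW :=
  [(0,1), (1,1), (3,1), (17,1), (16,1), (17,1), (12,1), (17,1), (15,1), (0,2), (12,1), (15,1), (17,1), (15,2), (1,1),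
   (0,1), (1,2), (0,2)]

def d258 : FW :=
  [(1,1), (9,1), (15,2), (16,1), (15,1), (12,1), (16,1), (15,1), (17,1), (0,1), (16,1), (15,1), (0,1), (17,1), (15,3),
   (1,1), (0,1), (1,2), (0,2)]

def d259 : FW :=
  [(9,1), (17,2), (16,1), (15,1), (11,1), (0,1), (16,1), (15,1), (1,1), (15,1), (0,1), (15,1)]

def d260 : FW :=
  [(17,1), (0,1), (17,1), (0,2), (15,1), (16,1), (0,1), (15,2), (12,1), (0,1), (15,2), (0,1), (15,1), (0,1), (1,1),
   (0,2), (1,2)]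

def d261 : FW :=
  [(0,1), (15,1), (0,1), (15,2), (16,1), (9,1), (17,1), (0,1), (15,1), (0,1), (15,1), (17,1), (16,1), (15,1), (16,1),
   (9,1)]

def d262 : FW :=
  [(0,1), (9,1), (16,1), (9,1), (15,3), (17,1), (16,1), (1,2), (15,1), (16,1), (9,1), (8,1), (1,1), (15,1), (17,1),
   (15,1)]

def d263 : FW :=
  [(1,1), (9,1), (17,1), (15,1), (16,1), (12,1), (15,1), (0,1), (12,1), (15,1), (17,1), (15,1), (16,1), (15,1),
   (16,1), (1,1), (15,1), (1,1), (0,1), (1,2), (0,2)]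

def d264 : FW :=
  [(9,1), (8,1), (0,1), (1,1), (15,1), (16,1), (0,1), (1,2), (16,1), (15,2), (0,1), (15,1), (0,1), (15,1), (0,1),
   (15,1), (0,1), (1,1), (0,1), (1,2), (0,2)]

def d265 : FW :=
  [(1,1), (17,1), (15,1), (0,2), (15,1), (10,1), (15,1), (12,1), (15,2), (17,1), (15,2), (0,1), (15,1), (0,1)]

def d266 : FW :=
  [(15,3), (1,1), (15,1), (1,1), (16,1), (15,2), (17,1), (15,3), (16,1), (17,1), (15,1), (12,1), (0,1)]

def d267 : FW :=
  [(9,1), (16,1), (9,1), (17,1), (15,1), (17,1), (15,1), (12,1), (0,1), (15,1), (0,1), (16,1), (9,1), (15,1), (1,2),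
   (15,2), (1,1), (0,1), (1,2), (0,2)]

def d268 : FW :=
  [(16,1), (1,2), (16,1), (1,1), (9,1), (15,1), (16,2), (0,1), (16,1), (9,1), (15,1), (16,1), (9,1), (15,1)]

def d269 : FW :=
  [(15,1), (12,1), (1,1), (15,1), (16,1), (15,1), (0,1), (15,1), (17,1), (15,1), (12,1), (17,1), (15,2), (0,1)]

def d270 : FW :=
  [(9,1), (15,1), (16,1), (9,1), (15,4), (0,1), (15,1), (16,1), (1,1), (16,1), (9,1), (15,1), (16,1), (15,1), (1,1),
   (15,1), (1,1), (0,1), (1,1), (0,2), (1,2)]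

def d271 : FW :=
  [(0,1), (15,5), (17,1), (0,1), (15,2), (16,1), (0,1), (9,1), (15,1), (1,1), (12,1), (17,1), (15,4)]

def d272 : FW :=
  [(12,1), (15,1), (0,1), (12,1), (15,2), (16,1), (9,1), (15,2), (0,1), (17,1), (15,1), (16,1), (1,1), (17,1), (15,3)]

def d273 : FW :=
  [(17,1), (15,2), (12,1), (17,1), (15,1), (0,1), (16,1), (0,1), (15,2), (12,1), (15,2), (16,1), (0,2), (15,1), (0,1)]

def d274 : FW :=
  [(9,1), (15,2), (0,1), (12,1), (16,1), (15,4), (1,1), (17,1), (15,2), (17,1), (15,1), (16,1), (9,1), (8,1), (1,1),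
   (15,1), (1,1), (0,1), (1,1), (0,2), (1,2)]

def d275 : FW :=
  [(9,1), (15,1), (0,1), (15,1), (16,1), (15,1), (17,1), (15,1), (17,1), (15,1), (12,1), (15,1), (16,1), (0,1),
   (15,1), (0,1), (15,1), (0,1), (1,1), (0,2), (1,2)]

def d276 : FW :=
  [(9,1), (17,1), (1,1), (15,3), (16,1), (17,1), (15,1), (1,1), (15,1), (16,1), (9,1), (15,1), (16,1), (9,1), (1,1),
   (0,1), (1,2), (0,2)]

def d277 : FW :=
  [(9,1), (15,1), (17,1), (15,1), (16,2), (1,1), (15,1), (17,1), (1,1), (16,1), (9,1), (15,1), (16,1), (1,1), (12,1)]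

def d278 : FW :=
  [(16,1), (15,2), (17,3), (5,1), (11,1), (1,1), (12,1), (15,2), (17,1)]

def d279 : FW :=
  [(9,1), (15,2), (17,1), (15,1), (17,1), (15,2), (17,1), (1,1), (16,1), (1,2), (15,1), (12,1), (15,1), (17,1)]

def d280 : FW :=
  [(12,1), (15,1), (0,1), (15,2), (17,1), (15,1), (17,1), (16,1), (15,1), (1,1), (15,1), (16,1), (1,1), (16,1), (0,1),
   (1,1), (0,2), (1,2)]

def d281 : FW :=
  [(9,1), (12,1), (4,1), (17,2), (12,1), (17,1), (3,1), (15,1), (17,1), (5,1), (15,1), (0,1), (1,1), (0,2), (1,2)]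

def d282 : FW :=
  [(9,1), (16,1), (9,1), (15,1), (0,2), (15,1), (0,1), (16,1), (9,1), (15,2), (12,1), (0,2), (15,1), (0,1), (1,1),
   (0,1), (1,2), (0,2)]

def d283 : FW :=
  [(15,4), (0,1), (17,1), (11,1), (15,3), (17,1), (0,1), (15,2), (16,1), (1,2), (2,1), (0,1), (1,1), (0,2), (1,2)]

def d284 : FW :=
  [(9,1), (15,1), (0,2), (15,1), (16,1), (9,1), (15,4), (16,1), (1,1), (9,1), (8,1), (17,2), (15,2), (0,1), (1,1),
   (0,1), (1,2), (0,2)]

def d285 : FW :=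
  [(0,1), (15,1), (0,2), (16,1), (15,1), (16,1), (15,1), (17,1), (15,2), (1,1), (17,1), (16,1), (9,1), (15,3)]

def d286 : FW :=
  [(12,1), (0,2), (16,1), (0,1), (17,1), (15,1), (16,1), (1,1), (15,2), (17,1), (15,1), (12,1), (1,1), (0,1), (1,2),
   (0,2)]

def d287 : FW :=
  [(0,1), (9,1), (16,1), (15,3), (0,1), (16,1), (0,1), (15,2), (17,1), (16,1), (9,1), (8,1), (16,1), (17,1), (0,1)]

def d288 : FW :=
  [(16,1), (15,1), (0,1), (15,1), (17,1), (15,3), (16,1), (1,2), (17,1), (16,1), (9,1), (15,1), (12,1), (1,1), (0,1),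
   (1,2), (0,2)]

def d289 : FW :=
  [(1,1), (9,1), (16,1), (15,1), (12,1), (17,1), (3,1), (15,1), (17,1), (15,1), (16,1), (15,1), (16,1), (15,1), (0,1),
   (15,1), (0,1), (1,1), (0,2), (1,2)]

def d290 : FW :=
  [(17,1), (1,2), (15,2), (17,3), (12,1), (15,1), (16,1), (0,1), (12,1), (0,1), (15,2), (0,1), (15,1), (1,1), (1,1),
   (0,1), (1,2), (0,2)]

def d291 : FW :=
  [(9,1), (15,2), (0,2), (17,3), (15,1), (17,1), (15,1), (16,1), (0,2), (1,1), (12,1), (1,2), (16,1)]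

def d292 : FW :=
  [(9,1), (16,1), (9,1), (15,1), (0,1), (1,1), (16,1), (9,1), (16,1), (9,1), (15,1), (0,1), (17,2), (0,1), (15,1),
   (16,1), (1,1)]

def d293 : FW :=
  [(15,2), (12,1), (15,1), (0,1), (12,1), (15,1), (16,1), (15,5), (16,1), (15,1), (0,1), (15,1)]

def d294 : FW :=
  [(15,1), (12,1), (15,2), (16,1), (9,1), (15,1), (0,1), (1,1), (16,1), (0,1), (17,1), (12,1), (15,4), (17,1), (15,1),
   (0,1), (1,1), (0,2), (1,2)]

def d295 : FW :=
  [(17,1), (15,1), (0,1), (12,1), (17,1), (12,1), (17,1), (1,1), (15,2), (16,1), (1,1), (9,1), (15,1), (17,1), (0,1),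
   (1,1)]

def d296 : FW :=
  [(9,1), (16,1), (15,3), (17,1), (0,1), (15,2), (16,1), (9,1), (15,1), (0,1), (17,1), (0,1), (15,2), (0,1), (1,1),
   (0,2), (1,2)]

def d297 : FW :=
  [(9,1), (15,3), (1,1), (16,1), (12,1), (17,1), (16,1), (15,2), (0,1), (16,1), (15,1), (17,1), (1,1), (15,2), (0,1)]

def d298 : FW :=
  [(11,1), (15,3), (0,2), (16,1), (0,1), (17,1), (15,3), (17,1), (16,1), (1,1), (16,1), (1,1), (0,1), (1,2), (0,2)]

def d299 : FW :=
  [(15,2), (17,1), (15,4), (17,1), (16,1), (0,1), (9,1), (8,1), (16,1), (1,2), (0,1), (1,1), (0,2), (1,2)]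

def d300 : FW :=
  [(15,1), (0,1), (15,1), (17,1), (0,1), (15,2), (0,1), (15,2), (16,1), (9,1), (11,1), (15,3), (17,1), (15,2), (0,1),
   (15,1), (0,1), (0,1), (1,1), (0,2), (1,2)]

def d301 : FW :=
  [(15,2), (17,1), (0,1), (15,1), (17,1), (16,1), (0,1), (1,1), (15,1), (16,1), (9,1), (15,1), (12,1), (15,1), (0,1),
   (15,1), (1,1)]

def d302 : FW :=
  [(15,1), (0,1), (17,1), (0,1), (15,1), (16,1), (9,1), (8,1), (15,1), (0,1), (15,1), (0,1), (15,1), (17,1), (15,1),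
   (12,1), (15,1), (16,1), (0,1), (16,1), (15,1), (1,1), (0,1), (1,2), (0,2)]

def d303 : FW :=
  [(9,1), (15,1), (16,1), (12,1), (15,3), (0,1), (15,1), (0,1), (15,1), (16,1), (9,1), (15,1), (0,1), (15,2), (17,1),
   (0,2), (17,1)]

def d304 : FW :=
  [(3,1), (9,1), (17,1), (15,1), (17,1), (16,2), (12,1), (16,1), (15,3), (0,2), (1,1), (0,1), (1,2), (0,2)]

def d305 : FW :=
  [(17,1), (0,1), (15,1), (16,1), (0,2), (17,1), (12,1), (1,1), (16,3), (0,1), (1,1), (0,2), (1,2)]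

def d306 : FW :=
  [(15,1), (12,1), (17,1), (15,4), (0,1), (16,1), (0,1), (15,2), (0,1), (17,1), (12,1), (15,3), (16,1)]

def d307 : FW :=
  [(0,2), (9,1), (15,1), (1,1), (16,1), (9,1), (16,1), (15,2), (1,1), (16,1), (12,1), (0,1), (1,1), (1,1), (0,1),
   (1,2), (0,2)]

def d308 : FW :=
  [(9,1), (15,2), (16,1), (0,1), (12,1), (0,1), (15,3), (16,2), (9,1), (15,2), (16,1), (15,1), (0,1), (1,1), (0,1),
   (1,2), (0,2)]

def d309 : FW :=
  [(15,2), (1,1), (16,1), (9,1), (15,1), (16,1), (15,2), (1,1), (16,1), (15,1), (16,1), (9,1), (15,2), (16,1), (12,1),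
   (0,1), (0,1), (1,1), (0,2), (1,2)]

def d310 : FW :=
  [(1,1), (16,1), (9,1), (15,1), (16,1), (9,1), (15,1), (1,1), (15,1), (16,1), (0,1), (15,2), (0,1), (16,1), (9,1),
   (8,1), (15,3), (0,1), (1,1), (0,2), (1,2)]

def d311 : FW :=
  [(9,1), (15,2), (17,1), (12,1), (0,1), (16,2), (15,1), (17,1), (16,1), (3,1), (15,1), (1,1), (0,1), (1,2), (0,2)]

def d312 : FW :=
  [(8,1), (0,1), (15,1), (16,2), (0,1), (15,1), (0,1), (15,3), (17,1), (15,1), (17,1), (15,1), (16,1), (0,2), (1,1),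
   (1,1), (0,1), (1,2), (0,2)]

def d313 : FW :=
  [(9,1), (15,1), (0,2), (12,1), (17,1), (15,1), (16,1), (9,1), (16,1), (9,1), (16,1), (9,1), (17,1), (15,2), (0,1),
   (16,1), (9,1), (1,1), (0,1), (1,2), (0,2)]

def d314 : FW :=
  [(16,1), (0,1), (12,1), (15,2), (16,1), (0,1), (16,1), (9,1), (15,1), (17,2), (1,1), (15,3)]

def d315 : FW :=
  [(9,1), (15,1), (1,1), (15,1), (17,1), (12,1), (15,1), (16,1), (0,2), (1,1), (16,1), (9,1), (15,1), (17,1), (0,1),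
   (15,1), (0,1), (15,4)]

def d316 : FW :=
  [(15,2), (16,1), (17,1), (0,1), (15,1), (16,1), (15,1), (12,1), (17,1), (16,1), (0,2), (1,1), (15,1), (0,1), (0,1),
   (1,1), (0,2), (1,2)]

def d317 : FW :=
  [(15,1), (1,1), (15,1), (16,1), (0,1), (17,1), (12,1), (17,1), (0,1), (15,2), (16,2), (9,1), (0,1), (1,1), (0,2),
   (1,2)]

def d318 : FW :=
  [(0,1), (15,4), (17,1), (16,1), (15,2), (1,1), (15,1), (0,1), (17,1), (15,2), (0,1), (1,1), (0,2), (1,2)]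

def d319 : FW :=
  [(9,1), (15,2), (16,1), (0,1), (1,1), (15,1), (16,1), (9,1), (15,1), (17,2), (16,1), (9,1), (8,1), (0,1), (1,1),
   (0,2), (1,2)]

def d320 : FW :=
  [(0,1), (9,1), (16,1), (0,1), (12,1), (15,1), (12,1), (15,1), (16,1), (0,1), (3,1), (16,1), (15,5), (0,1), (0,1),
   (1,1), (0,2), (1,2)]

def d321 : FW :=
  [(15,1), (11,1), (15,1), (0,1), (17,1), (1,1), (15,1), (16,1), (12,1), (0,1), (1,1), (17,1), (0,1), (15,4)]

def d322 : FW :=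
  [(15,3), (1,1), (15,1), (0,1), (16,1), (15,2), (0,1), (12,1), (0,1), (15,1), (11,1), (15,1), (16,1), (15,1), (1,1),
   (0,1), (1,2), (0,2)]

def d323 : FW :=
  [(17,1), (0,1), (15,1), (0,1), (16,1), (9,1), (15,1), (16,1), (9,1), (15,1), (16,1), (12,1), (16,1), (1,1), (17,1),
   (15,3), (1,1), (0,1), (1,2), (0,2)]

def d324 : FW :=
  [(12,1), (15,1), (0,1), (17,1), (12,1), (17,1), (15,1), (0,1), (17,1), (15,1), (16,1), (0,1), (15,1), (17,1), (0,1),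
   (15,4), (0,1), (1,1), (0,2), (1,2)]

def d325 : FW :=
  [(0,1), (15,2), (12,1), (15,2), (17,1), (0,2), (15,1), (16,1), (12,1), (15,2), (1,1), (15,1), (17,1), (15,1), (1,1),
   (0,1), (1,2), (0,2)]

def d326 : FW :=
  [(1,1), (9,1), (11,1), (15,1), (17,1), (15,2), (16,1), (0,2), (1,1), (16,1), (9,1), (16,1), (3,1), (17,1), (0,1),
   (1,1), (0,1), (1,2), (0,2)]

def d327 : FW :=
  [(9,1), (15,1), (16,1), (9,1), (17,1), (16,1), (15,1), (1,2), (17,1), (0,1), (16,1), (9,1), (15,3)]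

def d328 : FW :=
  [(9,1), (16,1), (12,1), (17,1), (0,2), (15,1), (16,1), (9,1), (17,1), (15,1), (12,1), (15,2), (16,1), (15,1), (0,1)]

def d329 : FW :=
  [(9,1), (16,1), (15,1), (0,1), (15,3), (0,1), (15,1), (16,1), (9,1), (8,1), (15,2), (16,1), (15,1), (0,1), (16,1),
   (15,1), (0,1), (15,3), (0,1), (1,1), (0,2), (1,2)]

def d330 : FW :=
  [(9,1), (16,1), (0,1), (16,1), (17,1), (0,1), (1,2), (16,1), (17,1), (15,2), (0,1), (12,1), (0,1), (15,1), (0,1),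
   (1,1), (0,2), (1,2)]

def d331 : FW :=
  [(1,1), (15,1), (0,1), (16,1), (9,1), (15,1), (16,1), (9,1), (15,3), (16,1), (15,1), (16,1), (3,1), (9,1), (8,1),
   (15,1), (1,1), (0,1), (1,2), (0,2)]

def d332 : FW :=
  [(9,1), (16,1), (1,1), (15,1), (0,1), (16,1), (9,1), (8,1), (17,1), (0,1), (15,2), (17,1), (15,1), (16,1), (0,1),
   (12,1), (16,1)]

def d333 : FW :=
  [(17,1), (15,2), (17,1), (12,1), (1,1), (15,3), (17,1), (15,1), (16,1), (3,1), (9,1), (17,1), (12,1), (15,1)]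

def d334 : FW :=
  [(0,1), (9,1), (15,1), (16,1), (1,1), (9,1), (16,1), (17,2), (11,1), (5,1), (15,2), (0,1), (15,1), (0,1), (1,1),
   (0,2), (1,2)]

def d335 : FW :=
  [(15,4), (0,1), (17,1), (15,2), (0,1), (15,1), (16,1), (9,1), (17,1), (15,3), (0,1), (15,1), (1,1), (15,1), (1,1),
   (0,1), (1,2), (0,2)]

def d336 : FW :=
  [(15,3), (0,1), (15,1), (16,1), (9,1), (15,1), (16,1), (9,1), (16,1), (9,1), (16,1), (15,1), (12,1), (0,1), (1,1),
   (15,1), (0,1), (0,1), (1,1), (0,2), (1,2)]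

def d337 : FW :=
  [(15,2), (17,1), (15,2), (12,1), (17,1), (15,2), (0,1), (15,3), (16,1), (9,1), (8,1), (16,1), (1,2)]

def d338 : FW :=
  [(1,2), (9,1), (16,1), (15,1), (0,1), (16,1), (9,1), (15,2), (0,1), (16,2), (9,1), (8,1), (16,1), (15,1), (0,2),
   (0,1), (1,1), (0,2), (1,2)]

def d339 : FW :=
  [(9,1), (15,3), (16,1), (9,1), (16,1), (9,1), (15,1), (16,1), (0,1), (15,1), (0,2), (15,1), (16,1), (9,1), (15,2),
   (0,1), (15,3), (0,1)]

def d340 : FW :=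
  [(1,1), (17,1), (0,1), (15,1), (16,1), (0,1), (9,1), (15,1), (16,1), (15,1), (16,1), (9,1), (16,1), (9,1), (17,1),
   (15,3), (1,1), (0,1), (1,2), (0,2)]

def d341 : FW :=
  [(15,1), (16,1), (15,2), (1,1), (12,1), (16,1), (0,1), (16,1), (17,1), (15,1), (17,1), (1,1), (15,3), (0,1), (1,1),
   (0,1), (1,2), (0,2)]

def d342 : FW :=
  [(0,1), (17,1), (16,1), (0,1), (9,1), (15,1), (16,1), (1,1), (15,1), (12,1), (15,1), (17,1), (15,4), (16,1), (9,1),
   (8,1), (0,1)]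

def d343 : FW :=
  [(15,1), (16,1), (9,1), (15,1), (1,1), (15,1), (0,1), (17,1), (15,1), (17,1), (15,1), (16,1), (15,2), (12,1), (0,1)]

def d344 : FW :=
  [(0,1), (15,1), (16,1), (15,2), (16,1), (1,1), (9,1), (8,1), (15,1), (16,1), (17,1), (0,2), (17,1), (15,2)]

def d345 : FW :=
  [(1,1), (9,1), (15,1), (0,1), (16,1), (9,1), (15,1), (16,1), (15,3), (1,1), (15,1), (16,1), (9,1), (15,2)]

def d346 : FW :=
  [(9,1), (15,1), (12,1), (1,1), (15,1), (17,1), (12,1), (15,1), (0,1), (17,1), (15,1), (16,1), (15,4), (1,1), (15,1),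
   (1,1), (0,1), (1,2), (0,2)]

def d347 : FW :=
  [(15,4), (17,1), (15,2), (1,1), (16,1), (15,1), (17,1), (0,1), (1,1), (17,1), (12,1), (17,1)]

def d348 : FW :=
  [(16,1), (15,1), (0,1), (16,1), (17,1), (12,1), (15,1), (0,1), (17,1), (16,1), (3,1), (9,1), (0,1), (1,1), (0,2),
   (1,2)]

def d349 : FW :=
  [(15,4), (17,1), (15,1), (1,1), (15,1), (16,1), (15,1), (0,1), (1,1), (12,1), (16,1), (17,1), (0,1), (15,1)]

def d350 : FW :=
  [(0,1), (9,1), (15,1), (16,1), (1,1), (15,2), (0,1), (16,1), (15,1), (16,1), (17,1), (15,1), (0,1), (17,1), (0,1),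
   (1,1), (0,1), (1,2), (0,2)]

def d351 : FW :=
  [(15,2), (16,1), (15,1), (16,1), (15,2), (1,1), (15,1), (1,1), (15,1), (16,1), (9,1), (15,1), (16,1), (0,1), (15,1),
   (16,1), (1,1), (0,1), (1,2), (0,2)]

def d352 : FW :=
  [(16,1), (0,1), (17,1), (0,2), (3,1), (16,1), (9,1), (8,1), (16,2), (15,1), (17,1)]

def d353 : FW :=
  [(12,1), (15,1), (0,1), (16,1), (15,1), (1,1), (15,2), (16,1), (17,1), (12,1), (15,3), (17,1), (0,1), (0,1), (1,1),
   (0,2), (1,2)]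

def d354 : FW :=
  [(16,1), (15,1), (1,1), (16,1), (9,1), (15,2), (0,1), (16,1), (9,1), (15,2), (16,1), (9,1), (8,1), (16,1), (15,1),
   (1,1), (15,1), (1,1), (0,1), (1,2), (0,2)]

def d355 : FW :=
  [(15,1), (0,2), (15,1), (16,1), (9,1), (15,1), (16,2), (9,1), (16,1), (15,2), (0,1), (15,1), (16,1), (0,1), (15,2),
   (0,1), (1,1), (0,2), (1,2)]

def d356 : FW :=
  [(1,1), (16,1), (15,2), (0,1), (15,1), (1,1), (15,1), (17,1), (16,1), (12,1), (16,1), (17,1), (15,1)]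

def d357 : FW :=
  [(9,1), (16,1), (0,1), (9,1), (16,1), (9,1), (15,2), (17,1), (15,1), (0,1), (15,1), (16,1), (0,1), (9,1), (15,2),
   (0,1), (17,1), (15,2), (1,1), (0,1), (1,2), (0,2)]

def d358 : FW :=
  [(0,1), (9,1), (16,1), (15,1), (1,1), (15,1), (0,1), (15,1), (16,1), (12,1), (15,1), (0,1), (17,1), (0,1), (12,1),
   (17,1), (15,1), (1,1), (0,1), (1,2), (0,2)]

def d359 : FW :=
  [(17,1), (1,1), (12,1), (0,1), (15,1), (12,1), (16,1), (0,1), (16,1), (15,3), (0,1), (15,1), (17,1), (15,1)]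

def d360 : FW :=
  [(15,1), (0,1), (15,1), (0,1), (15,2), (16,1), (0,1), (9,1), (15,1), (0,1), (15,2), (17,1), (16,1), (9,1), (8,1),
   (16,1), (17,1)]

def d361 : FW :=
  [(9,1), (15,1), (17,1), (16,1), (0,1), (9,1), (16,1), (15,2), (0,1), (15,3), (17,1), (16,1), (9,1), (15,1), (1,1),
   (15,1), (0,1), (1,1), (0,1), (1,2), (0,2)]

def d362 : FW :=
  [(17,3), (15,2), (0,1), (12,1), (15,1), (16,1), (9,1), (17,1), (16,1), (0,2), (1,1)]

def d363 : FW :=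
  [(15,1), (16,1), (0,1), (15,1), (12,1), (15,2), (17,1), (15,3), (0,1), (15,2), (16,1), (3,1), (9,1), (17,1)]

def d364 : FW :=
  [(9,1), (16,1), (1,1), (9,1), (15,1), (0,1), (15,2), (16,1), (9,1), (15,1), (16,1), (9,1), (15,1), (16,1), (3,1),
   (16,1), (15,1), (1,1), (0,1), (1,2), (0,2)]

def d365 : FW :=
  [(9,1), (17,1), (0,1), (17,1), (15,1), (0,2), (16,1), (9,1), (15,1), (1,2), (16,1), (9,1), (8,1)]

def d366 : FW :=
  [(0,1), (9,1), (16,1), (15,1), (1,1), (15,1), (0,1), (15,1), (17,1), (15,2), (4,1), (12,1), (17,1), (15,1), (1,1),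
   (0,1), (1,2), (0,2)]

def d367 : FW :=
  [(16,1), (15,3), (1,1), (15,2), (16,1), (12,1), (15,1), (16,1), (9,1), (15,2), (0,1), (15,3), (16,1), (9,1), (15,2),
   (0,1), (1,1), (0,1), (1,2), (0,2)]

def d368 : FW :=
  [(1,2), (15,1), (16,1), (0,1), (9,1), (17,1), (15,1), (0,1), (12,1), (17,1), (0,1), (11,1), (16,1), (1,1)]

def d369 : FW :=
  [(1,1), (9,1), (16,1), (9,1), (15,1), (1,1), (16,1), (9,1), (15,1), (17,1), (16,1), (12,1), (16,1), (1,1), (17,1),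
   (15,1)]

def d370 : FW :=
  [(16,1), (15,1), (0,1), (1,1), (15,1), (16,1), (9,1), (8,1), (17,1), (16,1), (0,1), (16,1), (17,1)]

def d371 : FW :=
  [(9,1), (15,1), (0,1), (15,1), (17,1), (0,1), (15,2), (16,1), (15,1), (0,1), (12,1), (0,1), (17,1), (15,1), (12,1),
   (0,1), (1,1), (0,2), (1,2)]

def d372 : FW :=
  [(15,2), (17,1), (15,2), (0,1), (16,1), (15,2), (0,2), (15,1), (17,1), (16,1), (0,1), (9,1), (15,3)]

def d373 : FW :=
  [(16,1), (9,1), (17,1), (15,2), (12,1), (16,1), (1,1), (3,1), (16,1), (15,1), (17,1), (16,1), (0,1), (1,1), (0,2),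
   (1,2)]

def d374 : FW :=
  [(1,1), (9,1), (16,1), (0,1), (9,1), (15,3), (0,1), (17,1), (16,2), (9,1), (15,1), (17,1), (15,1), (0,1), (1,1),
   (12,1), (1,1), (0,1), (1,2), (0,2)]

def d375 : FW :=
  [(0,1), (9,1), (15,1), (0,2), (16,1), (12,1), (15,1), (17,1), (0,1), (15,1), (0,2), (15,1), (17,1), (16,1), (9,1),
   (15,2), (1,1), (0,1), (1,2), (0,2)]

def d376 : FW :=
  [(12,1), (1,1), (15,1), (17,1), (1,1), (15,2), (16,1), (17,1), (15,2), (17,1), (15,1), (1,1), (15,1), (17,1),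
   (12,1), (0,1), (1,1), (0,2), (1,2)]

def d377 : FW :=
  [(15,3), (17,1), (16,1), (1,2), (16,1), (9,1), (8,1), (15,1), (12,1), (16,1), (17,1), (0,1), (1,1)]

def d378 : FW :=
  [(15,4), (1,1), (15,1), (17,1), (15,2), (16,1), (15,1), (17,1), (15,1), (0,2), (15,1), (0,1), (1,1), (0,2), (1,2)]

def d379 : FW :=
  [(9,1), (16,1), (15,1), (0,1), (15,2), (16,1), (15,4), (0,1), (12,1), (16,1), (15,1), (3,1), (1,1), (0,1), (1,2),
   (0,2)]

def d380 : FW :=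
  [(16,1), (9,1), (8,1), (15,2), (16,1), (1,1), (16,1), (15,2), (12,1), (0,1), (15,2), (0,1), (15,1), (16,1), (1,1),
   (16,1), (0,1)]

def d381 : FW :=
  [(9,1), (15,1), (17,1), (15,1), (1,1), (12,1), (17,1), (0,1), (12,1), (17,1), (16,1), (0,2), (1,1), (16,1), (17,1),
   (15,1), (1,1), (0,1), (1,1), (0,2), (1,2)]

def d382 : FW :=
  [(15,2), (12,1), (15,1), (12,1), (17,1), (15,3), (17,1), (15,1), (1,1), (16,1), (9,1), (15,1), (0,1), (15,1), (0,1),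
   (15,2), (0,1), (1,1), (0,1), (1,2), (0,2)]

def d383 : FW :=
  [(1,1), (16,1), (17,1), (15,4), (12,1), (0,1), (15,1), (16,1), (15,5), (0,1), (17,1), (15,2)]

def d384 : FW :=
  [(15,2), (0,1), (15,1), (17,1), (15,1), (1,1), (16,1), (1,1), (9,1), (8,1), (17,1), (0,1), (16,1), (1,1), (0,1),
   (1,2), (0,2)]

def d385 : FW :=
  [(9,1), (15,1), (0,1), (15,2), (17,1), (15,2), (16,1), (0,1), (9,1), (16,1), (9,1), (17,1), (0,1), (15,1), (16,1),
   (0,2), (9,1), (1,1), (0,1), (1,2), (0,2)]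

def d386 : FW :=
  [(8,1), (16,1), (1,2), (16,1), (15,1), (17,1), (5,1), (15,2), (0,1), (17,1), (15,1), (12,1), (0,1), (15,2), (1,1),
   (0,1), (1,2), (0,2)]

def d387 : FW :=
  [(9,1), (15,4), (16,1), (0,1), (9,1), (15,1), (0,1), (15,1), (16,1), (9,1), (17,1), (15,1), (0,1), (1,1), (16,1),
   (9,1), (8,1), (17,1)]

def d388 : FW :=
  [(9,1), (8,1), (17,1), (15,2), (0,1), (15,1), (0,1), (16,1), (1,1), (17,1), (15,1), (17,1), (15,2), (17,1), (1,1),
   (0,1), (1,1), (0,2), (1,2)]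

def d389 : FW :=
  [(16,1), (1,1), (9,1), (17,2), (1,1), (16,1), (0,1), (9,1), (8,1), (15,3), (16,1), (15,5), (0,1), (0,1), (1,1),
   (0,2), (1,2)]

def d390 : FW :=
  [(9,1), (15,1), (0,1), (16,1), (0,1), (9,1), (17,1), (1,1), (16,1), (15,2), (16,1), (17,1), (12,1), (15,1), (0,1),
   (16,1), (0,1), (1,1), (0,2), (1,2)]

def d391 : FW :=
  [(3,1), (9,1), (16,1), (17,1), (16,1), (9,1), (15,2), (16,1), (0,1), (15,2), (17,1), (12,1), (15,1), (16,1)]

def d392 : FW :=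
  [(0,1), (1,1), (16,1), (9,1), (15,4), (16,1), (0,1), (15,1), (16,1), (9,1), (15,1), (12,1), (1,1), (0,1), (1,2),
   (0,2)]

def d393 : FW :=
  [(9,1), (15,2), (1,1), (17,1), (15,1), (12,1), (15,1), (16,1), (9,1), (15,2), (1,1), (17,1), (15,5)]

def d394 : FW :=
  [(9,1), (15,3), (16,1), (15,1), (0,1), (12,1), (16,1), (15,2), (16,1), (1,1), (9,1), (15,3), (16,1), (1,1), (0,1),
   (1,2), (0,2)]

def d395 : FW :=
  [(0,1), (1,1), (17,2), (16,1), (0,1), (12,1), (0,1), (17,1), (15,1), (17,1), (0,1), (16,1), (9,1)]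

def d396 : FW :=
  [(15,3), (1,1), (15,1), (16,1), (12,1), (15,3), (17,1), (16,1), (9,1), (16,1), (0,1), (1,1), (17,1), (0,1), (1,1),
   (0,2), (1,2)]

def d397 : FW :=
  [(15,1), (0,1), (12,1), (15,4), (0,1), (16,1), (15,2), (3,1), (16,1), (15,1), (16,1), (9,1), (16,1), (0,1), (9,1),
   (1,1), (0,1), (1,2), (0,2)]

def d398 : FW :=
  [(9,1), (17,1), (15,1), (17,1), (1,1), (11,1), (15,1), (17,1), (16,1), (0,1), (9,1), (15,1), (17,1), (0,2), (16,1),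
   (0,1), (15,1), (1,1), (0,1), (1,2), (0,2)]

def d399 : FW :=
  [(15,1), (17,1), (0,1), (16,1), (9,1), (15,1), (1,1), (16,1), (12,1), (0,1), (15,1), (16,1), (9,1), (15,1), (0,1),
   (15,1), (17,1), (1,1), (0,1), (1,2), (0,2)]

def d400 : FW :=
  [(0,1), (9,1), (16,1), (0,2), (12,1), (15,1), (17,1), (15,2), (16,1), (15,1), (16,1), (0,1), (12,1), (15,2), (17,1),
   (0,1), (1,1), (0,1), (1,2), (0,2)]

def d401 : FW :=
  [(0,1), (9,1), (16,1), (0,1), (9,1), (17,1), (0,1), (15,4), (16,1), (0,2), (9,1), (15,1), (0,1), (17,1), (16,1),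
   (9,1)]

def d402 : FW :=
  [(0,1), (9,1), (12,1), (0,1), (17,1), (15,1), (16,2), (9,1), (15,3), (0,2), (17,1), (16,1), (0,1), (15,3), (0,1),
   (1,1), (0,2), (1,2)]

def d403 : FW :=
  [(0,1), (15,1), (0,1), (17,3), (16,1), (9,1), (15,4), (0,1), (15,1), (17,1), (11,1), (0,1), (15,1), (0,1), (1,1),
   (0,2), (1,2)]

def d404 : FW :=
  [(9,1), (17,2), (1,1), (12,1), (17,1), (1,1), (15,3), (16,1), (15,1), (0,1), (1,1), (15,1), (17,1), (15,3)]

def d405 : FW :=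
  [(0,1), (17,1), (15,1), (0,1), (16,1), (12,1), (1,1), (15,1), (16,1), (9,1), (15,1), (17,1), (12,1), (17,1), (15,1),
   (17,1), (1,1), (1,1), (0,1), (1,2), (0,2)]

def d406 : FW :=
  [(16,1), (15,2), (16,1), (9,1), (15,1), (0,1), (16,1), (9,1), (17,1), (1,1), (12,1), (1,1), (15,1), (17,1), (1,1),
   (0,1), (1,2), (0,2)]

def d407 : FW :=
  [(5,1), (17,1), (5,1), (12,1), (15,4), (12,1), (17,1), (0,1), (15,1), (17,2), (15,1), (0,1), (15,2), (1,1), (0,1),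
   (1,2), (0,2)]

def d408 : FW :=
  [(17,1), (0,2), (17,1), (16,1), (0,1), (16,1), (0,1), (9,1), (15,2), (12,1), (1,1), (15,1), (12,1)]

def d409 : FW :=
  [(1,1), (17,1), (0,1), (15,2), (0,1), (16,1), (15,2), (12,1), (16,1), (15,1), (12,1), (1,1), (17,1), (1,1), (0,1),
   (1,2), (0,2)]

def d410 : FW :=
  [(11,1), (0,1), (15,1), (16,1), (17,1), (15,1), (0,1), (15,2), (0,1), (16,1), (9,1), (16,1), (15,1), (0,1), (15,2),
   (17,1), (0,1), (0,1), (1,1), (0,2), (1,2)]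

def d411 : FW :=
  [(9,1), (15,1), (17,1), (15,3), (0,1), (17,1), (16,1), (9,1), (15,2), (16,1), (9,1), (8,1), (1,1), (15,1), (0,1),
   (15,2)]

def d412 : FW :=
  [(17,1), (15,1), (11,1), (15,1), (16,1), (9,1), (15,2), (17,1), (16,1), (1,1), (9,1), (16,1), (0,1), (9,1)]

def d413 : FW :=
  [(16,1), (15,1), (0,1), (17,1), (0,1), (16,1), (0,1), (9,1), (17,1), (0,1), (17,2), (0,1), (1,1), (0,2), (1,2)]

def d414 : FW :=
  [(0,1), (9,1), (15,1), (17,1), (12,1), (15,1), (17,1), (12,1), (0,1), (15,2), (16,3), (0,1), (15,1)]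

def d415 : FW :=
  [(17,1), (15,3), (17,1), (16,1), (3,1), (9,1), (16,1), (1,1), (9,1), (15,2), (16,1), (15,2), (0,1), (1,1), (0,2),
   (1,2)]

def d416 : FW :=
  [(15,1), (0,1), (1,1), (15,1), (16,1), (15,1), (17,2), (15,1), (1,1), (12,1), (17,1), (15,1), (17,1), (12,1),
   (16,1), (1,1), (0,1), (1,1), (0,2), (1,2)]

def d417 : FW :=
  [(9,1), (15,1), (16,1), (17,1), (0,1), (15,1), (1,1), (15,2), (0,1), (16,1), (15,1), (0,1), (16,1), (12,1), (17,1),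
   (15,2)]

def d418 : FW :=
  [(17,2), (15,2), (1,1), (17,1), (0,2), (16,1), (9,1), (15,2), (0,1), (17,1)]

def d419 : FW :=
  [(15,3), (1,1), (15,1), (0,1), (17,1), (16,1), (17,1), (0,2), (12,1), (0,1), (15,2), (16,1), (12,1), (0,1), (1,1),
   (0,2), (1,2)]

def d420 : FW :=
  [(9,1), (15,2), (16,1), (9,1), (15,2), (0,1), (16,1), (9,1), (15,3), (0,1), (16,1), (9,1), (15,2), (16,1), (0,1),
   (9,1), (15,1), (1,1)]

def d421 : FW :=
  [(12,1), (17,1), (15,1), (1,1), (12,1), (15,1), (0,1), (15,1), (16,1), (1,1), (15,1), (17,1), (15,2), (1,1), (16,1),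
   (9,1), (1,1), (0,1), (1,2), (0,2)]

def d422 : FW :=
  [(0,1), (17,1), (16,1), (9,1), (15,3), (1,1), (15,1), (16,1), (9,1), (15,1), (12,1), (15,1), (0,1), (15,1), (1,1),
   (17,1), (15,1), (1,1), (0,1), (1,2), (0,2)]

def d423 : FW :=
  [(0,1), (9,1), (15,1), (16,1), (1,1), (9,1), (15,2), (16,1), (15,1), (0,1), (15,1), (12,1), (15,1), (16,1), (1,1),
   (16,1), (9,1), (15,1), (1,1), (0,1), (1,2), (0,2)]

def d424 : FW :=
  [(12,1), (0,1), (15,1), (0,1), (15,1), (16,1), (9,1), (17,1), (0,1), (1,1), (17,1), (15,1), (16,1), (15,1), (12,1),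
   (15,4), (1,1), (0,1), (1,2), (0,2)]

def d425 : FW :=
  [(16,1), (0,2), (9,1), (15,1), (17,1), (16,1), (0,1), (15,1), (17,1), (16,1), (1,1), (0,1), (1,1), (0,2), (1,2)]

def d426 : FW :=
  [(9,1), (15,1), (0,1), (16,1), (1,1), (12,1), (15,1), (16,1), (15,5), (0,1), (16,1), (1,1), (9,1), (16,1), (15,2)]

def d427 : FW :=
  [(15,1), (0,1), (15,1), (1,1), (15,1), (0,1), (12,1), (15,2), (16,1), (9,1), (17,1), (0,1), (15,2), (17,1), (12,1),
   (15,1), (0,1)]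

def d428 : FW :=
  [(1,1), (17,1), (16,1), (15,1), (12,1), (0,1), (15,3), (0,1), (15,1), (17,1), (15,1), (12,1), (15,2), (16,1), (1,2)]

def d429 : FW :=
  [(9,1), (16,1), (15,1), (16,1), (1,1), (9,1), (15,2), (16,2), (15,1), (16,1), (0,1), (15,1), (0,1)]

def d430 : FW :=
  [(11,1), (15,1), (17,1), (0,1), (15,3), (16,1), (1,1), (16,1), (0,1), (9,1), (17,1), (0,1), (1,1), (1,1), (0,1),
   (1,2), (0,2)]

def d431 : FW :=
  [(9,1), (15,1), (0,1), (15,1), (16,1), (15,2), (16,1), (0,2), (9,1), (15,1), (16,1), (15,1), (1,1), (16,1)]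

def d432 : FW :=
  [(17,1), (0,1), (17,1), (15,2), (16,1), (9,1), (16,1), (0,1), (15,1), (16,1), (9,1), (8,1), (1,1), (15,1), (0,1),
   (15,2), (1,1), (0,1), (1,2), (0,2)]

def d433 : FW :=
  [(9,1), (15,2), (0,1), (15,1), (0,1), (15,2), (16,1), (9,1), (15,1), (1,1), (16,1), (9,1), (15,1), (1,1), (15,1),
   (12,1), (15,1), (12,1), (1,1), (0,1), (1,2), (0,2)]

def d434 : FW :=
  [(9,1), (15,1), (17,1), (15,1), (17,1), (16,1), (1,2), (12,1), (16,1), (15,1), (16,1), (9,1), (15,3), (1,1), (1,1),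
   (0,1), (1,2), (0,2)]

def d435 : FW :=
  [(0,1), (15,1), (16,1), (0,1), (9,1), (15,1), (0,2), (15,1), (16,1), (17,1), (15,2), (16,1), (9,1), (15,2), (17,1),
   (12,1), (0,1), (1,1), (0,2), (1,2)]

def d436 : FW :=
  [(1,1), (15,2), (12,1), (17,1), (16,1), (0,2), (1,1), (12,1), (0,1), (17,1), (16,1), (9,1), (15,2), (0,1), (1,1),
   (0,2), (1,2)]

def d437 : FW :=
  [(15,1), (17,1), (1,1), (15,2), (0,1), (16,1), (9,1), (8,1), (15,2), (16,1), (17,1), (0,1), (15,1), (0,1)]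

def d438 : FW :=
  [(9,1), (16,1), (9,1), (15,1), (1,1), (15,1), (16,1), (9,1), (15,1), (0,1), (1,1), (16,1), (9,1), (16,1), (9,1),
   (15,1), (17,1), (1,1), (17,1)]

def d439 : FW :=
  [(16,1), (9,1), (15,1), (17,2), (12,1), (1,2), (16,1), (15,1), (17,1), (15,1), (17,1), (1,1), (16,1), (0,1), (1,1),
   (0,2), (1,2)]

def d440 : FW :=
  [(9,1), (15,1), (0,1), (15,1), (16,1), (9,1), (15,2), (12,1), (15,1), (16,2), (15,1), (0,1), (15,1), (0,1), (16,1),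
   (15,2), (0,1), (15,1), (0,1), (1,1), (0,1), (1,2), (0,2)]

def d441 : FW :=
  [(0,1), (17,1), (0,1), (15,2), (17,1), (12,1), (15,2), (16,1), (0,1), (3,1), (16,1), (9,1), (15,1), (16,1), (15,1)]

def d442 : FW :=
  [(9,1), (15,3), (0,1), (15,1), (0,1), (16,1), (0,1), (9,1), (8,1), (15,1), (12,1), (17,1), (15,1), (17,1), (16,1),
   (0,1), (15,1), (1,1), (0,1), (1,2), (0,2)]

def d443 : FW :=
  [(9,1), (12,1), (16,1), (17,1), (0,1), (16,1), (15,1), (0,1), (15,2), (0,1), (16,1), (15,3), (17,1), (0,1), (12,1)]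

def d444 : FW :=
  [(9,1), (15,1), (0,1), (16,1), (0,1), (9,1), (15,1), (17,1), (16,1), (17,1), (0,1), (15,3), (16,1), (9,1), (15,1),
   (0,1), (0,1), (1,1), (0,2), (1,2)]

def d445 : FW :=
  [(12,1), (15,1), (0,1), (17,1), (1,1), (15,2), (17,1), (16,1), (17,1), (0,1), (17,1), (0,1), (15,2), (0,1), (12,1),
   (15,1), (1,1), (0,1), (1,2), (0,2)]

def d446 : FW :=
  [(15,1), (17,2), (15,2), (16,1), (15,1), (16,1), (9,1), (8,1), (15,2), (0,1), (15,1), (0,1), (15,1), (0,1), (15,1)]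

def d447 : FW :=
  [(16,1), (0,1), (1,1), (12,1), (16,1), (15,1), (0,1), (16,1), (0,1), (16,2), (15,2), (16,1), (15,2), (0,1), (1,1),
   (0,2), (1,2)]

def d448 : FW :=
  [(16,1), (0,2), (9,1), (16,1), (9,1), (15,2), (17,1), (0,1), (15,3), (16,1), (9,1), (15,2), (0,1), (15,2), (0,1),
   (17,1)]

def d449 : FW :=
  [(12,1), (0,1), (15,1), (12,1), (17,1), (15,3), (17,1), (16,1), (15,3), (1,1), (16,1), (15,1), (0,1), (15,2), (1,1),
   (0,1), (1,2), (0,2)]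

def d450 : FW :=
  [(15,1), (1,1), (15,3), (0,1), (16,2), (15,1), (0,1), (12,1), (15,3), (1,1), (15,1), (1,1), (0,1), (1,2), (0,2)]

def d451 : FW :=
  [(15,1), (0,1), (15,1), (12,1), (17,1), (16,1), (1,1), (16,1), (0,1), (15,2), (17,1), (0,1), (1,1), (0,2), (1,2)]

def d452 : FW :=
  [(15,1), (17,1), (0,2), (16,1), (17,1), (16,1), (15,1), (1,1), (16,1), (9,1), (8,1), (15,1), (0,1), (12,1), (15,1),
   (0,1), (1,1), (0,2), (1,2)]

def d453 : FW :=
  [(0,2), (9,1), (15,1), (0,1), (17,1), (16,1), (9,1), (15,1), (17,1), (15,1), (17,1), (12,1), (0,1), (17,1), (15,1),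
   (12,1), (1,1), (0,1), (1,2), (0,2)]

def d454 : FW :=
  [(17,1), (12,1), (15,4), (12,1), (17,1), (16,1), (15,4), (0,1), (16,1), (0,1), (1,1), (15,1), (0,1)]

def d455 : FW :=
  [(0,1), (9,1), (17,1), (0,1), (17,1), (0,1), (15,1), (17,1), (15,1), (12,1), (15,1), (17,1), (12,1), (16,1), (1,2),
   (3,1), (15,1), (1,1), (0,1), (1,1), (0,2), (1,2)]

def d456 : FW :=
  [(9,1), (17,1), (16,1), (17,1), (15,5), (16,1), (0,2), (15,1), (1,1), (16,1), (9,1), (0,1), (1,1), (0,2), (1,2)]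

def d457 : FW :=
  [(15,3), (17,2), (12,1), (0,1), (17,1), (16,1), (12,1), (0,1), (17,1), (15,2), (1,1), (15,2)]

def d458 : FW :=
  [(9,1), (17,1), (15,1), (16,1), (1,1), (15,2), (0,1), (17,1), (0,1), (15,1), (16,1), (15,1), (0,1), (16,1), (9,1),
   (15,1), (1,1), (0,1), (1,2), (0,2)]

def d459 : FW :=
  [(9,1), (12,1), (0,1), (17,1), (15,1), (0,1), (12,1), (17,1), (16,1), (0,1), (9,1), (17,1), (15,1), (17,1), (1,1),
   (15,1), (1,1), (1,1), (0,1), (1,2), (0,2)]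

def d460 : FW :=
  [(17,1), (0,2), (17,1), (0,2), (16,1), (0,1), (9,1), (8,1), (15,3), (0,1), (15,1), (17,1), (15,2), (17,1), (1,1),
   (0,1), (1,2), (0,2)]

def d461 : FW :=
  [(9,1), (16,1), (9,1), (15,2), (1,1), (15,1), (16,1), (15,1), (17,2), (15,1), (16,1), (9,1), (15,1), (0,1), (15,1),
   (0,2)]

def d462 : FW :=
  [(15,1), (17,1), (16,1), (12,1), (0,1), (15,1), (17,1), (16,1), (0,1), (16,2), (3,1), (15,1), (1,1), (0,1), (1,2),
   (0,2)]

def d463 : FW :=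
  [(9,1), (17,3), (0,1), (15,1), (0,2), (15,1), (16,1), (0,1), (9,1), (15,1), (17,1), (0,1), (15,1), (11,1), (1,1)]

def d464 : FW :=
  [(15,1), (0,1), (15,1), (17,1), (0,1), (16,1), (9,1), (15,1), (12,1), (15,2), (0,2), (12,1), (15,1), (17,1), (15,1),
   (16,1), (0,1), (1,1), (0,2), (1,2)]

def d465 : FW :=
  [(0,1), (3,1), (9,1), (16,2), (9,1), (15,1), (16,1), (9,1), (17,2), (15,2), (0,1), (16,1)]

def d466 : FW :=
  [(15,1), (0,1), (1,1), (16,1), (15,1), (16,1), (9,1), (15,1), (16,1), (9,1), (15,1), (17,1), (15,1), (17,1), (11,1),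
   (0,1), (1,1), (0,2), (1,2)]

def d467 : FW :=
  [(0,1), (17,1), (15,1), (4,1), (15,2), (17,1), (0,1), (17,2), (15,1), (16,1), (1,1), (9,1), (1,1), (0,1), (1,2),
   (0,2)]

def d468 : FW :=
  [(15,1), (12,1), (0,2), (17,1), (15,1), (17,1), (15,1), (16,1), (1,1), (16,1), (15,1), (16,1), (1,1), (16,1), (1,1),
   (15,2), (0,1), (1,1), (0,2), (1,2)]

def d469 : FW :=
  [(16,1), (0,1), (9,1), (15,1), (16,1), (0,1), (15,2), (16,1), (15,2), (16,2), (9,1), (15,3), (1,1)]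

def d470 : FW :=
  [(1,1), (15,1), (1,1), (16,1), (0,1), (16,1), (0,1), (9,1), (15,1), (17,2), (15,1), (16,1), (9,1), (8,1), (16,1),
   (15,1)]

def d471 : FW :=
  [(0,1), (3,1), (16,1), (9,1), (15,1), (1,1), (15,2), (16,1), (15,1), (12,1), (15,1)]

def d472 : FW :=
  [(1,2), (9,1), (15,1), (0,1), (16,1), (9,1), (8,1), (15,3), (16,1), (15,1), (17,2), (15,1), (16,1)]

def d473 : FW :=
  [(9,1), (17,1), (3,1), (15,1), (16,1), (9,1), (15,2), (12,1), (0,1), (16,1), (0,1), (15,1), (16,1), (9,1), (17,1),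
   (0,1), (1,1), (0,1), (1,2), (0,2)]

def d474 : FW :=
  [(9,1), (12,1), (0,1), (17,1), (16,1), (9,1), (17,1), (0,1), (15,2), (16,1), (0,1), (15,5), (0,1), (1,1), (0,2),
   (1,2)]

def d475 : FW :=
  [(9,1), (15,2), (12,1), (17,1), (0,2), (15,1), (17,1), (16,1), (0,1), (3,2), (9,1), (16,1), (1,1), (15,1), (16,1),
   (9,1)]

def d476 : FW :=
  [(0,1), (17,1), (0,1), (17,1), (11,1), (15,1), (16,1), (9,1), (15,1), (1,1), (16,1), (0,1), (15,1), (0,1), (16,1),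
   (9,1), (0,1), (1,1), (0,2), (1,2)]

def d477 : FW :=
  [(0,1), (9,1), (15,1), (17,1), (0,1), (12,1), (15,1), (0,1), (12,1), (15,2), (16,1), (15,3), (0,1), (15,1), (17,1),
   (1,1), (0,1), (1,1), (0,2), (1,2)]

def d478 : FW :=
  [(9,1), (16,1), (9,1), (17,1), (15,1), (16,1), (0,1), (16,1), (12,1), (0,1), (15,1), (17,1), (16,1), (3,1), (15,2),
   (0,1), (1,1), (0,2), (1,2)]

def d479 : FW :=
  [(1,1), (15,1), (1,1), (15,1), (16,1), (9,1), (16,1), (9,1), (17,1), (0,1), (16,1), (9,1), (17,1), (0,1), (15,1),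
   (16,1), (12,1), (0,1), (1,1), (0,2), (1,2)]

def d480 : FW :=
  [(9,1), (16,1), (9,1), (15,3), (1,1), (16,2), (9,1), (16,1), (1,1), (15,1), (1,1), (15,1), (12,1), (16,1)]

def d481 : FW :=
  [(9,1), (8,1), (1,1), (15,1), (17,1), (15,1), (16,1), (17,1), (15,1), (0,1), (16,2), (15,1), (16,1), (15,1), (1,1)]

def d482 : FW :=
  [(15,1), (1,1), (15,3), (0,1), (16,2), (9,1), (15,4), (16,1), (9,1), (15,1), (12,1), (1,1)]

def d483 : FW :=
  [(15,1), (12,1), (15,2), (17,3), (1,1), (15,2), (16,1), (17,1), (15,1), (12,1), (0,1), (15,1), (0,1), (15,1), (1,1),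
   (0,1), (1,2), (0,2)]

def d484 : FW :=
  [(1,1), (17,1), (16,2), (9,1), (15,2), (12,1), (17,1), (1,1), (16,1), (0,1), (9,1), (15,2), (0,1), (15,1), (1,1),
   (0,1), (1,2), (0,2)]

def d485 : FW :=
  [(1,1), (9,1), (15,1), (16,1), (9,1), (16,1), (9,1), (15,1), (16,1), (15,2), (17,1), (15,1), (1,1), (15,1), (0,1),
   (17,1), (16,1), (1,1), (9,1), (0,1), (1,1), (0,2), (1,2)]

def d486 : FW :=
  [(15,1), (0,1), (15,3), (0,1), (16,1), (9,1), (15,2), (0,1), (15,1), (16,1), (9,1), (15,1), (0,1), (1,1), (12,1),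
   (17,2)]

def d487 : FW :=
  [(9,1), (15,1), (0,1), (16,1), (9,1), (16,1), (9,1), (17,1), (1,1), (17,1), (11,1), (15,1), (17,1), (16,1), (3,1),
   (9,1), (17,1), (0,1), (1,1), (0,1), (1,2), (0,2)]

def d488 : FW :=
  [(1,1), (12,1), (1,1), (15,1), (16,2), (9,1), (15,4), (16,1), (1,1), (9,1), (15,1), (16,1), (0,1), (9,1), (15,2)]

def d489 : FW :=
  [(15,2), (1,1), (17,1), (15,1), (16,1), (15,1), (1,1), (11,1), (15,3), (17,1), (15,2), (16,1), (9,1), (15,1), (0,1),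
   (1,1), (0,2), (1,2)]

def d490 : FW :=
  [(1,1), (9,1), (15,2), (17,1), (0,1), (15,2), (16,1), (9,1), (8,1), (16,1), (17,1), (15,2), (0,1), (4,1), (0,1),
   (1,1), (0,2), (1,2)]

def d491 : FW :=
  [(9,1), (15,1), (16,1), (15,2), (16,1), (0,1), (15,2), (0,1), (15,1), (16,1), (17,1), (15,1), (0,1), (1,1), (12,1),
   (17,1), (0,1), (1,1), (0,2), (1,2)]

def d492 : FW :=
  [(0,1), (9,1), (12,1), (15,1), (16,1), (9,1), (15,1), (0,1), (17,1), (15,1), (17,1), (16,1), (15,1), (16,1), (15,1),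
   (1,1), (15,2), (1,1), (0,1), (1,2), (0,2)]

def d493 : FW :=
  [(16,1), (0,1), (1,1), (9,1), (15,1), (17,1), (12,1), (15,1), (0,1), (16,1), (0,1), (1,1), (15,1), (17,1), (12,1),
   (15,2), (1,1), (0,1), (1,2), (0,2)]

def d494 : FW :=
  [(1,1), (15,1), (12,1), (15,1), (0,2), (16,1), (17,2), (16,1), (12,1), (15,1), (0,2), (1,1), (0,1), (1,2), (0,2)]

def d495 : FW :=
  [(9,1), (16,1), (9,1), (8,1), (15,3), (0,1), (15,1), (0,1), (16,1), (15,1), (16,1), (15,2), (16,1), (3,1), (0,1),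
   (1,1), (0,2), (1,2)]

def d496 : FW :=
  [(15,2), (12,1), (15,1), (17,1), (15,3), (17,1), (15,1), (0,1), (15,2), (16,1), (0,1), (15,1), (0,1), (1,1), (0,1),
   (1,1), (0,2), (1,2)]

def d497 : FW :=
  [(15,1), (17,2), (1,1), (17,1), (15,2), (17,1), (12,1), (15,1), (10,1), (0,1), (15,1), (0,1), (1,2), (3,1)]

def d498 : FW :=
  [(16,1), (0,1), (3,1), (16,1), (1,1), (16,1), (9,1), (15,1), (17,2), (12,1), (15,1), (12,1), (15,1), (0,1)]

def d499 : FW :=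
  [(0,1), (9,1), (16,1), (9,1), (15,2), (17,1), (15,3), (0,1), (17,1), (1,1), (16,1), (9,1), (16,1), (15,2), (1,1),
   (1,1), (0,1), (1,2), (0,2)]

def d500 : FW :=
  [(9,1), (15,1), (0,1), (15,2), (17,1), (16,1), (9,1), (15,1), (16,1), (0,1), (9,1), (16,1), (15,1), (17,1), (15,1),
   (0,1), (12,1), (0,1), (1,1), (0,2), (1,2)]

def d501 : FW :=
  [(0,1), (15,2), (17,1), (15,1), (17,3), (15,1), (1,1), (10,1), (0,2), (1,1), (3,1), (15,1), (1,1), (0,1), (1,2),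
   (0,2)]

def d502 : FW :=
  [(9,1), (16,1), (9,1), (15,1), (0,1), (15,1), (12,1), (17,1), (15,1), (16,1), (0,2), (16,1), (17,1), (15,1), (16,1),
   (1,1), (0,1), (1,1), (0,2), (1,2)]

def d503 : FW :=
  [(15,2), (1,1), (16,1), (9,1), (15,1), (0,1), (12,1), (1,1), (15,2), (17,1), (16,1), (17,1), (15,1), (0,1), (15,1),
   (1,1), (0,1), (1,2), (0,2)]

def d504 : FW :=
  [(15,5), (0,1), (16,1), (15,1), (16,1), (17,1), (12,1), (0,1), (17,1), (15,1), (1,1), (12,1), (15,1), (1,1), (0,1),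
   (1,2), (0,2)]

def d505 : FW :=
  [(15,3), (12,1), (16,1), (1,1), (15,2), (0,1), (17,3), (12,1), (15,1), (17,1), (0,1), (1,1), (0,2), (1,2)]

def d506 : FW :=
  [(9,1), (17,1), (1,1), (12,1), (15,2), (1,1), (17,1), (12,1), (15,1), (16,1), (3,1), (17,1), (0,1), (17,1), (15,1)]

def d507 : FW :=
  [(0,1), (9,1), (17,1), (1,1), (16,1), (9,1), (16,1), (0,1), (9,1), (16,1), (9,1), (15,5), (17,1), (1,1), (15,3)]

def d508 : FW :=
  [(0,1), (15,2), (12,1), (17,1), (16,1), (12,1), (15,5), (0,2), (17,1), (16,1), (15,1), (12,1), (15,2), (1,1),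
   (15,1), (1,1), (0,1), (1,2), (0,2)]

def d509 : FW :=
  [(15,1), (0,1), (1,1), (16,1), (15,1), (16,1), (9,1), (15,3), (1,1), (16,1), (1,1), (9,1), (15,3), (0,1), (1,1),
   (0,2), (1,2)]

def d510 : FW :=
  [(15,3), (17,1), (0,1), (12,1), (15,1), (16,1), (9,1), (15,2), (0,1), (16,1), (17,1), (15,1), (0,1), (16,1), (1,1),
   (9,1), (15,1)]

def d511 : FW :=
  [(0,1), (15,2), (0,1), (12,1), (1,1), (15,2), (16,1), (3,1), (15,1), (1,1), (12,1), (0,1), (0,1), (1,1), (0,2),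
   (1,2)]

def d512 : FW :=
  [(9,1), (15,3), (16,2), (12,1), (17,1), (1,1), (16,1), (15,2), (1,1), (15,3), (17,1)]

def d513 : FW :=
  [(9,1), (15,2), (0,1), (15,2), (16,1), (9,1), (17,1), (0,1), (15,1), (0,1), (15,3), (17,1), (16,1), (15,1), (0,1),
   (0,1), (1,1), (0,2), (1,2)]

def d514 : FW :=
  [(0,1), (4,1), (9,1), (15,1), (0,2), (15,1), (17,1), (16,1), (9,1), (16,1), (9,1), (15,1), (17,3), (15,2), (0,1),
   (1,1), (0,2), (1,2)]

def d515 : FW :=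
  [(0,2), (17,1), (0,1), (15,1), (16,1), (0,1), (9,1), (17,1), (15,1), (0,1), (17,1), (15,1), (12,1), (15,1), (0,1),
   (17,1)]

def d516 : FW :=
  [(17,1), (1,1), (16,1), (15,1), (16,1), (1,1), (9,1), (15,1), (12,1), (17,1), (16,1), (0,1), (16,1), (9,1)]

def d517 : FW :=
  [(9,1), (15,1), (17,1), (15,1), (16,1), (0,1), (9,1), (15,3), (16,1), (9,1), (17,1), (0,1), (3,1), (16,1), (15,2),
   (0,1), (1,1), (0,2), (1,2)]

def d518 : FW :=
  [(9,1), (15,3), (16,1), (0,1), (15,1), (16,1), (9,1), (17,1), (12,1), (1,2), (15,2), (17,1), (16,1), (1,1), (0,1),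
   (1,2), (0,2)]

def d519 : FW :=
  [(9,1), (16,1), (17,2), (15,1), (17,1), (0,1), (12,1), (0,1), (16,1), (0,1), (17,1), (12,1), (16,1), (0,1), (15,1),
   (1,1), (0,1), (1,2), (0,2)]

def d520 : FW :=
  [(15,1), (0,1), (15,1), (0,2), (15,1), (16,2), (9,1), (15,3), (16,1), (0,1), (1,2), (16,1), (9,1)]

def d521 : FW :=
  [(16,1), (17,1), (16,1), (0,1), (1,1), (9,1), (15,1), (12,1), (15,1), (16,1), (17,1), (15,1), (1,1), (16,1), (1,1),
   (0,1), (1,2), (0,2)]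

def d522 : FW :=
  [(17,1), (1,1), (15,2), (16,1), (15,1), (12,1), (17,1), (15,1), (1,1), (12,1), (16,1), (0,1), (15,1), (0,1), (1,1),
   (0,1), (1,2), (0,2)]

def d523 : FW :=
  [(17,1), (15,2), (0,1), (12,1), (17,1), (0,1), (17,2), (15,2), (16,1), (1,2), (3,1), (9,1), (15,1), (12,1), (1,1),
   (0,1), (1,2), (0,2)]

def d524 : FW :=
  [(15,1), (17,1), (15,2), (12,1), (15,2), (16,1), (12,1), (17,3), (15,1), (1,1), (15,1), (1,1), (0,1), (1,2), (0,2)]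

def d525 : FW :=
  [(9,1), (15,1), (16,1), (15,1), (0,1), (16,1), (9,1), (17,1), (15,1), (0,1), (15,3), (0,1), (17,1), (16,1), (0,1),
   (12,1), (15,1), (0,1), (1,1), (0,1), (1,2), (0,2)]

def d526 : FW :=
  [(0,2), (9,1), (15,1), (0,1), (16,1), (9,1), (15,3), (16,1), (9,1), (15,3), (16,1), (1,1), (9,1), (8,1), (15,1),
   (16,1), (0,1), (1,1), (0,2), (1,2)]

def d527 : FW :=
  [(1,1), (9,1), (15,2), (16,1), (15,1), (16,2), (9,1), (15,1), (1,1), (15,3), (16,1), (1,1), (9,1), (8,1), (0,1),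
   (1,1), (0,2), (1,2)]

def d528 : FW :=
  [(9,1), (16,1), (9,1), (16,2), (15,2), (0,2), (15,1), (16,1), (0,1), (12,1), (15,1), (0,1), (17,2), (1,1)]

def d529 : FW :=
  [(9,1), (15,1), (0,1), (15,1), (17,1), (1,1), (16,2), (9,1), (8,1), (17,2), (15,1), (17,1), (16,1), (0,1), (0,1),
   (1,1), (0,2), (1,2)]

def d530 : FW :=
  [(0,1), (15,3), (16,1), (15,1), (17,1), (0,1), (1,1), (17,1), (16,1), (15,2), (0,1), (12,1), (0,1), (1,1), (0,2),
   (1,2)]

def d531 : FW :=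
  [(0,2), (9,1), (15,1), (16,1), (9,1), (17,1), (15,1), (12,1), (0,1), (15,2), (17,1), (15,1), (16,1), (9,1), (15,1),
   (16,1), (15,1), (0,1)]

def d532 : FW :=
  [(15,3), (0,1), (15,1), (17,1), (16,1), (15,1), (17,1), (0,1), (15,3), (0,1), (16,1), (9,1), (15,2), (12,1), (1,1),
   (0,1), (1,1), (0,2), (1,2)]

def d533 : FW :=
  [(1,1), (16,1), (9,1), (17,2), (1,1), (12,1), (15,1), (17,1), (12,1), (15,1), (16,1), (17,1), (0,1), (3,1), (1,1),
   (0,1), (1,2), (0,2)]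

def d534 : FW :=
  [(9,1), (17,1), (15,2), (16,1), (9,1), (8,1), (15,1), (0,1), (15,1), (17,1), (0,1), (15,2), (0,1), (16,1), (0,1),
   (1,1), (15,1), (16,1), (1,1), (0,1), (1,2), (0,2)]

def d535 : FW :=
  [(9,1), (16,1), (15,1), (17,1), (15,2), (17,1), (0,1), (15,2), (0,1), (16,1), (9,1), (15,2), (1,1), (15,1), (1,1),
   (15,1), (1,1), (0,1), (1,2), (0,2)]

def d536 : FW :=
  [(15,1), (16,1), (15,1), (16,1), (9,1), (16,1), (9,1), (15,1), (17,1), (0,1), (15,2), (17,1), (16,1), (15,1), (0,1),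
   (3,1), (1,1), (0,1), (1,2), (0,2)]

def d537 : FW :=
  [(9,1), (15,3), (17,1), (15,1), (12,1), (1,1), (15,2), (17,1), (16,1), (1,1), (15,3), (16,1), (9,1), (15,1), (0,1),
   (0,1), (1,1), (0,2), (1,2)]

def d538 : FW :=
  [(9,1), (15,1), (16,1), (0,2), (12,1), (17,1), (0,1), (15,1), (16,1), (15,2), (0,2), (15,1), (17,1), (15,3), (0,1),
   (1,1), (0,2), (1,2)]

def d539 : FW :=
  [(1,1), (9,1), (15,1), (1,1), (15,1), (12,1), (0,1), (16,1), (0,1), (17,1), (15,2), (17,1), (0,2), (16,1), (15,3)]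

def d540 : FW :=
  [(12,1), (0,1), (15,2), (12,1), (17,1), (15,3), (0,1), (15,2), (16,1), (0,1), (15,4), (17,1), (15,1), (0,1), (0,1),
   (1,1), (0,2), (1,2)]

def d541 : FW :=
  [(15,2), (1,1), (15,1), (16,2), (0,1), (9,1), (17,1), (16,2), (0,1), (16,1), (9,1), (17,1), (1,1), (0,1), (1,1),
   (0,2), (1,2)]

def d542 : FW :=
  [(9,1), (15,2), (16,1), (9,1), (15,1), (0,1), (1,1), (16,1), (9,1), (17,1), (16,2), (9,1), (15,4), (1,1), (17,1)]

def d543 : FW :=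
  [(9,1), (15,2), (16,1), (15,2), (0,1), (17,1), (15,1), (16,1), (1,2), (9,1), (15,1), (0,1), (16,1), (15,1), (17,1),
   (15,1), (1,1), (0,1), (1,2), (0,2)]

def d544 : FW :=
  [(15,1), (12,1), (15,1), (17,2), (15,1), (17,1), (1,1), (15,1), (16,1), (9,1), (17,1), (15,2), (12,1), (0,1), (1,1),
   (15,1), (1,1), (0,1), (1,2), (0,2)]

def d545 : FW :=
  [(17,1), (15,2), (12,1), (0,1), (15,1), (0,1), (16,1), (15,3), (17,1), (15,1), (12,1), (0,1), (15,1), (16,1), (0,1),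
   (1,1), (0,2), (1,2)]

def d546 : FW :=
  [(0,1), (9,1), (8,1), (15,3), (1,1), (16,1), (15,1), (16,1), (15,1), (0,1), (16,1), (0,1), (15,1), (16,1), (15,1),
   (0,1), (1,1), (0,2), (1,2)]

def d547 : FW :=
  [(15,4), (17,1), (12,1), (0,1), (15,5), (17,1), (12,1), (15,2), (16,1), (9,1), (15,1), (0,1), (1,1)]

def d548 : FW :=
  [(3,1), (9,1), (17,1), (15,2), (0,1), (15,1), (16,1), (0,1), (9,1), (15,1), (0,1), (17,1), (12,1), (15,2), (17,2)]

def d549 : FW :=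
  [(9,1), (15,3), (0,1), (16,1), (15,1), (16,1), (15,2), (17,1), (15,1), (1,1), (15,1), (0,1), (16,1), (15,1), (17,1),
   (1,1), (0,1), (1,2), (0,2)]

def d550 : FW :=
  [(9,1), (16,1), (12,1), (0,1), (15,1), (16,1), (0,1), (9,1), (15,1), (1,1), (15,1), (16,1), (1,1), (9,1), (16,1),
   (15,5), (1,1), (0,1), (1,2), (0,2)]

def d551 : FW :=
  [(4,1), (15,1), (17,1), (15,2), (17,1), (12,1), (15,1), (0,1), (15,1), (17,1), (0,1), (15,4), (17,1), (15,1), (4,1),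
   (1,1), (0,1), (1,2), (0,2)]

def d552 : FW :=
  [(0,1), (9,1), (15,1), (12,1), (15,1), (17,1), (15,1), (0,1), (16,1), (1,1), (17,1), (16,1), (1,1), (3,1), (1,1),
   (0,1), (1,2), (0,2)]

def d553 : FW :=
  [(15,3), (12,1), (1,1), (17,1), (16,1), (0,1), (1,1), (17,1), (15,1), (12,1), (1,1), (15,2), (16,1), (0,1), (1,1),
   (0,2), (1,2)]

def d554 : FW :=
  [(0,1), (15,2), (12,1), (17,1), (1,1), (16,2), (17,1), (16,1), (9,1), (15,1), (1,1), (15,1)]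

def d555 : FW :=
  [(8,1), (15,1), (17,1), (15,1), (5,1), (15,1), (12,1), (17,1), (0,1), (15,2), (17,1), (15,2), (0,1), (15,2), (17,1),
   (15,1)]

def d556 : FW :=
  [(12,1), (15,2), (0,1), (16,1), (15,1), (1,1), (16,1), (9,1), (15,3), (16,1), (15,1), (0,1), (16,1), (15,3), (1,1),
   (0,1), (1,2), (0,2)]

def d557 : FW :=
  [(1,1), (16,1), (0,1), (9,1), (15,3), (1,1), (17,1), (15,2), (16,1), (9,1), (15,1), (17,1), (15,4), (1,1), (0,1),
   (1,2), (0,2)]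

def d558 : FW :=
  [(16,1), (15,1), (1,1), (12,1), (15,2), (1,1), (16,1), (0,1), (17,1), (15,3), (12,1), (0,1), (17,1), (15,1), (1,1),
   (0,1), (1,2), (0,2)]

def d559 : FW :=
  [(17,1), (0,1), (12,1), (15,1), (0,1), (15,1), (0,1), (15,1), (16,1), (17,1), (1,1), (15,1), (17,1), (15,1), (17,1),
   (16,1), (9,1), (1,1), (0,1), (1,2), (0,2)]

def d560 : FW :=
  [(0,1), (15,1), (16,1), (15,2), (0,1), (15,1), (16,1), (9,1), (17,1), (0,1), (16,1), (15,1), (12,1), (17,1), (0,1),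
   (1,1), (1,1), (0,1), (1,2), (0,2)]

def d561 : FW :=
  [(8,1), (0,1), (15,1), (1,1), (15,3), (16,1), (15,1), (1,1), (17,1), (16,1), (17,1), (16,1)]

def d562 : FW :=
  [(1,1), (9,1), (16,1), (15,1), (1,1), (17,1), (15,1), (12,1), (0,1), (15,1), (17,1), (15,1), (16,1), (9,1), (16,1),
   (15,1), (0,1), (1,1), (0,2), (1,2)]

def d563 : FW :=
  [(9,1), (17,1), (15,1), (17,1), (0,1), (15,3), (0,2), (16,1), (9,1), (15,1), (0,1), (17,2), (1,1), (1,1), (0,1),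
   (1,2), (0,2)]

def d564 : FW :=
  [(15,1), (16,1), (15,3), (17,1), (1,1), (15,1), (12,1), (15,3), (17,1), (16,1), (15,1), (1,1), (0,1), (1,1), (0,2),
   (1,2)]

def d565 : FW :=
  [(0,1), (15,2), (16,2), (9,1), (15,1), (16,2), (9,1), (15,1), (1,1), (15,1), (0,2), (15,1), (16,1), (15,2), (0,1),
   (1,1), (0,2), (1,2)]

def d566 : FW :=
  [(9,1), (15,1), (16,1), (9,1), (15,1), (17,1), (16,1), (1,1), (9,1), (16,1), (12,1), (15,2), (1,1), (15,1), (0,1),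
   (17,1), (15,1), (1,1), (0,1), (1,2), (0,2)]

def d567 : FW :=
  [(9,1), (16,1), (9,1), (15,1), (1,1), (17,3), (15,2), (1,1), (17,1), (15,1), (16,1), (3,1), (1,1), (0,1), (1,2),
   (0,2)]

def d568 : FW :=
  [(0,1), (15,2), (0,1), (16,1), (15,2), (16,1), (12,1), (0,1), (16,1), (1,1), (15,3), (16,1)]

def d569 : FW :=
  [(12,1), (15,3), (1,1), (15,1), (16,2), (0,1), (9,1), (16,1), (3,1), (15,2), (16,1), (0,1), (1,1), (0,2), (1,2)]

def d570 : FW :=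
  [(9,1), (15,1), (12,1), (17,2), (16,1), (9,1), (15,1), (0,1), (16,1), (3,1), (9,1), (16,1), (9,1), (15,1), (0,1),
   (15,1)]

def d571 : FW :=
  [(16,1), (12,1), (15,3), (17,1), (15,1), (12,1), (15,1), (17,1), (15,2), (0,2), (16,1), (15,1), (0,1), (1,1), (0,1),
   (1,2), (0,2)]

def d572 : FW :=
  [(1,1), (9,1), (15,1), (16,1), (0,1), (15,1), (17,1), (15,2), (0,1), (15,1), (16,1), (9,1), (17,1), (1,1), (15,1),
   (16,1), (9,1), (0,1), (1,1), (0,2), (1,2)]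

def d573 : FW :=
  [(9,1), (8,1), (15,2), (0,1), (15,3), (0,1), (16,1), (0,1), (16,1), (15,2), (16,1), (15,1), (16,1), (15,1), (1,1),
   (15,2)]

def d574 : FW :=
  [(0,1), (1,1), (9,1), (16,1), (9,1), (15,1), (0,1), (15,4), (16,1), (9,1), (17,1), (15,1), (11,1), (15,1), (17,1),
   (15,1), (0,1)]

def d575 : FW :=
  [(16,1), (0,1), (15,2), (12,1), (15,2), (16,1), (9,1), (15,1), (3,1), (16,1), (0,1), (1,1), (16,1), (15,1), (16,1),
   (1,1), (0,1), (1,2), (0,2)]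

def d576 : FW :=
  [(16,1), (1,1), (3,1), (15,2), (16,1), (12,1), (0,1), (15,1), (16,2), (15,1), (17,2), (15,1), (1,1), (0,1), (1,2),
   (0,2)]

def d577 : FW :=
  [(15,1), (0,1), (17,1), (0,2), (12,1), (15,1), (16,1), (9,1), (15,2), (0,1), (15,3), (16,1), (15,1), (12,1), (17,1),
   (1,1), (0,1), (1,2), (0,2)]

def d578 : FW :=
  [(16,1), (1,1), (9,1), (15,2), (17,1), (16,1), (9,1), (15,1), (0,1), (12,1), (15,1), (17,3), (15,1), (1,1), (0,1),
   (1,1), (0,2), (1,2)]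

def d579 : FW :=
  [(3,1), (9,1), (17,2), (16,1), (15,1), (0,2), (12,1), (17,1), (16,1), (17,1), (12,1), (1,1), (15,1), (1,1), (0,1),
   (1,2), (0,2)]

def d580 : FW :=
  [(9,1), (17,1), (15,2), (12,1), (17,1), (0,1), (15,1), (17,1), (0,1), (15,1), (16,1), (1,1), (17,1), (0,1), (15,1),
   (0,1), (15,1), (0,1), (1,1), (0,1), (1,2), (0,2)]

def d581 : FW :=
  [(8,1), (15,1), (16,1), (12,1), (1,1), (15,1), (0,1), (17,1), (16,1), (0,1), (15,1), (0,1), (17,1), (16,1), (0,1),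
   (1,1), (0,2), (1,2)]

def d582 : FW :=
  [(16,1), (0,2), (16,1), (15,2), (0,1), (15,1), (16,1), (9,1), (15,1), (16,1), (15,2), (0,1), (16,1), (9,1), (1,1),
   (0,1), (1,2), (0,2)]

def d583 : FW :=
  [(15,3), (17,2), (15,1), (0,2), (16,1), (1,1), (9,1), (16,1), (9,1), (8,1), (15,1), (16,1), (15,1), (0,1), (1,1),
   (1,1), (0,1), (1,2), (0,2)]

def d584 : FW :=
  [(9,1), (16,1), (9,1), (15,1), (0,1), (15,1), (16,1), (1,1), (12,1), (15,1), (16,1), (9,1), (17,1), (1,2), (15,2),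
   (17,1), (1,1), (0,1), (1,2), (0,2)]

def d585 : FW :=
  [(1,1), (12,1), (16,1), (15,1), (17,1), (16,1), (9,1), (15,1), (17,1), (15,3), (0,1), (15,1), (16,1), (15,1), (0,1),
   (15,1), (0,1)]

def d586 : FW :=
  [(1,1), (16,1), (1,1), (9,1), (17,1), (15,2), (0,1), (16,1), (15,2), (17,1), (15,2), (16,1), (0,1), (9,1), (8,1),
   (15,2), (1,1), (0,1), (1,2), (0,2)]

def d587 : FW :=
  [(0,1), (9,1), (16,1), (9,1), (8,1), (15,1), (1,1), (15,1), (0,1), (17,1), (16,1), (15,1), (16,1), (15,1), (12,1),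
   (1,1), (17,1), (1,1), (0,1), (1,2), (0,2)]

def d588 : FW :=
  [(15,1), (0,2), (15,1), (0,1), (16,1), (9,1), (8,1), (15,1), (16,1), (1,1), (15,1), (16,1), (17,2), (15,1)]

def d589 : FW :=
  [(17,1), (15,1), (0,1), (12,1), (15,4), (16,1), (15,1), (1,1), (12,1), (0,1), (17,3), (15,1), (1,1), (0,1), (1,2),
   (0,2)]

def d590 : FW :=
  [(0,1), (9,1), (12,1), (17,1), (15,1), (0,1), (17,1), (15,1), (16,1), (1,1), (15,1), (16,1), (9,1), (15,2), (0,1),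
   (16,1), (0,1), (15,2)]

def d591 : FW :=
  [(0,1), (17,1), (15,1), (0,1), (16,1), (1,1), (15,3), (17,1), (15,5), (16,1), (1,1), (12,1), (15,1)]

def d592 : FW :=
  [(12,1), (16,1), (15,2), (17,1), (0,1), (15,2), (16,1), (1,1), (15,1), (17,1), (1,1)]

def d593 : FW :=
  [(16,1), (0,1), (9,1), (15,1), (0,1), (15,1), (17,2), (16,1), (1,1), (15,2), (0,1), (16,1), (9,1), (11,1), (0,1),
   (1,1), (0,2), (1,2)]

def d594 : FW :=
  [(15,2), (1,1), (17,1), (15,1), (12,1), (15,1), (16,1), (0,1), (15,3), (17,1), (1,1), (16,1), (9,1), (1,1), (0,1),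
   (1,2), (0,2)]

def d595 : FW :=
  [(9,1), (15,1), (17,1), (15,1), (16,1), (12,1), (16,1), (0,1), (15,1), (0,1), (17,1), (15,2), (16,1), (15,2), (1,1),
   (0,1), (1,2), (0,2)]

def d596 : FW :=
  [(16,1), (9,1), (15,2), (0,1), (16,1), (0,2), (9,1), (17,1), (0,1), (15,2), (17,1), (15,1), (16,1)]

def d597 : FW :=
  [(15,1), (17,1), (16,1), (1,1), (16,1), (1,1), (9,1), (15,1), (0,1), (12,1), (17,1), (16,1), (1,1), (9,1), (16,1),
   (1,1), (0,1), (1,2), (0,2)]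

def d598 : FW :=
  [(12,1), (15,1), (0,1), (17,1), (16,2), (1,1), (9,1), (15,1), (17,1), (15,2), (0,1), (15,1), (16,1), (9,1), (15,3),
   (0,1), (0,1), (1,1), (0,2), (1,2)]

def d599 : FW :=
  [(17,1), (1,1), (12,1), (17,1), (15,1), (0,1), (17,1), (16,1), (9,1), (15,2), (0,1), (12,1), (17,1), (15,3), (1,1),
   (15,1)]

def d600 : FW :=
  [(15,1), (1,1), (17,1), (0,1), (15,1), (12,1), (15,1), (16,1), (9,1), (15,1), (0,1), (17,1), (15,2), (16,1), (0,1),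
   (15,2), (0,1), (0,1), (1,1), (0,2), (1,2)]

def d601 : FW :=
  [(16,1), (9,1), (8,1), (15,1), (16,1), (15,1), (0,1), (15,1), (17,1), (15,2), (0,1), (15,1), (16,1), (0,1), (17,1),
   (0,1)]

def d602 : FW :=
  [(1,1), (9,1), (17,2), (15,1), (17,1), (1,1), (15,2), (17,1), (16,1), (1,2), (9,1), (15,1), (12,1), (15,1)]

def d603 : FW :=
  [(17,2), (15,1), (16,1), (15,1), (0,1), (15,1), (16,1), (9,1), (8,1), (3,1), (15,1), (16,1), (15,1), (0,1), (1,1),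
   (0,2), (1,2)]

def d604 : FW :=
  [(15,2), (3,1), (16,1), (15,2), (16,1), (12,1), (17,1), (15,1), (16,1), (17,1), (0,1), (15,2), (0,1), (1,1), (0,1),
   (1,2), (0,2)]

def d605 : FW :=
  [(9,1), (15,1), (17,1), (3,1), (16,1), (0,1), (9,1), (15,2), (0,1), (15,3), (16,1), (1,1), (9,1), (17,1), (1,1),
   (0,1), (1,2), (0,2)]

def d606 : FW :=
  [(0,1), (15,1), (12,1), (17,1), (16,1), (17,1), (15,1), (1,1), (15,1), (16,1), (9,1), (15,2), (16,1), (0,1), (15,1),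
   (0,1), (15,1), (1,1), (0,1), (1,2), (0,2)]

def d607 : FW :=
  [(9,1), (15,2), (0,1), (17,1), (0,1), (16,1), (0,1), (9,1), (15,1), (17,1), (0,1), (15,1), (12,1), (15,1), (0,1),
   (15,1), (1,1), (0,1), (1,2), (0,2)]

def d608 : FW :=
  [(9,1), (12,1), (0,1), (15,2), (12,1), (15,1), (17,1), (16,1), (2,1), (9,1), (16,1), (9,1), (15,1), (17,1), (0,1),
   (1,1)]

def d609 : FW :=
  [(0,1), (9,1), (15,3), (0,1), (16,1), (9,1), (15,1), (16,1), (15,1), (0,2), (16,1), (9,1), (15,1), (0,1), (16,1),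
   (15,1), (16,1)]

def d610 : FW :=
  [(12,1), (16,1), (0,1), (15,1), (16,1), (15,1), (0,1), (15,2), (16,1), (15,2), (0,1), (15,1), (16,1), (9,1), (15,1),
   (1,1), (15,1), (0,1), (1,1), (0,2), (1,2)]

def d611 : FW :=
  [(9,1), (15,1), (0,1), (15,1), (17,2), (15,1), (16,1), (9,1), (11,1), (15,3), (0,1), (15,1), (0,1), (16,1), (0,1)]

def d612 : FW :=
  [(15,2), (12,1), (0,1), (15,1), (17,1), (15,3), (0,1), (15,1), (12,1), (16,1), (15,1), (3,1), (17,1), (0,1), (0,1),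
   (1,1), (0,2), (1,2)]

def d613 : FW :=
  [(1,1), (9,1), (16,1), (9,1), (8,1), (0,1), (15,2), (17,1), (0,1), (16,1), (1,1), (16,1), (15,3), (17,1), (16,1),
   (15,1)]

def d614 : FW :=
  [(9,1), (15,1), (1,2), (12,1), (15,1), (17,1), (16,1), (15,2), (16,2), (17,1), (0,1), (15,1)]

def d615 : FW :=
  [(15,3), (0,1), (15,1), (1,1), (12,1), (16,1), (15,1), (0,2), (17,2), (15,1), (16,1), (9,1), (8,1), (1,1), (0,1),
   (1,2), (0,2)]

def d616 : FW :=
  [(0,1), (15,1), (1,1), (15,1), (12,1), (16,1), (15,1), (17,1), (1,1), (16,1), (17,2), (0,1), (15,2), (17,1), (0,1),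
   (1,1), (0,2), (1,2)]

def d617 : FW :=
  [(16,1), (9,1), (16,1), (9,1), (15,2), (17,1), (15,1), (3,1), (16,2), (9,1), (17,1), (11,1), (0,1), (1,1), (0,2),
   (1,2)]

def d618 : FW :=
  [(9,1), (12,1), (1,1), (17,2), (0,1), (12,1), (0,1), (16,1), (15,1), (0,1), (15,3), (1,1), (15,1), (16,1), (9,1),
   (0,1), (1,1), (0,2), (1,2)]

def d619 : FW :=
  [(0,1), (17,1), (0,1), (15,1), (0,1), (16,1), (17,1), (15,2), (17,1), (15,2), (17,1), (0,1), (12,1), (15,1), (0,1)]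

def d620 : FW :=
  [(11,1), (15,2), (0,1), (15,2), (0,1), (15,1), (17,1), (16,1), (1,1), (16,1), (17,1), (15,1), (0,1), (15,2), (0,1),
   (1,1), (0,2), (1,2)]

def d621 : FW :=
  [(9,1), (17,1), (15,2), (16,1), (9,1), (16,1), (0,1), (9,1), (17,1), (0,1), (11,1), (15,1), (1,1), (5,1), (1,1),
   (0,1), (1,2), (0,2)]

def d622 : FW :=
  [(12,1), (17,1), (0,1), (12,1), (1,1), (17,1), (15,1), (17,1), (16,1), (1,1), (3,2), (9,1), (16,1), (17,1), (15,1),
   (1,1), (0,1), (1,2), (0,2)]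

def d623 : FW :=
  [(9,1), (15,1), (17,1), (15,1), (1,1), (15,2), (17,1), (16,1), (15,2), (16,1), (0,1), (9,1), (15,1), (1,1), (15,1),
   (1,1), (0,1), (1,2), (0,2)]

def d624 : FW :=
  [(9,1), (15,3), (17,1), (0,1), (17,1), (0,1), (12,1), (17,1), (15,1), (17,1), (15,1), (16,1), (0,1), (9,1), (15,2),
   (1,1), (0,1), (1,2), (0,2)]

def d625 : FW :=
  [(9,1), (15,2), (16,1), (1,1), (9,1), (15,3), (0,1), (16,1), (9,1), (17,1), (15,1), (12,1), (1,1), (17,1), (0,1),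
   (16,1)]

def d626 : FW :=
  [(16,1), (15,1), (16,1), (9,1), (15,3), (0,1), (16,1), (12,1), (0,1), (15,5), (16,1), (15,1), (1,1), (1,1), (0,1),
   (1,2), (0,2)]

def d627 : FW :=
  [(15,1), (0,1), (1,1), (15,1), (16,1), (15,3), (17,1), (12,1), (0,1), (17,1), (1,1), (15,1), (16,2), (15,1), (0,1),
   (1,1), (0,2), (1,2)]

def d628 : FW :=
  [(17,1), (0,2), (16,1), (15,3), (0,1), (15,1), (17,1), (0,1), (15,2), (17,1), (12,1), (17,1), (15,1), (1,1), (0,1),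
   (1,2), (0,2)]

def d629 : FW :=
  [(0,1), (1,1), (12,1), (17,1), (15,4), (0,1), (16,2), (17,1), (0,1), (16,1), (1,1), (1,1), (0,1), (1,2), (0,2)]

def d630 : FW :=
  [(9,1), (17,1), (3,1), (16,1), (0,1), (1,1), (17,1), (16,1), (9,1), (17,1), (0,1), (17,1), (11,1), (12,1)]

def d631 : FW :=
  [(0,2), (9,1), (17,2), (15,1), (17,1), (12,1), (15,1), (0,1), (16,1), (0,1), (9,1), (17,1), (0,1), (12,1), (1,1),
   (1,1), (0,1), (1,2), (0,2)]

def d632 : FW :=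
  [(15,1), (12,1), (15,1), (0,2), (15,1), (17,1), (1,1), (16,1), (0,2), (9,1), (17,1), (15,1), (0,1)]

def d633 : FW :=
  [(9,1), (15,1), (0,1), (15,1), (1,1), (16,1), (15,1), (17,1), (16,1), (0,1), (9,1), (17,1), (1,1), (16,1), (12,1),
   (15,1), (16,1)]

def d634 : FW :=
  [(9,1), (15,1), (11,1), (15,1), (0,1), (16,1), (15,2), (1,1), (16,1), (9,1), (17,1), (15,1), (0,1), (16,1), (0,1),
   (9,1), (17,1), (15,1), (1,1), (0,1), (1,2), (0,2)]

def d635 : FW :=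
  [(0,1), (16,1), (17,1), (0,2), (12,1), (17,1), (15,1), (17,1), (12,1), (15,1), (17,1), (15,1), (16,1)]

def d636 : FW :=
  [(9,1), (16,1), (9,1), (16,1), (3,1), (9,1), (16,1), (15,2), (16,1), (9,1), (15,1), (16,1), (1,2), (9,1), (16,1),
   (9,1), (15,1), (1,1), (0,1), (1,2), (0,2)]

def d637 : FW :=
  [(9,1), (17,1), (15,1), (16,1), (15,1), (16,1), (0,1), (3,1), (9,1), (16,1), (12,1), (15,1), (0,1), (17,1), (15,1)]

def d638 : FW :=
  [(9,1), (15,1), (16,1), (17,1), (15,3), (16,1), (17,1), (0,2), (16,1), (9,1), (8,1), (15,1), (0,2), (0,1), (1,1),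
   (0,2), (1,2)]

def d639 : FW :=
  [(9,1), (17,2), (12,1), (17,1), (12,1), (15,2), (17,1), (15,1), (1,1), (15,2), (0,1), (16,1), (1,1), (9,1), (15,1),
   (0,2), (15,1), (0,1)]

def d640 : FW :=
  [(15,4), (1,1), (15,1), (4,1), (17,1), (12,1), (15,1), (0,1), (15,1), (12,1), (15,1), (16,1), (9,1), (16,1), (9,1),
   (17,1), (15,1)]

def d641 : FW :=
  [(9,1), (15,1), (16,1), (0,1), (1,2), (9,1), (16,1), (17,1), (11,1), (15,2), (0,1), (15,1), (17,1), (15,2)]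

def d642 : FW :=
  [(1,1), (15,2), (17,2), (15,1), (16,1), (15,1), (0,1), (1,1), (16,1), (9,1), (15,2), (0,1), (15,3), (1,1), (0,1),
   (1,1), (0,2), (1,2)]

def d643 : FW :=
  [(15,1), (12,1), (15,2), (0,1), (12,1), (1,1), (17,1), (15,2), (16,1), (17,1), (15,1), (1,2), (15,1), (1,1), (0,1),
   (1,2), (0,2)]

def d644 : FW :=
  [(0,1), (15,2), (0,1), (16,1), (9,1), (15,2), (12,1), (17,1), (15,1), (0,2), (16,1), (17,1), (15,3), (0,1), (15,2),
   (0,1), (1,1), (0,2), (1,2)]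

def d645 : FW :=
  [(9,1), (15,1), (0,1), (16,1), (15,1), (16,1), (0,1), (15,2), (0,1), (12,1), (16,3), (15,4), (0,1), (0,1), (1,1),
   (0,2), (1,2)]

def d646 : FW :=
  [(1,1), (15,2), (16,1), (9,1), (17,1), (15,1), (0,1), (16,1), (12,1), (17,1), (15,1), (0,1), (15,1), (1,1), (16,1),
   (1,1), (0,1), (1,2), (0,2)]

def d647 : FW :=
  [(0,1), (9,1), (15,1), (17,1), (16,1), (0,1), (9,1), (15,1), (1,1), (15,1), (17,1), (16,1), (9,1), (15,1), (16,1),
   (3,1), (0,1), (1,1), (0,2), (1,2)]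

def d648 : FW :=
  [(1,2), (9,1), (15,1), (17,1), (16,1), (0,1), (17,1), (15,1), (1,1), (16,1), (15,1), (16,1), (15,2), (12,1), (15,1),
   (0,1), (1,1), (0,2), (1,2)]

def d649 : FW :=
  [(9,1), (12,1), (15,1), (17,1), (12,1), (0,1), (15,2), (17,1), (15,3), (0,1), (15,2), (16,1), (9,1), (15,2), (0,1),
   (3,1)]

def d650 : FW :=
  [(9,1), (17,1), (0,1), (15,1), (0,1), (15,2), (17,1), (16,1), (15,1), (0,1), (12,1), (0,1), (17,1), (0,1), (16,1),
   (17,1), (1,1), (0,1), (1,2), (0,2)]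

def d651 : FW :=
  [(1,1), (15,1), (17,1), (12,1), (15,2), (12,1), (0,1), (15,2), (16,1), (17,1), (0,1), (17,2), (15,1), (0,1), (1,1),
   (0,2), (1,2)]

def d652 : FW :=
  [(9,1), (15,1), (1,1), (16,1), (1,1), (9,1), (16,1), (9,1), (8,1), (15,1), (0,1), (15,1), (17,1), (1,1), (15,1),
   (16,2), (12,1), (17,1), (1,1), (0,1), (1,2), (0,2)]

def d653 : FW :=
  [(3,1), (9,1), (16,2), (9,1), (15,1), (0,1), (1,1), (17,1), (15,1), (16,1), (17,1), (15,1), (16,1), (9,1), (15,1)]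

def d654 : FW :=
  [(17,1), (15,1), (0,1), (15,1), (1,1), (15,1), (12,1), (15,2), (16,1), (15,1), (12,1), (17,1), (0,1), (15,1), (0,1),
   (15,1), (16,1), (0,1), (1,1), (0,1), (1,2), (0,2)]

def d655 : FW :=
  [(8,1), (15,1), (1,1), (15,1), (16,1), (1,1), (16,1), (15,3), (0,1), (15,1), (0,1), (1,1), (0,2), (1,2)]

def d656 : FW :=
  [(1,1), (15,1), (1,1), (17,2), (15,1), (16,1), (0,1), (15,2), (0,1), (12,1), (15,1), (17,1), (15,2), (0,1), (17,1)]

def d657 : FW :=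
  [(15,1), (3,1), (16,1), (0,1), (15,3), (17,1), (16,2), (9,1), (15,1), (12,1), (17,1), (15,1), (0,1), (15,1)]

def d658 : FW :=
  [(1,2), (16,1), (0,1), (9,1), (16,1), (9,1), (15,1), (16,1), (9,1), (15,5), (16,1), (9,1), (15,1), (0,1), (1,1),
   (15,1)]

def d659 : FW :=
  [(16,1), (1,1), (3,1), (9,1), (15,1), (1,1), (16,1), (17,1), (15,1), (17,1), (15,2), (16,1), (9,1)]

def d660 : FW :=
  [(9,1), (8,1), (17,1), (12,1), (16,1), (15,2), (0,1), (16,1), (15,2), (17,1), (1,2), (16,1), (15,1), (1,1)]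

def d661 : FW :=
  [(15,1), (0,1), (15,2), (0,1), (15,1), (17,1), (1,1), (16,1), (15,4), (12,1), (15,1), (17,1), (0,1), (16,1), (9,1)]

def d662 : FW :=
  [(0,2), (9,1), (17,1), (15,3), (17,1), (0,1), (16,1), (15,1), (0,1), (16,1), (0,1), (16,1), (9,1), (8,1)]

def d663 : FW :=
  [(1,1), (16,1), (9,1), (15,2), (0,1), (16,1), (15,3), (0,1), (15,1), (16,1), (12,1), (1,1), (15,1), (16,1), (9,1)]

def d664 : FW :=
  [(16,1), (12,1), (1,2), (16,1), (15,2), (0,1), (15,1), (0,1), (15,2), (16,1), (15,1), (16,1), (0,1), (16,1), (9,1)]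

def d665 : FW :=
  [(17,1), (15,1), (12,1), (0,1), (15,1), (17,1), (12,1), (17,2), (0,1), (16,1), (9,1), (15,2), (0,1), (15,1), (1,1),
   (15,1), (0,1)]

def d666 : FW :=
  [(0,2), (9,1), (17,1), (15,1), (1,1), (16,2), (0,1), (9,1), (8,1), (17,1), (0,1), (16,1), (1,2), (1,1), (0,1),
   (1,2), (0,2)]

def d667 : FW :=
  [(0,2), (9,1), (15,1), (16,2), (9,1), (15,1), (12,1), (15,1), (17,1), (15,1), (1,1), (16,1), (0,2), (16,1), (9,1),
   (17,1), (1,1), (0,1), (1,2), (0,2)]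

def d668 : FW :=
  [(0,1), (1,1), (9,1), (15,1), (16,1), (15,1), (17,1), (15,2), (17,1), (15,1), (12,1), (17,1), (1,1), (17,1), (16,1),
   (0,2), (1,1), (0,1), (1,2), (0,2)]

def d669 : FW :=
  [(15,1), (1,1), (12,1), (16,1), (15,1), (17,1), (15,1), (0,1), (16,1), (17,1), (15,2), (0,1), (15,2), (16,1), (9,1),
   (1,1), (0,1), (1,2), (0,2)]

def d670 : FW :=
  [(1,1), (15,1), (12,1), (0,1), (15,1), (17,1), (16,1), (0,1), (9,1), (15,2), (16,1), (1,1), (15,1), (12,1), (17,1),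
   (15,2)]

def d671 : FW :=
  [(15,1), (0,1), (15,2), (0,1), (17,1), (12,1), (15,1), (17,1), (15,1), (16,1), (1,1), (12,1), (15,1), (16,1), (0,2),
   (0,1), (1,1), (0,2), (1,2)]

def d672 : FW :=
  [(16,1), (17,1), (15,1), (0,1), (15,1), (1,1), (15,1), (12,1), (15,1), (16,1), (1,1), (12,1), (15,2), (1,1), (15,2),
   (17,1), (15,1)]

def d673 : FW :=
  [(17,1), (0,1), (17,1), (1,2), (16,1), (0,1), (9,1), (17,1), (15,1), (16,1), (9,1), (16,1), (9,1), (17,1), (11,1),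
   (15,2)]

def d674 : FW :=
  [(15,1), (16,1), (9,1), (17,1), (0,1), (1,1), (16,1), (15,1), (17,1), (16,1), (9,1), (8,1), (1,1), (16,1), (0,1),
   (1,1), (0,2), (1,2)]

def d675 : FW :=
  [(17,1), (16,1), (1,1), (9,1), (16,1), (17,1), (16,1), (15,1), (1,2), (12,1), (15,1), (16,1), (0,1), (9,1), (15,1),
   (0,1), (1,1), (0,2), (1,2)]

def d676 : FW :=
  [(15,1), (1,1), (17,1), (12,1), (17,1), (15,1), (12,1), (17,1), (15,1), (1,1), (16,1), (0,2), (17,1), (0,1), (1,2),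
   (0,1), (1,1), (0,2), (1,2)]

def d677 : FW :=
  [(0,1), (16,2), (15,4), (0,1), (17,1), (11,1), (16,1), (0,2), (15,1), (1,1), (17,1), (0,1), (1,1), (0,1), (1,2),
   (0,2)]

def d678 : FW :=
  [(9,1), (15,1), (16,1), (15,1), (0,1), (12,1), (15,2), (0,1), (16,2), (15,4), (16,1), (15,1), (0,1), (1,1), (0,2),
   (1,2)]

def d679 : FW :=
  [(8,1), (15,1), (17,2), (15,2), (16,1), (15,1), (0,1), (3,1), (16,1), (15,4), (0,1), (1,1), (0,1), (1,2), (0,2)]

def d680 : FW :=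
  [(0,1), (9,1), (15,1), (1,1), (16,1), (0,1), (9,1), (15,1), (17,1), (0,1), (12,1), (15,1), (17,1), (15,1), (16,1),
   (1,1), (0,1), (1,2), (0,2)]

def d681 : FW :=
  [(9,1), (15,1), (12,1), (17,1), (16,2), (17,1), (0,1), (15,3), (0,2), (16,1), (9,1), (8,1), (0,1), (15,1), (1,1),
   (0,1), (1,2), (0,2)]

def d682 : FW :=
  [(0,1), (9,1), (15,1), (17,1), (0,1), (16,1), (1,1), (15,1), (17,1), (12,1), (15,2), (12,1), (15,2), (0,1), (15,1)]

def d683 : FW :=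
  [(0,1), (9,1), (17,1), (1,1), (15,2), (16,2), (15,2), (17,1), (0,1), (16,1), (9,1), (15,1), (12,1), (16,1), (0,1)]

def d684 : FW :=
  [(0,2), (9,1), (17,1), (1,1), (16,1), (12,1), (16,1), (17,1), (0,1), (16,1), (9,1), (16,1), (9,1), (16,1), (1,1),
   (0,1), (1,1), (0,2), (1,2)]

def d685 : FW :=
  [(1,1), (9,1), (15,1), (0,1), (1,1), (16,1), (15,3), (17,1), (15,3), (1,1), (15,2), (17,1), (0,1), (15,1), (12,1),
   (15,1), (12,1)]

def d686 : FW :=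
  [(0,1), (15,2), (17,1), (1,1), (16,1), (9,1), (15,3), (16,2), (0,1), (9,1), (17,1), (15,1)]

def d687 : FW :=
  [(0,1), (9,1), (17,1), (15,1), (17,1), (16,1), (15,1), (0,1), (15,4), (12,1), (16,1), (15,4), (0,2), (1,1), (0,1),
   (1,2), (0,2)]

def d688 : FW :=
  [(8,1), (15,1), (17,1), (15,2), (17,2), (1,1), (17,1), (15,2), (12,1), (16,1), (0,1), (1,2), (3,2)]

def d689 : FW :=
  [(1,1), (15,1), (17,1), (1,1), (15,1), (17,1), (15,1), (12,1), (15,1), (17,2), (16,1), (0,1), (15,1), (1,2), (12,1),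
   (15,1)]

def d690 : FW :=
  [(8,1), (15,1), (0,1), (17,2), (15,1), (0,1), (12,1), (17,1), (15,1), (16,1), (0,2), (16,1), (15,1), (1,1), (17,1),
   (0,1), (0,1), (1,1), (0,2), (1,2)]

def d691 : FW :=
  [(15,1), (1,2), (12,1), (0,1), (17,2), (10,1), (15,2), (17,1), (0,2), (15,1), (17,1), (1,1), (0,1), (1,2), (0,2)]

def d692 : FW :=
  [(17,1), (0,1), (12,1), (15,1), (16,1), (1,1), (15,1), (0,1), (15,2), (16,1), (9,1), (15,2), (17,1), (15,1), (1,1),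
   (15,1)]

def d693 : FW :=
  [(9,1), (8,1), (0,1), (15,1), (1,1), (16,1), (15,2), (1,1), (17,1), (16,1), (17,1), (16,1), (0,1), (15,1), (1,1),
   (0,1), (1,2), (0,2)]

def d694 : FW :=
  [(0,1), (16,2), (9,1), (17,1), (15,1), (0,2), (16,1), (9,1), (17,1), (15,1), (0,1), (12,1), (1,1), (15,1), (0,1),
   (1,1), (0,2), (1,2)]

def d695 : FW :=
  [(9,1), (15,2), (17,1), (16,3), (0,1), (13,1), (0,1), (15,1), (17,1), (0,1), (1,1), (0,1), (1,2), (0,2)]

def d696 : FW :=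
  [(16,1), (1,1), (16,1), (15,5), (0,1), (16,1), (1,1), (9,1), (15,1), (0,1), (1,1), (15,1)]

def d697 : FW :=
  [(8,1), (0,1), (15,2), (0,1), (15,1), (16,2), (15,1), (1,1), (16,1), (15,4), (0,2), (15,1)]

def d698 : FW :=
  [(15,1), (0,2), (12,1), (16,1), (0,1), (15,1), (17,1), (16,2), (15,1), (17,1), (15,3), (0,1), (0,1), (1,1), (0,2),
   (1,2)]

def d699 : FW :=
  [(9,1), (12,1), (15,1), (16,1), (15,2), (1,1), (15,2), (16,1), (9,1), (15,1), (16,1), (0,1), (15,3), (1,1), (16,1),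
   (9,1), (0,1), (1,1), (0,2), (1,2)]

def d700 : FW :=
  [(15,2), (12,1), (0,1), (15,1), (0,1), (15,2), (16,1), (15,2), (17,1), (12,1), (1,1), (15,1), (17,1), (15,1),
   (16,1), (1,1), (0,1), (1,2), (0,2)]

def d701 : FW :=
  [(15,2), (0,1), (17,1), (16,1), (9,1), (16,1), (15,1), (1,1), (17,1), (15,2), (16,1), (1,1), (12,1), (15,2), (0,1),
   (1,1), (0,2), (1,2)]

def d702 : FW :=
  [(1,1), (15,2), (17,1), (0,1), (15,1), (17,2), (16,1), (0,1), (15,1), (1,1), (17,1), (0,1), (15,3), (12,1), (1,1),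
   (0,1), (1,2), (0,2)]

def d703 : FW :=
  [(0,1), (15,1), (16,1), (15,1), (12,1), (15,3), (17,1), (15,1), (0,1), (15,1), (17,1), (16,1), (0,1), (12,1)]

def d704 : FW :=
  [(0,1), (15,3), (0,1), (17,1), (12,1), (15,1), (16,1), (15,3), (0,1), (15,2), (17,1), (0,1)]

def d705 : FW :=
  [(1,1), (9,1), (17,1), (15,1), (12,1), (15,1), (16,1), (9,1), (17,1), (15,2), (3,1), (16,1), (9,1), (16,1), (1,1)]

def d706 : FW :=
  [(1,1), (9,1), (16,1), (1,1), (17,1), (15,1), (0,2), (16,1), (15,1), (12,1), (15,1), (17,1), (15,1), (12,1), (0,1),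
   (17,1), (15,1), (17,1), (1,1), (0,1), (1,2), (0,2)]

def d707 : FW :=
  [(16,1), (1,1), (17,1), (15,1), (12,1), (16,1), (0,1), (16,1), (17,1), (0,1), (15,1), (0,1), (16,1), (0,1), (0,1),
   (1,1), (0,2), (1,2)]

def d708 : FW :=
  [(16,1), (17,1), (0,1), (1,1), (16,1), (17,1), (16,1), (9,1), (15,1), (3,1), (16,1), (9,1), (8,1), (1,1), (0,1),
   (1,2), (0,2)]

def d709 : FW :=
  [(15,2), (16,1), (9,1), (16,1), (0,1), (1,1), (9,1), (8,1), (15,1), (16,1), (15,1), (0,1), (15,1), (1,1), (16,1),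
   (15,3)]

def d710 : FW :=
  [(15,1), (16,1), (1,1), (17,1), (15,1), (0,1), (15,3), (0,1), (16,1), (15,1), (1,1), (15,3), (17,1), (15,1), (1,1),
   (0,1), (1,2), (0,2)]

def d711 : FW :=
  [(12,1), (15,1), (0,1), (17,1), (15,1), (17,1), (15,1), (17,1), (15,2), (17,1), (15,2), (0,1), (16,1), (0,2),
   (12,1), (0,1), (1,2), (0,1), (1,1), (0,2), (1,2)]

def d712 : FW :=
  [(9,1), (15,1), (16,1), (15,1), (0,1), (17,1), (15,3), (17,1), (15,1), (12,1), (15,2), (16,1), (0,1), (9,1), (15,3),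
   (1,1), (1,1), (0,1), (1,2), (0,2)]

def d713 : FW :=
  [(1,2), (9,1), (16,1), (9,1), (16,1), (15,1), (17,1), (15,1), (16,1), (1,1), (9,1), (16,1), (15,1), (17,1), (1,1),
   (15,1), (0,1), (1,1), (0,2), (1,2)]

def d714 : FW :=
  [(15,1), (0,1), (15,4), (16,1), (17,1), (12,1), (0,1), (16,1), (0,1), (16,1), (15,1), (17,1), (0,1), (1,1), (0,1),
   (1,2), (0,2)]

def d715 : FW :=
  [(1,1), (8,1), (16,1), (1,1), (12,1), (17,1), (15,1), (12,1), (0,1), (15,1), (4,1), (17,1), (0,1), (1,1), (0,2),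
   (1,2)]

def d716 : FW :=
  [(9,1), (5,1), (17,1), (12,1), (17,1), (15,1), (16,1), (9,1), (16,1), (9,1), (8,1), (15,2), (0,2), (15,1), (0,1),
   (1,1), (0,2), (1,2)]

def d717 : FW :=
  [(1,1), (17,1), (12,1), (15,1), (0,1), (16,1), (0,1), (16,2), (9,1), (17,1), (0,1), (15,2), (16,1), (1,1), (0,1),
   (1,2), (0,2)]

def d718 : FW :=
  [(15,1), (0,1), (17,1), (0,2), (16,1), (15,3), (0,1), (15,1), (17,1), (0,1), (15,1), (12,1), (15,1), (17,2), (0,1),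
   (1,1), (0,2), (1,2)]

def d719 : FW :=
  [(16,1), (15,2), (0,1), (15,3), (0,2), (12,1), (16,1), (15,1), (17,1), (0,1), (17,1), (15,1), (0,1), (1,1), (0,2),
   (1,2)]

def d720 : FW :=
  [(9,1), (15,1), (3,1), (16,1), (12,1), (17,1), (15,1), (17,1), (0,2), (16,1), (9,1), (8,1), (15,3)]

def d721 : FW :=
  [(9,1), (15,5), (16,1), (1,1), (15,1), (0,1), (16,1), (15,5), (1,1), (16,1), (15,1), (1,1)]

def d722 : FW :=
  [(0,1), (15,1), (0,1), (1,1), (15,1), (16,1), (1,1), (9,1), (15,1), (16,2), (9,1), (16,1), (15,1), (16,2), (9,1),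
   (15,1)]

def d723 : FW :=
  [(1,1), (12,1), (1,1), (15,1), (0,1), (15,1), (0,1), (16,1), (0,1), (17,1), (12,1), (15,2), (1,1), (15,2), (17,1),
   (15,2)]

def d724 : FW :=
  [(0,1), (9,1), (15,1), (16,1), (17,1), (15,1), (1,1), (15,1), (16,1), (9,1), (16,2), (15,1), (12,1), (15,1), (0,2),
   (17,1), (0,1), (1,1), (0,2), (1,2)]

def d725 : FW :=
  [(15,2), (0,1), (16,1), (17,1), (15,2), (0,1), (15,1), (12,1), (17,1), (1,1), (16,2), (15,1), (0,1), (12,1), (15,1),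
   (0,1), (1,1), (0,2), (1,2)]

def d726 : FW :=
  [(9,1), (16,1), (15,1), (0,1), (12,1), (1,1), (15,1), (0,1), (16,1), (15,3), (16,1), (1,1), (16,1), (0,1)]

def d727 : FW :=
  [(1,1), (9,1), (17,1), (15,1), (16,1), (12,1), (0,1), (15,1), (17,1), (1,1), (17,1), (16,1), (9,1), (8,1), (0,1),
   (17,1)]

def d728 : FW :=
  [(15,1), (0,1), (15,1), (16,1), (1,1), (15,1), (17,1), (15,1), (0,1), (17,1), (16,1), (15,1), (16,1), (9,1), (15,1),
   (12,1), (0,1), (1,1), (0,2), (1,2)]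

def d729 : FW :=
  [(12,1), (17,1), (15,1), (17,1), (15,3), (0,1), (16,1), (15,1), (0,1), (1,1), (15,1), (0,2), (16,1), (1,1), (0,1),
   (1,2), (0,2)]

def d730 : FW :=
  [(11,1), (15,1), (16,1), (15,1), (16,1), (9,1), (15,1), (16,1), (15,2), (0,2), (16,1), (0,1)]

def d731 : FW :=
  [(0,1), (1,1), (15,1), (16,2), (15,1), (12,1), (0,1), (17,1), (15,1), (1,1), (15,1), (16,1), (0,1), (17,1), (15,1),
   (1,1), (0,1), (1,2), (0,2)]

def d732 : FW :=
  [(0,1), (17,1), (0,1), (16,1), (12,1), (15,1), (17,1), (15,1), (0,1), (1,1), (17,1), (15,1), (17,1), (15,1), (0,1),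
   (1,1), (0,2), (1,2)]

def d733 : FW :=
  [(17,1), (11,1), (15,3), (0,1), (16,1), (3,1), (15,2), (16,1), (9,1), (17,1), (16,1), (0,1), (9,1), (15,1), (1,1),
   (0,1), (1,2), (0,2)]

def d734 : FW :=
  [(9,1), (15,2), (17,1), (15,1), (17,1), (1,1), (15,2), (0,1), (16,1), (17,1), (15,1), (0,1), (12,1), (17,1), (1,1),
   (0,1), (1,2), (0,2)]

def d735 : FW :=
  [(16,1), (17,1), (15,4), (0,2), (15,1), (16,1), (9,1), (15,1), (1,1), (15,1), (0,1), (16,1), (9,1), (17,1), (0,1),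
   (1,1), (0,2), (1,2)]

def d736 : FW :=
  [(15,1), (12,1), (17,2), (16,2), (0,1), (17,1), (0,2), (17,1), (16,1), (0,2), (9,1), (0,1), (1,1), (0,2), (1,2)]

def d737 : FW :=
  [(15,1), (1,1), (16,1), (0,1), (9,1), (16,1), (9,1), (15,3), (16,1), (2,1), (9,1), (8,1), (1,1), (0,1), (1,1),
   (0,2), (1,2)]

def d738 : FW :=
  [(15,1), (0,1), (15,2), (16,1), (9,1), (15,3), (16,1), (9,1), (15,1), (16,1), (9,1), (15,1), (1,2), (16,1), (9,1),
   (15,1)]

def d739 : FW :=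
  [(12,1), (1,1), (15,2), (17,1), (0,1), (15,3), (16,1), (0,1), (15,1), (1,1), (17,1), (15,1), (12,1), (15,1), (17,2),
   (1,1), (0,1), (1,2), (0,2)]

def d740 : FW :=
  [(9,1), (15,3), (0,1), (15,1), (16,1), (0,1), (16,1), (9,1), (8,1), (15,1), (1,1), (15,1), (16,1), (15,5), (16,1)]

def d741 : FW :=
  [(0,1), (9,1), (15,1), (1,1), (15,1), (16,1), (9,1), (7,1), (16,1), (9,1), (15,4), (17,1), (15,1), (17,1)]

def d742 : FW :=
  [(1,1), (9,1), (16,1), (9,1), (15,3), (17,1), (15,2), (16,1), (0,1), (1,1), (15,1), (17,1), (15,1), (16,1), (0,1),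
   (12,1), (1,1), (0,1), (1,2), (0,2)]

def d743 : FW :=
  [(9,1), (16,1), (1,1), (15,1), (1,1), (16,1), (0,1), (9,1), (17,1), (0,1), (15,1), (17,1), (12,1), (15,2), (16,2)]

def d744 : FW :=
  [(1,2), (17,1), (12,1), (10,1), (17,1), (15,2), (0,1), (1,1), (0,2), (1,2)]

def d745 : FW :=
  [(0,1), (16,1), (9,1), (15,2), (0,1), (15,1), (1,1), (15,1), (16,1), (9,1), (15,1), (17,1), (15,1), (17,1), (15,3),
   (1,1), (0,1), (1,2), (0,2)]

def d746 : FW :=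
  [(12,1), (15,1), (17,1), (12,1), (1,1), (15,1), (0,1), (17,1), (6,1), (1,1), (0,1), (1,2), (0,2)]

def d747 : FW :=
  [(9,1), (15,1), (1,1), (15,1), (0,1), (15,2), (0,1), (16,1), (9,1), (8,1), (15,1), (17,1), (15,4), (17,1), (16,1),
   (15,2)]

def d748 : FW :=
  [(16,1), (0,1), (9,1), (15,1), (11,1), (15,2), (16,1), (15,1), (16,1), (15,4), (16,1), (1,1), (0,1), (1,2), (0,2)]

def d749 : FW :=
  [(9,1), (17,1), (15,3), (17,1), (0,1), (15,2), (16,1), (15,2), (1,1), (15,3), (0,2)]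

def d750 : FW :=
  [(15,1), (12,1), (15,1), (16,1), (9,1), (15,1), (0,1), (15,1), (16,1), (9,1), (15,1), (0,1), (15,4), (16,1), (0,1),
   (15,5), (1,1), (1,1), (0,1), (1,2), (0,2)]

def d751 : FW :=
  [(16,1), (9,1), (16,1), (9,1), (15,1), (3,1), (16,1), (0,1), (17,1), (15,3), (17,1), (15,1), (12,1), (0,2), (15,1)]

def d752 : FW :=
  [(9,1), (16,1), (15,4), (0,1), (15,1), (1,1), (16,1), (0,1), (9,1), (15,1), (16,1), (15,1), (16,1), (9,1), (15,2),
   (12,1), (15,2)]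

def d753 : FW :=
  [(15,3), (0,1), (15,1), (0,1), (16,1), (17,1), (12,1), (17,1), (15,2), (0,1), (15,1), (16,1), (12,1), (15,1), (0,1),
   (1,1), (0,2), (1,2)]

def d754 : FW :=
  [(9,1), (15,1), (0,2), (15,1), (17,1), (16,2), (12,1), (17,1), (15,2), (12,1), (15,1), (0,1), (15,1), (0,1), (1,1),
   (0,2), (1,2)]

def d755 : FW :=
  [(0,1), (15,1), (16,1), (15,1), (1,1), (17,1), (15,3), (12,1), (16,1), (17,1), (0,1), (15,1), (12,1), (1,1), (0,1),
   (1,2), (0,2)]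

def d756 : FW :=
  [(8,1), (0,1), (16,1), (0,1), (12,1), (0,1), (15,2), (0,1), (15,1), (16,1), (15,1), (17,1), (15,2), (17,1), (1,1),
   (0,1), (1,2), (0,2)]

def d757 : FW :=
  [(15,2), (0,1), (15,2), (16,1), (15,2), (0,1), (12,1), (16,1), (15,2), (0,2), (16,1), (15,1), (0,1), (15,1)]

def d758 : FW :=
  [(0,1), (15,1), (16,1), (1,1), (9,1), (16,1), (9,1), (17,2), (16,1), (9,1), (15,1), (1,1), (15,1), (0,1), (15,2),
   (16,1), (9,1), (8,1), (1,1), (0,1), (1,2), (0,2)]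

def d759 : FW :=
  [(9,1), (15,2), (0,1), (12,1), (15,2), (1,1), (16,1), (17,1), (1,1), (17,1), (15,3), (1,1), (12,1), (16,1), (1,1),
   (0,1), (1,2), (0,2)]

def d760 : FW :=
  [(9,1), (15,2), (1,1), (16,1), (9,1), (15,1), (0,1), (15,1), (1,1), (15,3), (16,1), (9,1), (15,3), (0,1), (16,1)]

def d761 : FW :=
  [(1,2), (9,1), (15,3), (16,1), (0,1), (1,2), (16,1), (0,1), (9,1), (17,1), (15,1), (12,1), (0,1), (17,1)]

def d762 : FW :=
  [(15,5), (0,1), (17,1), (1,1), (16,1), (15,1), (12,1), (15,2), (12,1), (1,1), (15,2), (17,1), (12,1)]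

def d763 : FW :=
  [(0,1), (9,1), (17,1), (16,1), (15,3), (16,1), (0,2), (12,1), (15,3), (17,1), (15,1), (16,1), (9,1), (8,1), (1,1),
   (0,1), (1,2), (0,2)]

def d764 : FW :=
  [(9,1), (15,3), (0,2), (15,1), (0,1), (16,1), (15,1), (16,3), (0,1), (9,1), (15,2), (0,1), (16,1), (9,1), (15,1)]

def d765 : FW :=
  [(0,1), (9,1), (15,1), (0,1), (16,1), (0,1), (16,1), (15,2), (16,1), (15,2), (12,1), (15,2), (16,1), (1,1), (0,1),
   (1,2), (0,2)]

def d766 : FW :=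
  [(9,1), (16,1), (9,1), (16,1), (1,1), (15,1), (17,1), (15,1), (17,1), (16,1), (15,3), (0,1), (15,1), (12,1), (15,1),
   (0,1), (0,1), (1,1), (0,2), (1,2)]

def d767 : FW :=
  [(9,1), (15,1), (0,1), (15,1), (0,1), (15,1), (0,1), (16,1), (17,1), (15,2), (17,1), (15,2), (16,1), (0,1), (9,1),
   (15,3)]

def d768 : FW :=
  [(1,2), (15,1), (1,1), (15,1), (12,1), (0,1), (16,1), (15,1), (12,1), (1,1), (15,1), (0,1), (17,1), (15,1), (17,3),
   (0,1), (1,1), (0,2), (1,2)]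

def d769 : FW :=
  [(0,2), (17,2), (15,2), (17,1), (15,4), (17,1), (12,1), (15,1), (16,1), (0,2), (2,1), (0,1), (1,1), (0,2), (1,2)]

def d770 : FW :=
  [(1,1), (15,2), (16,1), (0,1), (9,1), (17,1), (16,1), (17,1), (12,1), (15,2), (1,1), (12,1), (1,1), (0,1), (1,2),
   (0,2)]

def d771 : FW :=
  [(15,1), (0,1), (15,1), (1,1), (15,1), (12,1), (15,2), (16,1), (0,1), (9,1), (17,1), (15,2), (12,1), (17,1), (15,5)]

def d772 : FW :=
  [(9,1), (17,1), (15,1), (16,1), (12,1), (1,1), (16,1), (15,2), (1,1), (17,1), (15,3), (16,1), (0,1), (0,1), (1,1),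
   (0,2), (1,2)]

def d773 : FW :=
  [(17,1), (15,2), (1,1), (16,1), (9,1), (16,1), (9,1), (15,1), (17,1), (15,1), (12,1), (0,1), (15,2), (16,1), (15,1),
   (0,1), (1,1), (0,1), (1,1), (0,2), (1,2)]

def d774 : FW :=
  [(15,1), (17,1), (16,2), (9,1), (15,1), (0,2), (12,1), (15,1), (16,1), (15,1), (0,1), (17,1), (15,1), (1,1), (15,1),
   (0,1), (1,1), (0,2), (1,2)]

def d775 : FW :=
  [(12,1), (16,1), (15,2), (0,2), (16,1), (0,1), (15,1), (16,1), (9,1), (15,3), (0,1), (15,1), (0,1), (15,1), (0,1),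
   (1,1), (0,2), (1,2)]

def d776 : FW :=
  [(12,1), (15,1), (3,1), (16,1), (9,1), (15,4), (16,1), (9,1), (16,1), (15,1), (16,1), (0,1), (9,1), (15,1), (1,1)]

def d777 : FW :=
  [(9,1), (15,1), (0,1), (15,1), (0,1), (16,1), (0,1), (17,1), (15,1), (17,1), (0,1), (15,5), (16,1), (9,1), (8,1),
   (1,1)]

def d778 : FW :=
  [(0,1), (9,1), (15,1), (0,1), (15,1), (17,2), (1,1), (16,1), (0,1), (1,1), (15,1), (16,1), (15,1), (1,1), (1,1),
   (0,1), (1,2), (0,2)]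

def d779 : FW :=
  [(15,2), (16,1), (0,1), (16,1), (15,1), (17,1), (15,5), (0,1), (16,1), (12,1), (17,1), (3,1)]

def d780 : FW :=
  [(1,1), (9,1), (15,1), (0,2), (17,1), (15,1), (16,1), (15,2), (12,1), (0,1), (17,1), (15,3), (12,1), (0,1), (1,1),
   (0,1), (1,2), (0,2)]

def d781 : FW :=
  [(15,1), (0,1), (16,1), (15,3), (16,1), (0,1), (1,2), (12,1), (0,1), (16,1), (0,1), (15,1), (1,1), (0,1), (1,2),
   (0,2)]

def d782 : FW :=
  [(0,1), (16,1), (9,1), (15,1), (17,1), (0,2), (16,1), (9,1), (8,1), (15,3), (1,1), (15,1), (0,1), (15,1), (17,1),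
   (1,1), (0,1), (1,2), (0,2)]

def d783 : FW :=
  [(0,1), (12,1), (17,1), (16,1), (9,1), (15,1), (1,1), (15,1), (0,1), (16,1), (15,1), (17,1), (0,1), (15,3), (0,1),
   (15,2), (1,1), (0,1), (1,2), (0,2)]

def d784 : FW :=
  [(1,1), (9,1), (15,1), (0,1), (16,1), (9,1), (8,1), (15,1), (0,1), (16,1), (15,1), (1,1), (15,2), (17,1), (15,1),
   (17,1), (15,1), (1,1), (0,1), (1,2), (0,2)]

def d785 : FW :=
  [(1,1), (9,1), (17,1), (16,1), (0,1), (9,1), (15,3), (1,1), (15,1), (17,1), (16,1), (9,1), (15,2), (1,1), (0,1),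
   (1,2), (0,2)]

def d786 : FW :=
  [(15,1), (0,1), (15,1), (17,1), (11,1), (16,1), (15,1), (17,1), (0,1), (15,2), (0,1), (15,3), (16,1), (9,1), (15,2),
   (1,1), (1,1), (0,1), (1,2), (0,2)]

def d787 : FW :=
  [(15,1), (16,1), (9,1), (15,1), (0,1), (16,1), (12,1), (1,1), (17,1), (16,1), (0,1), (17,1), (15,1), (16,1), (15,1)]

def d788 : FW :=
  [(0,1), (9,1), (15,1), (0,1), (15,1), (16,1), (9,1), (16,1), (15,1), (16,3), (15,1), (0,1), (1,1), (15,1), (16,1),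
   (1,1), (0,1), (1,2), (0,2)]

def d789 : FW :=
  [(1,1), (9,1), (16,1), (0,1), (9,1), (17,1), (0,1), (16,1), (0,2), (16,1), (17,1), (11,1), (16,1)]

def d790 : FW :=
  [(9,1), (17,2), (16,1), (9,1), (8,1), (16,1), (0,1), (12,1), (1,1), (15,2), (0,1), (15,1), (0,1), (1,1), (0,2),
   (1,2)]

def d791 : FW :=
  [(15,1), (16,1), (0,1), (15,2), (16,1), (15,1), (16,1), (1,2), (17,1), (16,1), (9,1), (17,1), (15,1), (1,1)]

def d792 : FW :=
  [(9,1), (15,3), (0,2), (15,1), (16,1), (0,1), (12,1), (17,1), (15,1), (17,1), (0,2), (16,1), (12,1), (1,1), (0,1),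
   (1,2), (0,2)]

def d793 : FW :=
  [(9,1), (17,1), (0,1), (17,1), (1,1), (16,1), (1,2), (16,1), (0,1), (9,1), (17,2), (11,1), (0,1), (16,1), (0,1),
   (1,1), (0,2), (1,2)]

def d794 : FW :=
  [(15,1), (0,1), (17,1), (0,1), (12,1), (17,1), (16,1), (1,1), (15,1), (0,1), (16,1), (9,1), (15,1), (0,1), (15,1),
   (12,1), (15,1), (0,1), (1,1), (0,2), (1,2)]

def d795 : FW :=
  [(15,2), (16,1), (0,1), (9,1), (15,1), (3,1), (17,1), (16,1), (12,1), (15,1), (0,1), (17,1), (15,4), (0,1), (1,1),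
   (0,2), (1,2)]

def d796 : FW :=
  [(15,3), (0,2), (15,1), (16,1), (0,1), (9,1), (15,2), (0,1), (12,1), (0,1), (15,2), (16,1), (9,1), (15,3), (17,2)]

def d797 : FW :=
  [(9,1), (15,1), (1,1), (15,1), (12,1), (17,1), (1,1), (16,2), (9,1), (16,1), (17,1), (0,1), (15,1), (0,1), (15,1),
   (16,1), (9,1), (1,1), (0,1), (1,2), (0,2)]

def d798 : FW :=
  [(0,1), (1,1), (9,1), (16,1), (9,1), (15,1), (0,1), (15,2), (16,1), (9,1), (16,2), (15,3), (1,1), (16,1), (1,1),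
   (9,1), (1,1), (0,1), (1,2), (0,2)]

def d799 : FW :=
  [(16,1), (15,3), (16,1), (17,1), (0,2), (16,1), (12,1), (17,1), (0,1), (16,1), (0,1), (9,1), (15,1)]

def d800 : FW :=
  [(0,2), (3,1), (16,1), (0,2), (9,1), (17,1), (1,1), (16,1), (9,1), (15,2), (17,1), (12,1), (17,1), (15,1), (17,1)]

def d801 : FW :=
  [(0,1), (9,1), (15,3), (17,1), (12,1), (16,2), (0,1), (15,3), (1,1), (16,1), (0,2), (17,1), (15,1), (1,1), (0,1),
   (1,2), (0,2)]

def d802 : FW :=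
  [(1,1), (9,1), (15,1), (16,1), (9,1), (17,1), (16,1), (0,1), (9,1), (16,1), (9,1), (15,1), (17,1), (15,3), (16,1),
   (1,1), (9,1)]

def d803 : FW :=
  [(15,2), (16,1), (9,1), (15,2), (0,1), (16,1), (0,1), (9,1), (15,2), (17,1), (15,1), (12,1), (17,1), (15,3), (0,1),
   (1,1), (0,2), (1,2)]

def d804 : FW :=
  [(0,1), (16,1), (9,1), (15,1), (16,1), (15,2), (0,1), (16,1), (15,3), (0,1), (15,1), (16,1), (9,1), (16,1), (1,1),
   (9,1), (8,1), (1,1), (0,1), (1,2), (0,2)]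

def d805 : FW :=
  [(0,1), (15,1), (0,1), (1,1), (17,1), (15,2), (12,1), (15,2), (16,1), (9,1), (15,1), (0,1), (15,1), (0,1), (12,1),
   (17,1), (15,3), (1,1), (0,1), (1,2), (0,2)]

def d806 : FW :=
  [(15,1), (17,1), (15,4), (1,1), (15,1), (1,1), (16,1), (15,2), (0,1), (15,1), (16,1), (17,1), (15,1), (11,1), (0,1),
   (1,1), (0,2), (1,2)]

def d807 : FW :=
  [(15,1), (16,1), (0,1), (15,2), (0,1), (17,1), (15,1), (17,1), (0,1), (16,1), (9,1), (15,1), (12,1), (17,2)]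

def d808 : FW :=
  [(0,1), (1,1), (9,1), (16,1), (9,1), (15,1), (0,1), (17,1), (12,1), (15,2), (16,1), (3,1), (9,1), (16,1), (0,1),
   (9,1), (17,1), (15,1), (1,1), (0,1), (1,2), (0,2)]

def d809 : FW :=
  [(0,2), (16,1), (17,2), (0,1), (15,2), (0,1), (16,1), (15,1), (17,1), (15,1), (17,1), (12,1), (1,1), (15,1), (1,1),
   (0,1), (1,2), (0,2)]

def d810 : FW :=
  [(1,1), (9,1), (15,1), (16,1), (9,1), (15,3), (16,1), (9,1), (15,3), (16,1), (12,1), (15,2), (0,2), (15,1), (0,1),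
   (1,1), (0,1), (1,2), (0,2)]

def d811 : FW :=
  [(9,1), (15,1), (17,1), (0,2), (16,1), (9,1), (15,1), (0,1), (12,1), (17,1), (16,1), (0,1), (16,1), (9,1), (15,1),
   (0,2), (1,1), (0,1), (1,2), (0,2)]

def d812 : FW :=
  [(9,1), (12,1), (15,2), (17,1), (12,1), (15,1), (17,1), (0,1), (16,1), (0,2), (16,1), (17,1), (1,1), (17,1), (15,1),
   (0,1), (1,1), (0,2), (1,2)]

def d813 : FW :=
  [(0,1), (9,1), (15,1), (1,1), (15,1), (0,1), (15,1), (16,1), (9,1), (8,1), (0,1), (16,2), (17,1), (0,1), (15,1),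
   (17,1), (15,2), (0,1), (1,1), (0,1), (1,2), (0,2)]

def d814 : FW :=
  [(15,4), (0,1), (16,1), (9,1), (16,1), (9,1), (15,1), (16,1), (15,1), (16,1), (0,2), (17,1), (0,1), (17,1), (0,1)]

def d815 : FW :=
  [(9,1), (15,1), (0,1), (15,1), (17,1), (15,2), (0,1), (15,1), (16,1), (9,1), (15,1), (17,1), (0,1), (15,3), (1,1),
   (0,1), (1,1), (0,2), (1,2)]

def d816 : FW :=
  [(16,1), (0,1), (9,1), (16,1), (9,1), (17,1), (15,1), (0,1), (16,1), (17,1), (0,1), (12,1), (1,1), (0,1), (1,2),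
   (0,2)]

def d817 : FW :=
  [(17,1), (15,2), (0,1), (16,1), (9,1), (15,1), (0,1), (15,1), (0,1), (15,2), (16,1), (9,1), (8,1), (17,1), (16,1),
   (1,1), (0,1), (1,2), (0,2)]

def d818 : FW :=
  [(8,1), (15,2), (16,1), (15,3), (16,1), (3,1), (15,1), (17,2), (16,1), (0,1), (15,1), (1,1), (0,1), (1,2), (0,2)]

def d819 : FW :=
  [(0,1), (15,2), (17,3), (12,1), (15,1), (12,1), (17,1), (15,2), (16,1), (0,1), (1,2), (2,1), (3,1)]

def d820 : FW :=
  [(0,1), (9,1), (16,1), (0,1), (16,2), (15,1), (12,1), (16,1), (0,1), (15,1), (0,1), (16,1), (9,1), (15,1), (1,1),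
   (0,1), (1,1), (0,2), (1,2)]

def d821 : FW :=
  [(0,1), (16,1), (15,2), (12,1), (17,1), (15,1), (12,1), (15,1), (0,1), (15,1), (17,1), (15,1), (16,1), (0,2),
   (15,1), (1,1), (1,1), (0,1), (1,2), (0,2)]

def d822 : FW :=
  [(0,2), (1,1), (16,1), (15,1), (0,2), (12,1), (15,1), (12,1), (15,2), (16,2), (17,1), (1,1), (17,1), (15,1), (1,1),
   (0,1), (1,2), (0,2)]

def d823 : FW :=
  [(9,1), (15,1), (12,1), (16,2), (15,2), (12,1), (0,1), (17,1), (15,1), (1,1), (16,1), (0,1), (17,1), (15,1), (0,1),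
   (1,1), (0,2), (1,2)]

def d824 : FW :=
  [(12,1), (17,1), (15,1), (0,2), (17,1), (16,1), (9,1), (17,1), (15,1), (0,1), (17,1), (16,1), (1,1), (12,1), (1,1),
   (0,1), (1,2), (0,2)]

def d825 : FW :=
  [(0,2), (16,1), (9,1), (17,1), (0,1), (16,1), (15,2), (17,1), (0,1), (16,1), (9,1), (16,1), (1,1), (9,1), (0,1),
   (1,1), (0,2), (1,2)]

def d826 : FW :=
  [(9,1), (8,1), (3,1), (16,2), (12,1), (15,1), (0,1), (17,2), (16,1), (0,2), (1,1), (0,1), (1,2), (0,2)]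

def d827 : FW :=
  [(11,1), (15,2), (16,1), (0,1), (15,1), (16,1), (1,1), (9,1), (15,2), (17,1), (15,2), (17,1), (15,1), (16,1), (0,1),
   (1,1), (0,1), (1,2), (0,2)]

def d828 : FW :=
  [(15,2), (0,1), (15,1), (16,1), (0,1), (12,1), (16,1), (17,2), (16,1), (15,1), (1,1), (15,1), (12,1), (15,1), (0,1),
   (1,1), (0,2), (1,2)]

def d829 : FW :=
  [(15,2), (12,1), (0,1), (15,1), (16,1), (15,1), (17,1), (0,1), (15,1), (17,1), (15,2), (16,1), (12,1), (15,1),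
   (0,1)]

def d830 : FW :=
  [(9,1), (12,1), (17,1), (15,1), (16,1), (1,1), (16,1), (9,1), (17,1), (15,1), (16,1), (3,1), (16,2)]

def d831 : FW :=
  [(8,1), (15,1), (16,1), (0,1), (16,1), (15,2), (12,1), (1,1), (15,1), (16,1), (0,2), (16,1), (15,3), (0,1), (15,1),
   (0,1), (1,1), (0,2), (1,2)]

def d832 : FW :=
  [(16,1), (0,2), (1,2), (9,1), (16,1), (12,1), (15,1), (12,1), (17,1), (15,2), (16,1), (17,1), (15,2)]

def d833 : FW :=
  [(9,1), (15,2), (17,1), (1,1), (15,1), (12,1), (15,1), (16,1), (15,1), (0,1), (15,3), (16,1), (9,1), (17,1), (15,1)]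

def d834 : FW :=
  [(8,1), (16,1), (0,1), (17,1), (0,1), (16,1), (15,1), (16,1), (1,1), (16,1), (17,1), (15,1), (1,1), (15,1)]

def d835 : FW :=
  [(15,1), (0,1), (12,1), (17,2), (1,1), (16,1), (9,1), (15,2), (0,1), (15,3), (16,1), (0,1), (16,1), (9,1), (15,2),
   (1,1), (0,1), (1,2), (0,2)]

def d836 : FW :=
  [(0,2), (16,1), (15,3), (17,1), (11,1), (15,1), (16,1), (17,1), (16,1), (0,1), (15,2), (0,1), (15,1)]

def d837 : FW :=
  [(1,2), (9,1), (12,1), (0,2), (1,1), (16,1), (15,1), (1,1), (17,2), (12,1), (15,1), (17,1), (15,1), (17,1), (1,1),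
   (15,1), (1,1), (0,1), (1,2), (0,2)]

def d838 : FW :=
  [(0,1), (9,1), (16,1), (9,1), (15,1), (1,1), (15,1), (12,1), (16,1), (15,2), (16,1), (9,1), (8,1), (0,1), (15,5),
   (0,1), (0,1), (1,1), (0,2), (1,2)]

def d839 : FW :=
  [(9,1), (11,1), (0,1), (16,1), (0,1), (12,1), (17,1), (0,1), (17,2), (16,1), (17,1), (0,1), (1,1), (1,1), (0,1),
   (1,2), (0,2)]

def d840 : FW :=
  [(9,1), (17,1), (15,4), (16,1), (9,1), (17,1), (16,1), (9,1), (15,1), (11,1), (1,1), (15,1), (0,1), (16,1), (15,2),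
   (0,1), (0,1), (1,1), (0,2), (1,2)]

def d841 : FW :=
  [(0,1), (16,1), (15,1), (0,1), (17,1), (16,1), (0,2), (12,1), (0,1), (16,1), (15,2), (0,1), (17,1), (15,1), (0,1)]

def d842 : FW :=
  [(3,1), (15,1), (16,1), (9,1), (16,1), (3,1), (9,1), (15,2), (16,1), (9,1), (15,2), (12,1), (16,1), (0,1), (15,1)]

def d843 : FW :=
  [(9,1), (15,2), (17,1), (0,1), (16,1), (1,1), (12,1), (15,2), (0,1), (15,2), (16,1), (17,1), (0,1), (15,2), (0,1),
   (1,1), (0,2), (1,2)]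

def d844 : FW :=
  [(0,2), (3,1), (15,1), (10,1), (15,1), (17,1), (15,2), (17,1), (0,1), (15,3), (12,1), (0,1), (1,1), (0,2), (1,2)]

def d845 : FW :=
  [(15,1), (1,1), (15,1), (0,2), (15,1), (0,1), (16,1), (9,1), (15,2), (0,1), (15,1), (0,2), (15,1), (16,1), (9,1),
   (16,1), (0,1), (1,1), (0,2), (1,2)]

def d846 : FW :=
  [(9,1), (15,2), (4,1), (15,2), (17,1), (15,1), (1,1), (12,1), (17,1), (15,2), (16,1), (1,2), (9,1), (16,1), (9,1),
   (15,1), (1,1), (0,1), (1,2), (0,2)]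

def d847 : FW :=
  [(0,1), (9,1), (16,1), (15,1), (16,1), (9,1), (17,1), (15,1), (16,1), (0,1), (17,1), (16,1), (0,1), (16,1), (0,1),
   (9,1), (1,1), (0,1), (1,2), (0,2)]

def d848 : FW :=
  [(9,1), (16,1), (15,1), (12,1), (15,1), (17,1), (0,1), (15,1), (12,1), (15,1), (0,1), (15,2), (16,1), (17,1),
   (16,1), (0,2), (1,1), (0,1), (1,2), (0,2)]

def d849 : FW :=
  [(0,1), (2,1), (16,1), (15,1), (0,1), (15,2), (16,1), (9,1), (16,1), (9,1), (15,1), (17,1), (15,1), (17,1), (0,1),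
   (11,1), (15,1)]

def d850 : FW :=
  [(9,1), (15,2), (16,1), (15,1), (1,1), (12,1), (0,1), (15,2), (17,1), (16,1), (15,1), (17,1), (15,3), (0,1), (0,1),
   (1,1), (0,2), (1,2)]

def d851 : FW :=
  [(0,1), (9,1), (15,2), (12,1), (15,1), (16,2), (9,1), (16,1), (15,3), (1,1), (15,1), (0,2), (0,1), (1,1), (0,2),
   (1,2)]

def d852 : FW :=
  [(1,1), (12,1), (0,1), (17,3), (15,1), (12,1), (15,2), (16,1), (9,1), (17,1), (0,1), (15,2), (0,1), (1,1), (0,1),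
   (1,2), (0,2)]

def d853 : FW :=
  [(0,1), (17,1), (16,1), (9,1), (15,1), (1,1), (12,1), (16,1), (15,1), (0,1), (15,3), (1,1), (17,1), (15,1), (0,1),
   (1,1), (0,2), (1,2)]

def d854 : FW :=
  [(9,1), (16,1), (17,1), (12,1), (1,1), (15,1), (12,1), (17,1), (15,1), (1,1), (4,1), (15,3)]

def d855 : FW :=
  [(15,2), (17,1), (15,1), (17,1), (15,1), (12,1), (15,1), (16,1), (15,1), (0,1), (1,1), (15,1), (16,1), (0,1),
   (15,2), (0,1), (15,1), (0,1), (15,1), (1,1), (0,1), (1,2), (0,2)]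

def d856 : FW :=
  [(15,1), (17,1), (0,1), (12,1), (1,1), (11,1), (16,1), (15,1), (1,1), (15,2), (0,1), (17,1), (15,3), (0,1), (1,1),
   (0,2), (1,2)]

def d857 : FW :=
  [(9,1), (8,1), (15,2), (17,1), (15,2), (16,1), (0,1), (15,1), (16,1), (1,1), (15,1), (16,1), (17,1), (15,1), (0,1),
   (1,1), (0,2), (1,2)]

def d858 : FW :=
  [(0,1), (15,2), (12,1), (0,1), (16,1), (15,1), (17,1), (1,1), (16,1), (12,1), (15,2), (0,1), (15,2), (17,1)]

def d859 : FW :=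
  [(15,2), (1,1), (12,1), (17,1), (15,1), (16,1), (15,3), (17,1), (12,1), (15,1), (0,1), (16,1), (0,1), (15,1), (0,1),
   (1,1), (0,2), (1,2)]

def d860 : FW :=
  [(0,1), (15,1), (17,1), (15,5), (0,1), (16,1), (1,1), (9,1), (15,1), (1,1), (16,1), (9,1), (15,2), (17,1), (12,1),
   (15,1), (0,1)]

def d861 : FW :=
  [(0,1), (16,1), (15,1), (16,1), (9,1), (15,4), (0,1), (15,1), (16,1), (15,1), (16,1), (1,2), (15,1), (12,1), (0,1),
   (1,1), (0,2), (1,2)]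

def d862 : FW :=
  [(17,1), (0,1), (12,1), (15,2), (16,1), (15,1), (0,1), (15,3), (17,1), (0,1), (15,1), (16,1), (1,1), (15,3), (1,1),
   (0,1), (1,2), (0,2)]

def d863 : FW :=
  [(0,2), (9,1), (16,1), (9,1), (15,2), (12,1), (16,1), (17,2), (16,1), (1,2), (9,1), (16,1), (15,1), (0,1)]

def d864 : FW :=
  [(0,1), (3,1), (15,1), (16,1), (15,2), (16,1), (17,1), (15,1), (12,1), (17,1), (15,1), (16,1), (15,1), (1,1), (0,1),
   (1,2), (0,2)]

def d865 : FW :=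
  [(1,1), (15,1), (0,1), (16,1), (15,1), (17,3), (1,1), (15,1), (12,1), (15,1), (12,1), (17,1), (15,1), (16,1), (1,1),
   (0,1), (1,2), (0,2)]

def d866 : FW :=
  [(15,1), (17,1), (12,1), (0,1), (15,2), (0,1), (16,2), (15,1), (0,1), (17,1), (16,1), (9,1), (15,1), (0,1), (1,1),
   (0,1), (1,2), (0,2)]

def d867 : FW :=
  [(0,1), (15,1), (16,2), (9,1), (15,1), (17,1), (15,1), (1,2), (15,1), (16,1), (9,1), (15,1), (1,1), (15,1), (17,1),
   (0,1), (0,1), (1,1), (0,2), (1,2)]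

def d868 : FW :=
  [(0,1), (9,1), (15,1), (0,1), (12,1), (16,1), (17,1), (12,1), (17,1), (15,1), (17,1), (15,2), (17,1), (16,1), (3,1),
   (15,1), (1,1), (0,1), (1,2), (0,2)]

def d869 : FW :=
  [(17,1), (15,1), (4,1), (17,1), (12,1), (1,1), (17,2), (16,1), (0,1), (9,1), (16,1), (15,1), (1,1), (0,1), (1,2),
   (0,2)]

def d870 : FW :=
  [(15,4), (1,1), (15,1), (16,1), (12,1), (15,3), (16,1), (15,3), (0,1), (1,1), (0,1), (1,2), (0,2)]

def d871 : FW :=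
  [(9,1), (15,1), (0,1), (17,1), (15,1), (12,1), (15,1), (0,1), (17,3), (15,1), (16,1), (0,1), (9,1), (15,2), (3,1),
   (1,1), (0,1), (1,2), (0,2)]

def d872 : FW :=
  [(15,1), (0,1), (15,2), (17,1), (16,1), (15,4), (1,1), (12,1), (0,1), (15,1), (17,1), (12,1), (16,1), (1,1), (0,1),
   (1,2), (0,2)]

def d873 : FW :=
  [(16,1), (9,1), (15,1), (16,1), (0,1), (15,2), (0,1), (12,1), (0,1), (15,1), (16,1), (0,1), (16,1), (15,2), (16,1),
   (15,1), (0,1), (1,1), (0,1), (1,2), (0,2)]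

def d874 : FW :=
  [(0,2), (12,1), (0,1), (17,1), (1,1), (16,1), (9,1), (15,1), (17,1), (15,1), (17,1), (0,1), (15,1), (0,2), (15,1),
   (17,1), (1,1), (0,1), (1,2), (0,2)]

def d875 : FW :=
  [(15,1), (0,1), (15,2), (0,1), (15,1), (16,1), (0,1), (1,1), (9,1), (16,1), (0,1), (15,1), (12,1), (16,1), (0,1),
   (16,2)]

def d876 : FW :=
  [(15,2), (12,1), (15,1), (12,1), (15,2), (16,1), (17,1), (0,1), (17,1), (15,2), (0,1), (15,1), (16,1), (1,1)]

def d877 : FW :=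
  [(15,1), (0,1), (15,1), (12,1), (17,1), (15,2), (0,1), (15,1), (16,2), (15,1), (1,2), (16,1), (17,1), (1,1), (0,1),
   (1,1), (0,2), (1,2)]

def d878 : FW :=
  [(1,1), (15,1), (0,1), (15,1), (16,1), (15,3), (16,1), (15,1), (0,1), (15,3), (16,1), (1,1), (16,1), (15,1), (0,1),
   (1,1), (0,2), (1,2)]

def d879 : FW :=
  [(0,1), (9,1), (17,1), (0,1), (16,1), (9,1), (15,1), (17,1), (0,1), (15,1), (12,1), (15,1), (0,2), (0,1), (1,1),
   (0,2), (1,2)]

def d880 : FW :=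
  [(3,1), (15,1), (16,1), (15,1), (16,1), (17,1), (0,1), (16,1), (9,1), (16,1), (9,1), (8,1), (15,4), (17,1)]

def d881 : FW :=
  [(9,1), (12,1), (17,1), (1,1), (15,1), (0,1), (15,1), (16,1), (9,1), (16,1), (1,1), (16,1), (15,1), (0,1), (16,1),
   (9,1), (17,1), (0,1), (0,1), (1,1), (0,2), (1,2)]

def d882 : FW :=
  [(1,1), (9,1), (17,1), (15,1), (16,1), (1,1), (16,1), (15,1), (17,1), (15,4), (12,1), (0,1), (1,1), (0,1), (1,2),
   (0,2)]

def d883 : FW :=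
  [(1,1), (16,1), (15,1), (16,1), (9,1), (16,1), (17,1), (15,2), (16,1), (1,1), (12,1), (17,1), (0,1)]

def d884 : FW :=
  [(17,1), (12,1), (0,2), (17,1), (0,1), (11,1), (12,1), (15,1), (16,1), (15,3), (1,1)]

def d885 : FW :=
  [(9,1), (11,1), (15,1), (17,1), (15,2), (1,1), (15,2), (16,1), (17,2), (15,1), (1,1), (17,1), (15,2), (0,1), (1,1),
   (0,2), (1,2)]

def d886 : FW :=
  [(1,1), (9,1), (12,1), (17,3), (0,1), (16,1), (0,1), (15,4), (12,1), (15,1), (17,1), (1,1), (0,1), (1,2), (0,2)]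

def d887 : FW :=
  [(9,1), (12,1), (0,1), (17,1), (15,1), (1,1), (15,1), (16,1), (15,2), (16,1), (0,1), (16,1), (9,1), (15,1), (17,1),
   (0,1), (0,1), (1,1), (0,2), (1,2)]

def d888 : FW :=
  [(9,1), (16,1), (9,1), (16,1), (9,1), (15,1), (0,1), (15,1), (16,1), (1,1), (17,2), (1,1), (16,1), (9,1), (15,2),
   (12,1)]

def d889 : FW :=
  [(9,1), (15,1), (0,1), (16,1), (12,1), (17,1), (0,1), (15,1), (17,1), (0,1), (16,1), (1,1), (9,1), (15,1), (16,2)]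

def d890 : FW :=
  [(8,1), (3,1), (16,1), (17,1), (15,3), (12,1), (17,1), (15,1), (16,1), (15,2), (0,2)]

def d891 : FW :=
  [(9,1), (17,1), (15,2), (1,1), (15,1), (0,1), (16,1), (12,1), (0,1), (15,3), (17,1), (15,2), (16,1), (9,1), (15,1)]

def d892 : FW :=
  [(0,1), (9,1), (15,1), (0,1), (15,2), (16,1), (3,1), (16,1), (9,1), (15,1), (16,1), (9,1), (15,2), (17,2), (12,1),
   (0,1), (1,1), (0,2), (1,2)]

def d893 : FW :=
  [(0,1), (15,1), (1,1), (16,1), (9,1), (16,1), (12,1), (16,1), (17,1), (15,1), (12,1), (15,2), (0,2), (15,1), (17,1),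
   (0,1), (1,1), (0,2), (1,2)]

def d894 : FW :=
  [(15,1), (16,1), (9,1), (8,1), (3,1), (15,2), (16,1), (15,5), (16,1), (15,1), (0,1), (0,1), (1,1), (0,2), (1,2)]

def d895 : FW :=
  [(9,1), (17,1), (15,3), (17,1), (1,1), (16,1), (12,1), (0,1), (16,1), (15,2), (16,1), (0,1), (1,1), (0,1), (1,2),
   (0,2)]

def d896 : FW :=
  [(9,1), (8,1), (0,1), (15,1), (0,1), (16,1), (15,1), (16,1), (1,1), (12,1), (0,1), (16,1), (15,3), (16,1), (0,1),
   (1,1), (0,2), (1,2)]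

def d897 : FW :=
  [(15,3), (16,1), (0,2), (12,1), (15,5), (16,1), (15,1), (12,1), (16,1), (0,1), (15,2)]

def d898 : FW :=
  [(0,1), (1,1), (9,1), (15,1), (17,1), (16,1), (1,1), (16,1), (15,2), (12,1), (15,2), (12,1), (15,1), (0,1), (17,1),
   (15,3), (0,1), (1,1), (0,2), (1,2)]

def d899 : FW :=
  [(1,1), (15,1), (0,2), (16,1), (0,1), (15,5), (16,1), (9,1), (8,1), (17,2), (12,1)]

def d900 : FW :=
  [(9,1), (16,1), (9,1), (17,1), (15,2), (1,1), (15,3), (17,1), (1,1), (16,1), (9,1), (15,1), (12,1), (16,1), (0,1),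
   (1,1), (0,2), (1,2)]

def d901 : FW :=
  [(0,1), (17,3), (15,1), (17,1), (15,4), (16,1), (0,1), (3,1), (9,1), (11,1), (1,1), (1,1), (0,1), (1,2), (0,2)]

def d902 : FW :=
  [(15,1), (17,1), (15,2), (17,1), (0,1), (12,1), (15,2), (16,1), (3,1), (9,1), (15,2), (16,1), (0,1), (1,2)]

def d903 : FW :=
  [(0,1), (9,1), (15,4), (16,1), (9,1), (15,2), (12,1), (17,1), (15,1), (17,1), (15,1), (0,1), (16,1), (0,1), (9,1),
   (15,1), (0,1), (1,1), (0,2), (1,2)]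

def d904 : FW :=
  [(9,1), (17,1), (15,2), (0,1), (15,2), (17,1), (16,1), (15,2), (12,1), (0,1), (15,1), (16,1), (15,2), (1,1)]

def d905 : FW :=
  [(1,1), (8,1), (17,1), (0,1), (17,1), (15,2), (17,1), (15,1), (17,1), (15,1), (16,1), (15,1), (0,1), (1,2)]

def d906 : FW :=
  [(16,1), (9,1), (16,1), (15,2), (16,1), (15,1), (0,1), (17,2), (16,1), (0,2), (1,1), (0,1), (1,2), (0,2)]

def d907 : FW :=
  [(0,2), (9,1), (17,1), (11,1), (15,1), (1,1), (16,1), (3,1), (17,1), (16,2), (9,1), (1,1), (0,1), (1,2), (0,2)]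

def d908 : FW :=
  [(15,1), (16,1), (15,2), (0,1), (15,1), (16,1), (0,2), (17,1), (15,1), (11,1), (15,1), (17,1), (15,1), (1,1)]

def d909 : FW :=
  [(15,1), (0,1), (12,1), (1,1), (15,1), (12,1), (17,1), (15,2), (16,1), (1,1), (15,2), (17,1), (15,5), (16,1)]

def d910 : FW :=
  [(9,1), (16,1), (9,1), (17,1), (15,1), (17,1), (16,1), (15,2), (0,1), (12,1), (15,2), (0,1), (16,1), (0,2), (1,1),
   (0,1), (1,2), (0,2)]

def d911 : FW :=
  [(9,1), (16,1), (9,1), (16,1), (1,1), (15,2), (16,1), (15,1), (16,1), (0,1), (15,1), (0,1), (15,2), (16,1)]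

def d912 : FW :=
  [(15,1), (12,1), (17,1), (15,1), (16,1), (0,1), (12,1), (15,1), (0,1), (17,1), (15,3), (16,1), (1,1), (15,1), (0,1),
   (15,1)]

def d913 : FW :=
  [(15,1), (17,2), (12,1), (15,1), (12,1), (16,1), (0,1), (15,4), (16,2), (3,1), (15,1), (1,1), (0,1), (1,2), (0,2)]

def d914 : FW :=
  [(9,1), (15,3), (17,1), (0,1), (12,1), (15,1), (16,1), (0,1), (9,1), (15,1), (12,1), (17,1), (3,1)]

def d915 : FW :=
  [(9,1), (15,1), (0,1), (1,1), (16,1), (12,1), (0,1), (17,1), (16,1), (17,1), (15,1), (1,1), (17,2), (15,1), (0,1),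
   (1,1), (0,2), (1,2)]

def d916 : FW :=
  [(0,1), (9,1), (15,2), (0,1), (15,1), (1,1), (16,1), (17,3), (15,2), (0,1), (12,1), (0,1), (17,1)]

def d917 : FW :=
  [(9,1), (17,1), (0,1), (15,3), (0,1), (17,1), (15,2), (16,1), (9,1), (15,1), (0,1), (15,2), (0,1), (0,1), (1,1),
   (0,2), (1,2)]

def d918 : FW :=
  [(16,1), (9,1), (15,1), (0,1), (16,1), (15,2), (16,1), (0,1), (9,1), (15,1), (16,1), (0,1), (15,1), (16,1), (9,1),
   (8,1), (1,1), (1,1), (0,1), (1,2), (0,2)]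

def d919 : FW :=
  [(0,2), (9,1), (15,1), (17,1), (15,1), (17,1), (16,1), (9,1), (8,1), (0,1), (17,1), (15,3), (17,1), (0,1), (0,1),
   (1,1), (0,2), (1,2)]

def KD0 : List (Fin 2 × FW) :=
  [(0,d0), (0,d1), (0,d2), (0,d3), (0,d4), (0,d5), (0,d6), (0,d7), (0,d8), (0,d9)]

def KD1 : List (Fin 2 × FW) :=
  [(0,d10), (0,d11), (0,d12), (0,d13), (0,d14), (0,d15), (0,d16), (0,d17), (0,d18), (0,d19)]

def KD2 : List (Fin 2 × FW) :=
  [(0,d20), (0,d21), (0,d22), (0,d23), (0,d24), (0,d25), (0,d26), (0,d27), (0,d28), (0,d29)]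

def KD3 : List (Fin 2 × FW) :=
  [(0,d30), (0,d31), (0,d32), (0,d33), (0,d34), (0,d35), (0,d36), (0,d37), (0,d38), (0,d39)]

def KD4 : List (Fin 2 × FW) :=
  [(0,d40), (0,d41), (0,d42), (0,d43), (0,d44), (0,d45), (0,d46), (0,d47), (0,d48), (0,d49)]

def KD5 : List (Fin 2 × FW) :=
  [(0,d50), (0,d51), (0,d52), (0,d53), (0,d54), (0,d55), (0,d56), (0,d57), (0,d58), (0,d59)]

def KD6 : List (Fin 2 × FW) :=
  [(0,d60), (0,d61), (0,d62), (0,d63), (0,d64), (0,d65), (0,d66), (0,d67), (0,d68), (0,d69)]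

def KD7 : List (Fin 2 × FW) :=
  [(0,d70), (0,d71), (0,d72), (0,d73), (0,d74), (0,d75), (0,d76), (0,d77), (0,d78), (0,d79)]

def KD8 : List (Fin 2 × FW) :=
  [(0,d80), (0,d81), (0,d82), (0,d83), (0,d84), (0,d85), (0,d86), (0,d87), (0,d88), (0,d89)]

def KD9 : List (Fin 2 × FW) :=
  [(0,d90), (0,d91), (0,d92), (0,d93), (0,d94), (0,d95), (0,d96), (0,d97), (0,d98), (0,d99)]

def KD10 : List (Fin 2 × FW) :=
  [(0,d100), (0,d101), (0,d102), (0,d103), (0,d104), (0,d105), (0,d106), (0,d107), (0,d108), (0,d109)]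

def KD11 : List (Fin 2 × FW) :=
  [(0,d110), (0,d111), (0,d112), (0,d113), (0,d114), (0,d115), (0,d116), (0,d117), (0,d118), (0,d119)]

def KD12 : List (Fin 2 × FW) :=
  [(0,d120), (0,d121), (0,d122), (0,d123), (0,d124), (0,d125), (0,d126), (0,d127), (0,d128), (0,d129)]

def KD13 : List (Fin 2 × FW) :=
  [(0,d130), (0,d131), (0,d132), (0,d133), (0,d134), (0,d135), (0,d136), (0,d137), (0,d138), (0,d139)]

def KD14 : List (Fin 2 × FW) :=
  [(0,d140), (0,d141), (0,d142), (0,d143), (0,d144), (0,d145), (0,d146), (0,d147), (0,d148), (0,d149)]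

def KD15 : List (Fin 2 × FW) :=
  [(0,d150), (0,d151), (0,d152), (0,d153), (0,d154), (0,d155), (0,d156), (0,d157), (0,d158), (0,d159)]

def KD16 : List (Fin 2 × FW) :=
  [(0,d160), (0,d161), (0,d162), (0,d163), (0,d164), (0,d165), (0,d166), (0,d167), (0,d168), (0,d169)]

def KD17 : List (Fin 2 × FW) :=
  [(0,d170), (0,d171), (0,d172), (0,d173), (0,d174), (0,d175), (0,d176), (0,d177), (0,d178), (0,d179)]

def KD18 : List (Fin 2 × FW) :=
  [(0,d180), (0,d181), (0,d182), (0,d183), (0,d184), (0,d185), (0,d186), (0,d187), (0,d188), (0,d189)]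

def KD19 : List (Fin 2 × FW) :=
  [(0,d190), (0,d191), (0,d192), (0,d193), (0,d194), (0,d195), (0,d196), (0,d197), (0,d198), (0,d199)]

def KD20 : List (Fin 2 × FW) :=
  [(0,d200), (0,d201), (0,d202), (0,d203), (0,d204), (0,d205), (0,d206), (0,d207), (0,d208), (0,d209)]

def KD21 : List (Fin 2 × FW) :=
  [(0,d210), (0,d211), (0,d212), (0,d213), (0,d214), (0,d215), (0,d216), (0,d217), (0,d218), (0,d219)]

def KD22 : List (Fin 2 × FW) :=
  [(0,d220), (0,d221), (0,d222), (0,d223), (0,d224), (0,d225), (0,d226), (0,d227), (0,d228), (0,d229)]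

def KD23 : List (Fin 2 × FW) :=
  [(0,d230), (0,d231), (0,d232), (0,d233), (0,d234), (0,d235), (0,d236), (0,d237), (0,d238), (0,d239)]

def KD24 : List (Fin 2 × FW) :=
  [(0,d240), (0,d241), (0,d242), (0,d243), (0,d244), (0,d245), (0,d246), (0,d247), (0,d248), (0,d249)]

def KD25 : List (Fin 2 × FW) :=
  [(0,d250), (0,d251), (0,d252), (0,d253), (0,d254), (0,d255), (0,d256), (0,d257), (0,d258), (0,d259)]

def KD26 : List (Fin 2 × FW) :=
  [(0,d260), (0,d261), (0,d262), (0,d263), (0,d264), (0,d265), (0,d266), (0,d267), (0,d268), (0,d269)]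

def KD27 : List (Fin 2 × FW) :=
  [(0,d270), (0,d271), (0,d272), (0,d273), (0,d274), (0,d275), (0,d276), (0,d277), (0,d278), (0,d279)]

def KD28 : List (Fin 2 × FW) :=
  [(0,d280), (0,d281), (0,d282), (0,d283), (0,d284), (0,d285), (0,d286), (0,d287), (0,d288), (0,d289)]

def KD29 : List (Fin 2 × FW) :=
  [(0,d290), (0,d291), (0,d292), (0,d293), (0,d294), (0,d295), (0,d296), (0,d297), (0,d298), (0,d299)]

def KD30 : List (Fin 2 × FW) :=
  [(0,d300), (0,d301), (0,d302), (0,d303), (0,d304), (0,d305), (0,d306), (0,d307), (0,d308), (0,d309)]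

def KD31 : List (Fin 2 × FW) :=
  [(0,d310), (0,d311), (0,d312), (0,d313), (0,d314), (0,d315), (0,d316), (0,d317), (0,d318), (0,d319)]

def KD32 : List (Fin 2 × FW) :=
  [(0,d320), (0,d321), (0,d322), (0,d323), (0,d324), (0,d325), (0,d326), (0,d327), (0,d328), (0,d329)]

def KD33 : List (Fin 2 × FW) :=
  [(0,d330), (0,d331), (0,d332), (0,d333), (0,d334), (0,d335), (0,d336), (0,d337), (0,d338), (0,d339)]

def KD34 : List (Fin 2 × FW) :=
  [(0,d340), (0,d341), (0,d342), (0,d343), (0,d344), (0,d345), (0,d346), (0,d347), (0,d348), (0,d349)]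

def KD35 : List (Fin 2 × FW) :=
  [(0,d350), (0,d351), (0,d352), (0,d353), (0,d354), (0,d355), (0,d356), (0,d357), (0,d358), (0,d359)]

def KD36 : List (Fin 2 × FW) :=
  [(0,d360), (0,d361), (0,d362), (0,d363), (0,d364), (0,d365), (0,d366), (0,d367), (0,d368), (0,d369)]

def KD37 : List (Fin 2 × FW) :=
  [(0,d370), (0,d371), (0,d372), (0,d373), (0,d374), (0,d375), (0,d376), (0,d377), (0,d378), (0,d379)]

def KD38 : List (Fin 2 × FW) :=
  [(0,d380), (0,d381), (0,d382), (0,d383), (0,d384), (0,d385), (0,d386), (0,d387), (0,d388), (0,d389)]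

def KD39 : List (Fin 2 × FW) :=
  [(0,d390), (0,d391), (0,d392), (0,d393), (0,d394), (0,d395), (0,d396), (0,d397), (0,d398), (0,d399)]

def KD40 : List (Fin 2 × FW) :=
  [(0,d400), (0,d401), (0,d402), (0,d403), (0,d404), (0,d405), (0,d406), (0,d407), (0,d408), (0,d409)]

def KD41 : List (Fin 2 × FW) :=
  [(0,d410), (0,d411), (0,d412), (0,d413), (0,d414), (0,d415), (0,d416), (0,d417), (0,d418), (0,d419)]

def KD42 : List (Fin 2 × FW) :=
  [(0,d420), (0,d421), (0,d422), (0,d423), (0,d424), (0,d425), (0,d426), (0,d427), (0,d428), (0,d429)]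

def KD43 : List (Fin 2 × FW) :=
  [(0,d430), (0,d431), (0,d432), (0,d433), (0,d434), (0,d435), (0,d436), (0,d437), (0,d438), (0,d439)]

def KD44 : List (Fin 2 × FW) :=
  [(0,d440), (0,d441), (0,d442), (0,d443), (0,d444), (0,d445), (0,d446), (0,d447), (0,d448), (0,d449)]

def KD45 : List (Fin 2 × FW) :=
  [(0,d450), (0,d451), (0,d452), (0,d453), (0,d454), (0,d455), (0,d456), (0,d457), (0,d458), (0,d459)]

def KD46 : List (Fin 2 × FW) :=
  [(0,d460), (0,d461), (0,d462), (0,d463), (0,d464), (0,d465), (0,d466), (0,d467), (0,d468), (0,d469)]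

def KD47 : List (Fin 2 × FW) :=
  [(0,d470), (0,d471), (0,d472), (0,d473), (0,d474), (0,d475), (0,d476), (0,d477), (0,d478), (0,d479)]

def KD48 : List (Fin 2 × FW) :=
  [(0,d480), (0,d481), (0,d482), (0,d483), (0,d484), (0,d485), (0,d486), (0,d487), (0,d488), (0,d489)]

def KD49 : List (Fin 2 × FW) :=
  [(0,d490), (0,d491), (0,d492), (0,d493), (0,d494), (0,d495), (0,d496), (0,d497), (0,d498), (0,d499)]

def KD50 : List (Fin 2 × FW) :=
  [(0,d500), (0,d501), (0,d502), (0,d503), (0,d504), (0,d505), (0,d506), (0,d507), (0,d508), (0,d509)]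

def KD51 : List (Fin 2 × FW) :=
  [(0,d510), (0,d511), (0,d512), (0,d513), (0,d514), (0,d515), (0,d516), (0,d517), (0,d518), (0,d519)]

def KD52 : List (Fin 2 × FW) :=
  [(0,d520), (0,d521), (0,d522), (0,d523), (0,d524), (0,d525), (0,d526), (0,d527), (0,d528), (0,d529)]

def KD53 : List (Fin 2 × FW) :=
  [(0,d530), (0,d531), (0,d532), (0,d533), (0,d534), (0,d535), (0,d536), (0,d537), (0,d538), (0,d539)]

def KD54 : List (Fin 2 × FW) :=
  [(0,d540), (0,d541), (0,d542), (0,d543), (0,d544), (0,d545), (0,d546), (0,d547), (0,d548), (0,d549)]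

def KD55 : List (Fin 2 × FW) :=
  [(0,d550), (0,d551), (0,d552), (0,d553), (0,d554), (0,d555), (0,d556), (0,d557), (0,d558), (0,d559)]

def KD56 : List (Fin 2 × FW) :=
  [(0,d560), (0,d561), (0,d562), (0,d563), (0,d564), (0,d565), (0,d566), (0,d567), (0,d568), (0,d569)]

def KD57 : List (Fin 2 × FW) :=
  [(0,d570), (0,d571), (0,d572), (0,d573), (0,d574), (0,d575), (0,d576), (0,d577), (0,d578), (0,d579)]

def KD58 : List (Fin 2 × FW) :=
  [(0,d580), (0,d581), (0,d582), (0,d583), (0,d584), (0,d585), (0,d586), (0,d587), (0,d588), (0,d589)]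

def KD59 : List (Fin 2 × FW) :=
  [(0,d590), (0,d591), (0,d592), (0,d593), (0,d594), (0,d595), (0,d596), (0,d597), (0,d598), (0,d599)]

def KD60 : List (Fin 2 × FW) :=
  [(0,d600), (0,d601), (0,d602), (0,d603), (0,d604), (0,d605), (0,d606), (0,d607), (0,d608), (0,d609)]

def KD61 : List (Fin 2 × FW) :=
  [(0,d610), (0,d611), (0,d612), (0,d613), (0,d614), (0,d615), (0,d616), (0,d617), (0,d618), (0,d619)]

def KD62 : List (Fin 2 × FW) :=
  [(0,d620), (0,d621), (0,d622), (0,d623), (0,d624), (0,d625), (0,d626), (0,d627), (0,d628), (0,d629)]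

def KD63 : List (Fin 2 × FW) :=
  [(0,d630), (0,d631), (0,d632), (0,d633), (0,d634), (0,d635), (0,d636), (0,d637), (0,d638), (0,d639)]

def KD64 : List (Fin 2 × FW) :=
  [(0,d640), (0,d641), (0,d642), (0,d643), (0,d644), (0,d645), (0,d646), (0,d647), (0,d648), (0,d649)]

def KD65 : List (Fin 2 × FW) :=
  [(0,d650), (0,d651), (0,d652), (0,d653), (0,d654), (0,d655), (0,d656), (0,d657), (0,d658), (0,d659)]

def KD66 : List (Fin 2 × FW) :=
  [(0,d660), (0,d661), (0,d662), (0,d663), (0,d664), (0,d665), (0,d666), (0,d667), (0,d668), (0,d669)]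

def KD67 : List (Fin 2 × FW) :=
  [(0,d670), (0,d671), (0,d672), (0,d673), (0,d674), (0,d675), (0,d676), (0,d677), (0,d678), (0,d679)]

def KD68 : List (Fin 2 × FW) :=
  [(0,d680), (0,d681), (0,d682), (0,d683), (0,d684), (0,d685), (0,d686), (0,d687), (0,d688), (0,d689)]

def KD69 : List (Fin 2 × FW) :=
  [(0,d690), (0,d691), (0,d692), (0,d693), (0,d694), (0,d695), (0,d696), (0,d697), (0,d698), (0,d699)]

def KD70 : List (Fin 2 × FW) :=
  [(0,d700), (0,d701), (0,d702), (0,d703), (0,d704), (0,d705), (0,d706), (0,d707), (0,d708), (0,d709)]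

def KD71 : List (Fin 2 × FW) :=
  [(0,d710), (0,d711), (0,d712), (0,d713), (0,d714), (0,d715), (0,d716), (0,d717), (0,d718), (0,d719)]

def KD72 : List (Fin 2 × FW) :=
  [(0,d720), (0,d721), (0,d722), (0,d723), (0,d724), (0,d725), (0,d726), (0,d727), (0,d728), (0,d729)]

def KD73 : List (Fin 2 × FW) :=
  [(0,d730), (0,d731), (0,d732), (0,d733), (0,d734), (0,d735), (0,d736), (0,d737), (0,d738), (0,d739)]

def KD74 : List (Fin 2 × FW) :=
  [(0,d740), (0,d741), (0,d742), (0,d743), (0,d744), (0,d745), (0,d746), (0,d747), (0,d748), (0,d749)]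

def KD75 : List (Fin 2 × FW) :=
  [(0,d750), (0,d751), (0,d752), (0,d753), (0,d754), (0,d755), (0,d756), (0,d757), (0,d758), (0,d759)]

def KD76 : List (Fin 2 × FW) :=
  [(0,d760), (0,d761), (0,d762), (0,d763), (0,d764), (0,d765), (0,d766), (0,d767), (0,d768), (0,d769)]

def KD77 : List (Fin 2 × FW) :=
  [(0,d770), (0,d771), (0,d772), (0,d773), (0,d774), (0,d775), (0,d776), (0,d777), (0,d778), (0,d779)]

def KD78 : List (Fin 2 × FW) :=
  [(0,d780), (0,d781), (0,d782), (0,d783), (1,d784), (1,d785), (1,d786), (1,d787), (1,d788), (1,d789)]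

def KD79 : List (Fin 2 × FW) :=
  [(1,d790), (1,d791), (1,d792), (1,d793), (1,d794), (1,d795), (1,d796), (1,d797), (1,d798), (1,d799)]

def KD80 : List (Fin 2 × FW) :=
  [(1,d800), (1,d801), (1,d802), (1,d803), (1,d804), (1,d805), (1,d806), (1,d807), (1,d808), (1,d809)]

def KD81 : List (Fin 2 × FW) :=
  [(1,d810), (1,d811), (1,d812), (1,d813), (1,d814), (1,d815), (1,d816), (1,d817), (1,d818), (1,d819)]

def KD82 : List (Fin 2 × FW) :=
  [(1,d820), (1,d821), (1,d822), (1,d823), (1,d824), (1,d825), (1,d826), (1,d827), (1,d828), (1,d829)]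

def KD83 : List (Fin 2 × FW) :=
  [(1,d830), (1,d831), (1,d832), (1,d833), (1,d834), (1,d835), (1,d836), (1,d837), (1,d838), (1,d839)]

def KD84 : List (Fin 2 × FW) :=
  [(1,d840), (1,d841), (1,d842), (1,d843), (1,d844), (1,d845), (1,d846), (1,d847), (1,d848), (1,d849)]

def KD85 : List (Fin 2 × FW) :=
  [(1,d850), (1,d851), (1,d852), (1,d853), (1,d854), (1,d855), (1,d856), (1,d857), (1,d858), (1,d859)]

def KD86 : List (Fin 2 × FW) :=
  [(1,d860), (1,d861), (1,d862), (1,d863), (1,d864), (1,d865), (1,d866), (1,d867), (1,d868), (1,d869)]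

def KD87 : List (Fin 2 × FW) :=
  [(1,d870), (1,d871), (1,d872), (1,d873), (1,d874), (1,d875), (1,d876), (1,d877), (1,d878), (1,d879)]

def KD88 : List (Fin 2 × FW) :=
  [(1,d880), (1,d881), (1,d882), (1,d883), (1,d884), (1,d885), (1,d886), (1,d887), (1,d888), (1,d889)]

def KD89 : List (Fin 2 × FW) :=
  [(1,d890), (1,d891), (1,d892), (1,d893), (1,d894), (1,d895), (1,d896), (1,d897), (1,d898), (1,d899)]

def KD90 : List (Fin 2 × FW) :=
  [(1,d900), (1,d901), (1,d902), (1,d903), (1,d904), (1,d905), (1,d906), (1,d907), (1,d908), (1,d909)]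

def KD91 : List (Fin 2 × FW) :=
  [(1,d910), (1,d911), (1,d912), (1,d913), (1,d914), (1,d915), (1,d916), (1,d917), (1,d918), (1,d919)]

/-- the representatives -/
def KD : List (Fin 2 × FW) :=
  KD0 ++ (KD1 ++ (KD2 ++ (KD3 ++ (KD4 ++ (KD5 ++ (KD6 ++ (KD7 ++ (KD8 ++ (KD9 ++ (KD10 ++ (KD11 ++ (KD12 ++ (KD13 ++
   (KD14 ++ (KD15 ++ (KD16 ++ (KD17 ++ (KD18 ++ (KD19 ++ (KD20 ++ (KD21 ++ (KD22 ++ (KD23 ++ (KD24 ++ (KD25 ++ (KD26
   ++ (KD27 ++ (KD28 ++ (KD29 ++ (KD30 ++ (KD31 ++ (KD32 ++ (KD33 ++ (KD34 ++ (KD35 ++ (KD36 ++ (KD37 ++ (KD38 ++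
   (KD39 ++ (KD40 ++ (KD41 ++ (KD42 ++ (KD43 ++ (KD44 ++ (KD45 ++ (KD46 ++ (KD47 ++ (KD48 ++ (KD49 ++ (KD50 ++ (KD51
   ++ (KD52 ++ (KD53 ++ (KD54 ++ (KD55 ++ (KD56 ++ (KD57 ++ (KD58 ++ (KD59 ++ (KD60 ++ (KD61 ++ (KD62 ++ (KD63 ++
   (KD64 ++ (KD65 ++ (KD66 ++ (KD67 ++ (KD68 ++ (KD69 ++ (KD70 ++ (KD71 ++ (KD72 ++ (KD73 ++ (KD74 ++ (KD75 ++ (KD76
   ++ (KD77 ++ (KD78 ++ (KD79 ++ (KD80 ++ (KD81 ++ (KD82 ++ (KD83 ++ (KD84 ++ (KD85 ++ (KD86 ++ (KD87 ++ (KD88 ++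
   (KD89 ++ (KD90 ++ (KD91)))))))))))))))))))))))))))))))))))))))))))))))))))))))))))))))))))))))))))))))))))))))))))

end Cfsg.Agent.BX.No33.Bk
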