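import Cfsg.Agent.BX.No33.CovSD
import Cfsg.Agent.BX.No33.KD
set_option linter.all false
set_option Elab.async false

/-!
# The cover in the case D (helper18)
-/

set_option autoImplicit false
set_option maxRecDepth 100000

namespace Cfsg.Agent.BX.No33.Cv

open Cfsg.Agent.BX.Cov Cfsg.Agent.BX.Frame.Fr3 Cfsg.Agent.Lib.PackMat Cfsg.Agent.Lib.PackMatMul
open Cfsg.Agent.Lib.PackMatOrbit (getO)

/-- for each orbit the number of the representative and of an element of the subgroup -/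
noncomputable def ND : Tr :=
 (.node (.node (.node (.node (.node (.node (.node (.node (.node (.node .nil (nat_lit 0) (nat_lit 867) (nat_lit 9) (nat_lit 0) .nil) (nat_lit 1) (nat_lit 655) (nat_lit 7) (nat_lit 0) (.node .nil (nat_lit 2) (nat_lit 786) (nat_lit 6) (nat_lit 0) .nil)) (nat_lit 3) (nat_lit 485) (nat_lit 6) (nat_lit 0) (.node (.node .nil (nat_lit 4) (nat_lit 881) (nat_lit 11) (nat_lit 0) .nil) (nat_lit 5) (nat_lit 500) (nat_lit 4) (nat_lit 0) (.node .nil (nat_lit 6) (nat_lit 553) (nat_lit 5) (nat_lit 0) .nil))) (nat_lit 7) (nat_lit 486) (nat_lit 3) (nat_lit 0) (.node (.node (.node .nil (nat_lit 8) (nat_lit 394) (nat_lit 7) (nat_lit 0) .nil) (nat_lit 9) (nat_lit 828) (nat_lit 9) (nat_lit 0) (.node .nil (nat_lit 10) (nat_lit 109) (nat_lit 1) (nat_lit 0) .nil)) (nat_lit 11) (nat_lit 697) (nat_lit 2) (nat_lit 0) (.node (.node .nil (nat_lit 12) (nat_lit 419) (nat_lit 8) (nat_lit 0) .nil) (nat_lit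 13) (nat_lit 94) (nat_lit 10) (nat_lit 0) .nil))) (nat_lit 14) (nat_lit 913) (nat_lit 11) (nat_lit 0) (.node (.node (.node (.node .nil (nat_lit 15) (nat_lit 759) (nat_lit 10) (nat_lit 0) .nil) (nat_lit 16) (nat_lit 81) (nat_lit 11) (nat_lit 0) (.node .nil (nat_lit 17) (nat_lit 401) (nat_lit 11) (nat_lit 0) .nil)) (nat_lit 18) (nat_lit 763) (nat_lit 0) (nat_lit 0) (.node (.node .nil (nat_lit 19) (nat_lit 815) (nat_lit 0) (nat_lit 0) .nil) (nat_lit 20) (nat_lit 912) (nat_lit 8) (nat_lit 0) .nil)) (nat_lit 21) (nat_lit 796) (nat_lit 5) (nat_lit 0) (.node (.node (.node .nil (nat_lit 22) (nat_lit 829) (nat_lit 6) (nat_lit 0) .nil) (nat_lit 23) (nat_lit 756) (nat_lit 7) (nat_lit 0) (.node .nil (nat_lit 24) (nat_lit 894) (nat_lit 5) (nat_lit 0) .nil)) (nat_lit 25) (nat_lit 320) (nat_lit 1) (nat_lit 0) (.node (.node .nil (nat_lit 26) (nat_lit 698) (nat_lit 8) (nat_lit 0) .nil) (nat_lit 27) (nat_lit 84) (nat_lit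 9) (nat_lit 0) .nil)))) (nat_lit 28) (nat_lit 132) (nat_lit 2) (nat_lit 0) (.node (.node (.node (.node (.node .nil (nat_lit 29) (nat_lit 539) (nat_lit 5) (nat_lit 0) .nil) (nat_lit 30) (nat_lit 885) (nat_lit 11) (nat_lit 0) (.node .nil (nat_lit 31) (nat_lit 765) (nat_lit 7) (nat_lit 0) .nil)) (nat_lit 32) (nat_lit 918) (nat_lit 7) (nat_lit 0) (.node (.node .nil (nat_lit 33) (nat_lit 76) (nat_lit 2) (nat_lit 0) .nil) (nat_lit 34) (nat_lit 426) (nat_lit 5) (nat_lit 0) (.node .nil (nat_lit 35) (nat_lit 853) (nat_lit 10) (nat_lit 0) .nil))) (nat_lit 36) (nat_lit 797) (nat_lit 0) (nat_lit 0) (.node (.node (.node .nil (nat_lit 37) (nat_lit 555) (nat_lit 10) (nat_lit 0) .nil) (nat_lit 38) (nat_lit 392) (nat_lit 11) (nat_lit 0) (.node .nil (nat_lit 39) (nat_lit 878) (nat_lit 7) (nat_lit 0) .nil)) (nat_lit 40) (nat_lit 554) (nat_lit 2) (nat_lit 0) (.node (.node .nil (nat_lit 41) (nat_lit 608) (nat_lit 1) (nat_lit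 0) .nil) (nat_lit 42) (nat_lit 571) (nat_lit 5) (nat_lit 0) .nil))) (nat_lit 43) (nat_lit 751) (nat_lit 1) (nat_lit 0) (.node (.node (.node (.node .nil (nat_lit 44) (nat_lit 813) (nat_lit 7) (nat_lit 0) .nil) (nat_lit 45) (nat_lit 27) (nat_lit 0) (nat_lit 0) (.node .nil (nat_lit 46) (nat_lit 450) (nat_lit 3) (nat_lit 0) .nil)) (nat_lit 47) (nat_lit 513) (nat_lit 7) (nat_lit 0) (.node (.node .nil (nat_lit 48) (nat_lit 737) (nat_lit 7) (nat_lit 0) .nil) (nat_lit 49) (nat_lit 602) (nat_lit 0) (nat_lit 0) .nil)) (nat_lit 50) (nat_lit 441) (nat_lit 3) (nat_lit 0) (.node (.node (.node .nil (nat_lit 51) (nat_lit 519) (nat_lit 1) (nat_lit 0) .nil) (nat_lit 52) (nat_lit 787) (nat_lit 9) (nat_lit 0) (.node .nil (nat_lit 53) (nat_lit 375) (nat_lit 6) (nat_lit 0) .nil)) (nat_lit 54) (nat_lit 707) (nat_lit 10) (nat_lit 0) (.node (.node .nil (nat_lit 55) (nat_lit 473) (nat_lit 3) (nat_lit 0) .nil) (nat_lit 56) (nat_lit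 282) (nat_lit 11) (nat_lit 0) .nil))))) (nat_lit 57) (nat_lit 129) (nat_lit 9) (nat_lit 0) (.node (.node (.node (.node (.node (.node .nil (nat_lit 58) (nat_lit 335) (nat_lit 6) (nat_lit 0) .nil) (nat_lit 59) (nat_lit 439) (nat_lit 4) (nat_lit 0) (.node .nil (nat_lit 60) (nat_lit 619) (nat_lit 3) (nat_lit 0) .nil)) (nat_lit 61) (nat_lit 444) (nat_lit 8) (nat_lit 0) (.node (.node .nil (nat_lit 62) (nat_lit 649) (nat_lit 1) (nat_lit 0) .nil) (nat_lit 63) (nat_lit 817) (nat_lit 11) (nat_lit 0) (.node .nil (nat_lit 64) (nat_lit 55) (nat_lit 7) (nat_lit 0) .nil))) (nat_lit 65) (nat_lit 902) (nat_lit 5) (nat_lit 0) (.node (.node (.node .nil (nat_lit 66) (nat_lit 313) (nat_lit 5) (nat_lit 0) .nil) (nat_lit 67) (nat_lit 262) (nat_lit 6) (nat_lit 0) (.node .nil (nat_lit 68) (nat_lit 197) (nat_lit 1) (nat_lit 0) .nil)) (nat_lit 69) (nat_lit 639) (nat_lit 6) (nat_lit 0) (.node (.node .nil (nat_lit 70) (nat_lit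 589) (nat_lit 0) (nat_lit 0) .nil) (nat_lit 71) (nat_lit 581) (nat_lit 9) (nat_lit 0) .nil))) (nat_lit 72) (nat_lit 886) (nat_lit 5) (nat_lit 0) (.node (.node (.node (.node .nil (nat_lit 73) (nat_lit 26) (nat_lit 1) (nat_lit 0) .nil) (nat_lit 74) (nat_lit 681) (nat_lit 0) (nat_lit 0) (.node .nil (nat_lit 75) (nat_lit 150) (nat_lit 5) (nat_lit 0) .nil)) (nat_lit 76) (nat_lit 330) (nat_lit 10) (nat_lit 0) (.node (.node .nil (nat_lit 77) (nat_lit 839) (nat_lit 6) (nat_lit 0) .nil) (nat_lit 78) (nat_lit 910) (nat_lit 1) (nat_lit 0) .nil)) (nat_lit 79) (nat_lit 824) (nat_lit 8) (nat_lit 0) (.node (.node (.node .nil (nat_lit 80) (nat_lit 187) (nat_lit 2) (nat_lit 0) .nil) (nat_lit 81) (nat_lit 74) (nat_lit 9) (nat_lit 0) (.node .nil (nat_lit 82) (nat_lit 422) (nat_lit 0) (nat_lit 0) .nil)) (nat_lit 83) (nat_lit 630) (nat_lit 11) (nat_lit 0) (.node (.node .nil (nat_lit 84) (nat_lit 578) (nat_lit 5) (nat_lit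 0) .nil) (nat_lit 85) (nat_lit 324) (nat_lit 0) (nat_lit 0) .nil)))) (nat_lit 86) (nat_lit 798) (nat_lit 4) (nat_lit 0) (.node (.node (.node (.node (.node .nil (nat_lit 87) (nat_lit 484) (nat_lit 1) (nat_lit 0) .nil) (nat_lit 88) (nat_lit 915) (nat_lit 8) (nat_lit 0) (.node .nil (nat_lit 89) (nat_lit 77) (nat_lit 10) (nat_lit 0) .nil)) (nat_lit 90) (nat_lit 891) (nat_lit 1) (nat_lit 0) (.node (.node .nil (nat_lit 91) (nat_lit 789) (nat_lit 6) (nat_lit 0) .nil) (nat_lit 92) (nat_lit 845) (nat_lit 6) (nat_lit 0) (.node .nil (nat_lit 93) (nat_lit 331) (nat_lit 3) (nat_lit 0) .nil))) (nat_lit 94) (nat_lit 818) (nat_lit 3) (nat_lit 0) (.node (.node (.node .nil (nat_lit 95) (nat_lit 572) (nat_lit 6) (nat_lit 0) .nil) (nat_lit 96) (nat_lit 794) (nat_lit 9) (nat_lit 0) (.node .nil (nat_lit 97) (nat_lit 725) (nat_lit 8) (nat_lit 0) .nil)) (nat_lit 98) (nat_lit 328) (nat_lit 0) (nat_lit 0) (.node (.node .nil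 (nat_lit 99) (nat_lit 552) (nat_lit 11) (nat_lit 0) .nil) (nat_lit 100) (nat_lit 593) (nat_lit 7) (nat_lit 0) .nil))) (nat_lit 101) (nat_lit 803) (nat_lit 11) (nat_lit 0) (.node (.node (.node (.node .nil (nat_lit 102) (nat_lit 876) (nat_lit 1) (nat_lit 0) .nil) (nat_lit 103) (nat_lit 75) (nat_lit 11) (nat_lit 0) (.node .nil (nat_lit 104) (nat_lit 557) (nat_lit 5) (nat_lit 0) .nil)) (nat_lit 105) (nat_lit 875) (nat_lit 10) (nat_lit 0) (.node (.node .nil (nat_lit 106) (nat_lit 267) (nat_lit 8) (nat_lit 0) .nil) (nat_lit 107) (nat_lit 259) (nat_lit 5) (nat_lit 0) .nil)) (nat_lit 108) (nat_lit 209) (nat_lit 11) (nat_lit 0) (.node (.node (.node .nil (nat_lit 109) (nat_lit 258) (nat_lit 9) (nat_lit 0) .nil) (nat_lit 110) (nat_lit 834) (nat_lit 0) (nat_lit 0) (.node .nil (nat_lit 111) (nat_lit 682) (nat_lit 11) (nat_lit 0) .nil)) (nat_lit 112) (nat_lit 275) (nat_lit 9) (nat_lit 0) (.node (.node .nil (nat_lit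 113) (nat_lit 854) (nat_lit 0) (nat_lit 0) .nil) (nat_lit 114) (nat_lit 501) (nat_lit 7) (nat_lit 0) .nil)))))) (nat_lit 115) (nat_lit 637) (nat_lit 6) (nat_lit 0) (.node (.node (.node (.node (.node (.node (.node .nil (nat_lit 116) (nat_lit 830) (nat_lit 11) (nat_lit 0) .nil) (nat_lit 117) (nat_lit 497) (nat_lit 3) (nat_lit 0) (.node .nil (nat_lit 118) (nat_lit 739) (nat_lit 1) (nat_lit 0) .nil)) (nat_lit 119) (nat_lit 8) (nat_lit 4) (nat_lit 0) (.node (.node .nil (nat_lit 120) (nat_lit 640) (nat_lit 2) (nat_lit 0) .nil) (nat_lit 121) (nat_lit 117) (nat_lit 4) (nat_lit 0) (.node .nil (nat_lit 122) (nat_lit 63) (nat_lit 7) (nat_lit 0) .nil))) (nat_lit 123) (nat_lit 479) (nat_lit 2) (nat_lit 0) (.node (.node (.node .nil (nat_lit 124) (nat_lit 685) (nat_lit 3) (nat_lit 0) .nil) (nat_lit 125) (nat_lit 428) (nat_lit 1) (nat_lit 0) (.node .nil (nat_lit 126) (nat_lit 852) (nat_lit 4) (nat_lit 0) .nil)) (nat_lit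 127) (nat_lit 840) (nat_lit 9) (nat_lit 0) (.node (.node .nil (nat_lit 128) (nat_lit 336) (nat_lit 1) (nat_lit 0) .nil) (nat_lit 129) (nat_lit 48) (nat_lit 1) (nat_lit 0) .nil))) (nat_lit 130) (nat_lit 494) (nat_lit 4) (nat_lit 0) (.node (.node (.node (.node .nil (nat_lit 131) (nat_lit 687) (nat_lit 2) (nat_lit 0) .nil) (nat_lit 132) (nat_lit 79) (nat_lit 11) (nat_lit 0) (.node .nil (nat_lit 133) (nat_lit 540) (nat_lit 4) (nat_lit 0) .nil)) (nat_lit 134) (nat_lit 888) (nat_lit 3) (nat_lit 0) (.node (.node .nil (nat_lit 135) (nat_lit 744) (nat_lit 6) (nat_lit 0) .nil) (nat_lit 136) (nat_lit 67) (nat_lit 7) (nat_lit 0) .nil)) (nat_lit 137) (nat_lit 354) (nat_lit 7) (nat_lit 0) (.node (.node (.node .nil (nat_lit 138) (nat_lit 565) (nat_lit 6) (nat_lit 0) .nil) (nat_lit 139) (nat_lit 398) (nat_lit 5) (nat_lit 0) (.node .nil (nat_lit 140) (nat_lit 862) (nat_lit 0) (nat_lit 0) .nil)) (nat_lit 141) (nat_lit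 661) (nat_lit 7) (nat_lit 0) (.node (.node .nil (nat_lit 142) (nat_lit 612) (nat_lit 4) (nat_lit 0) .nil) (nat_lit 143) (nat_lit 176) (nat_lit 9) (nat_lit 0) .nil)))) (nat_lit 144) (nat_lit 217) (nat_lit 11) (nat_lit 0) (.node (.node (.node (.node (.node .nil (nat_lit 145) (nat_lit 397) (nat_lit 2) (nat_lit 0) .nil) (nat_lit 146) (nat_lit 835) (nat_lit 2) (nat_lit 0) (.node .nil (nat_lit 147) (nat_lit 689) (nat_lit 5) (nat_lit 0) .nil)) (nat_lit 148) (nat_lit 260) (nat_lit 11) (nat_lit 0) (.node (.node .nil (nat_lit 149) (nat_lit 499) (nat_lit 7) (nat_lit 0) .nil) (nat_lit 150) (nat_lit 802) (nat_lit 11) (nat_lit 0) (.node .nil (nat_lit 151) (nat_lit 36) (nat_lit 11) (nat_lit 0) .nil))) (nat_lit 152) (nat_lit 57) (nat_lit 7) (nat_lit 0) (.node (.node (.node .nil (nat_lit 153) (nat_lit 672) (nat_lit 0) (nat_lit 0) .nil) (nat_lit 154) (nat_lit 609) (nat_lit 5) (nat_lit 0) (.node .nil (nat_lit 155) (nat_lit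 125) (nat_lit 6) (nat_lit 0) .nil)) (nat_lit 156) (nat_lit 265) (nat_lit 6) (nat_lit 0) (.node (.node .nil (nat_lit 157) (nat_lit 138) (nat_lit 2) (nat_lit 0) .nil) (nat_lit 158) (nat_lit 717) (nat_lit 1) (nat_lit 0) .nil))) (nat_lit 159) (nat_lit 532) (nat_lit 9) (nat_lit 0) (.node (.node (.node (.node .nil (nat_lit 160) (nat_lit 290) (nat_lit 4) (nat_lit 0) .nil) (nat_lit 161) (nat_lit 469) (nat_lit 8) (nat_lit 0) (.node .nil (nat_lit 162) (nat_lit 112) (nat_lit 1) (nat_lit 0) .nil)) (nat_lit 163) (nat_lit 432) (nat_lit 11) (nat_lit 0) (.node (.node .nil (nat_lit 164) (nat_lit 831) (nat_lit 1) (nat_lit 0) .nil) (nat_lit 165) (nat_lit 906) (nat_lit 4) (nat_lit 0) .nil)) (nat_lit 166) (nat_lit 5) (nat_lit 7) (nat_lit 0) (.node (.node (.node .nil (nat_lit 167) (nat_lit 718) (nat_lit 7) (nat_lit 0) .nil) (nat_lit 168) (nat_lit 788) (nat_lit 3) (nat_lit 0) (.node .nil (nat_lit 169) (nat_lit 110) (nat_lit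 5) (nat_lit 0) .nil)) (nat_lit 170) (nat_lit 180) (nat_lit 0) (nat_lit 0) (.node (.node .nil (nat_lit 171) (nat_lit 523) (nat_lit 8) (nat_lit 0) .nil) (nat_lit 172) (nat_lit 126) (nat_lit 6) (nat_lit 0) .nil))))) (nat_lit 173) (nat_lit 15) (nat_lit 11) (nat_lit 0) (.node (.node (.node (.node (.node (.node .nil (nat_lit 174) (nat_lit 870) (nat_lit 5) (nat_lit 0) .nil) (nat_lit 175) (nat_lit 832) (nat_lit 7) (nat_lit 0) (.node .nil (nat_lit 176) (nat_lit 329) (nat_lit 0) (nat_lit 0) .nil)) (nat_lit 177) (nat_lit 389) (nat_lit 2) (nat_lit 0) (.node (.node .nil (nat_lit 178) (nat_lit 700) (nat_lit 10) (nat_lit 0) .nil) (nat_lit 179) (nat_lit 911) (nat_lit 10) (nat_lit 0) (.node .nil (nat_lit 180) (nat_lit 833) (nat_lit 0) (nat_lit 0) .nil))) (nat_lit 181) (nat_lit 846) (nat_lit 11) (nat_lit 0) (.node (.node (.node .nil (nat_lit 182) (nat_lit 251) (nat_lit 11) (nat_lit 0) .nil) (nat_lit 183) (nat_lit 750)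 (nat_lit 5) (nat_lit 0) (.node .nil (nat_lit 184) (nat_lit 373) (nat_lit 1) (nat_lit 0) .nil)) (nat_lit 185) (nat_lit 792) (nat_lit 3) (nat_lit 0) (.node (.node .nil (nat_lit 186) (nat_lit 85) (nat_lit 0) (nat_lit 0) .nil) (nat_lit 187) (nat_lit 914) (nat_lit 8) (nat_lit 0) .nil))) (nat_lit 188) (nat_lit 887) (nat_lit 1) (nat_lit 0) (.node (.node (.node (.node .nil (nat_lit 189) (nat_lit 369) (nat_lit 3) (nat_lit 0) .nil) (nat_lit 190) (nat_lit 512) (nat_lit 6) (nat_lit 0) (.node .nil (nat_lit 191) (nat_lit 332) (nat_lit 8) (nat_lit 0) .nil)) (nat_lit 192) (nat_lit 695) (nat_lit 5) (nat_lit 0) (.node (.node .nil (nat_lit 193) (nat_lit 710) (nat_lit 6) (nat_lit 0) .nil) (nat_lit 194) (nat_lit 339) (nat_lit 10) (nat_lit 0) .nil)) (nat_lit 195) (nat_lit 309) (nat_lit 2) (nat_lit 0) (.node (.node (.node .nil (nat_lit 196) (nat_lit 671) (nat_lit 3) (nat_lit 0) .nil) (nat_lit 197) (nat_lit 848) (nat_lit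 8) (nat_lit 0) (.node .nil (nat_lit 198) (nat_lit 843) (nat_lit 0) (nat_lit 0) .nil)) (nat_lit 199) (nat_lit 842) (nat_lit 8) (nat_lit 0) (.node (.node .nil (nat_lit 200) (nat_lit 909) (nat_lit 6) (nat_lit 0) .nil) (nat_lit 201) (nat_lit 821) (nat_lit 5) (nat_lit 0) .nil)))) (nat_lit 202) (nat_lit 900) (nat_lit 7) (nat_lit 0) (.node (.node (.node (.node (.node .nil (nat_lit 203) (nat_lit 895) (nat_lit 6) (nat_lit 0) .nil) (nat_lit 204) (nat_lit 908) (nat_lit 1) (nat_lit 0) (.node .nil (nat_lit 205) (nat_lit 562) (nat_lit 9) (nat_lit 0) .nil)) (nat_lit 206) (nat_lit 293) (nat_lit 4) (nat_lit 0) (.node (.node .nil (nat_lit 207) (nat_lit 551) (nat_lit 9) (nat_lit 0) .nil) (nat_lit 208) (nat_lit 118) (nat_lit 11) (nat_lit 0) .nil)) (nat_lit 209) (nat_lit 314) (nat_lit 0) (nat_lit 0) (.node (.node (.node .nil (nat_lit 210) (nat_lit 647) (nat_lit 6) (nat_lit 0) .nil) (nat_lit 211) (nat_lit 654) (nat_lit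 2) (nat_lit 0) (.node .nil (nat_lit 212) (nat_lit 318) (nat_lit 4) (nat_lit 0) .nil)) (nat_lit 213) (nat_lit 437) (nat_lit 4) (nat_lit 0) (.node (.node .nil (nat_lit 214) (nat_lit 420) (nat_lit 8) (nat_lit 0) .nil) (nat_lit 215) (nat_lit 723) (nat_lit 0) (nat_lit 0) .nil))) (nat_lit 216) (nat_lit 726) (nat_lit 10) (nat_lit 0) (.node (.node (.node (.node .nil (nat_lit 217) (nat_lit 493) (nat_lit 2) (nat_lit 0) .nil) (nat_lit 218) (nat_lit 119) (nat_lit 5) (nat_lit 0) (.node .nil (nat_lit 219) (nat_lit 279) (nat_lit 10) (nat_lit 0) .nil)) (nat_lit 220) (nat_lit 503) (nat_lit 0) (nat_lit 0) (.node (.node .nil (nat_lit 221) (nat_lit 897) (nat_lit 2) (nat_lit 0) .nil) (nat_lit 222) (nat_lit 814) (nat_lit 10) (nat_lit 0) .nil)) (nat_lit 223) (nat_lit 864) (nat_lit 8) (nat_lit 0) (.node (.node (.node .nil (nat_lit 224) (nat_lit 142) (nat_lit 8) (nat_lit 0) .nil) (nat_lit 225) (nat_lit 663) (nat_lit 7) (nat_lit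 0) (.node .nil (nat_lit 226) (nat_lit 139) (nat_lit 9) (nat_lit 0) .nil)) (nat_lit 227) (nat_lit 595) (nat_lit 4) (nat_lit 0) (.node (.node .nil (nat_lit 228) (nat_lit 801) (nat_lit 4) (nat_lit 0) .nil) (nat_lit 229) (nat_lit 558) (nat_lit 4) (nat_lit 0) .nil))))))) (nat_lit 230) (nat_lit 440) (nat_lit 6) (nat_lit 0) (.node (.node (.node (.node (.node (.node (.node (.node .nil (nat_lit 231) (nat_lit 860) (nat_lit 4) (nat_lit 0) .nil) (nat_lit 232) (nat_lit 376) (nat_lit 8) (nat_lit 0) (.node .nil (nat_lit 233) (nat_lit 884) (nat_lit 3) (nat_lit 0) .nil)) (nat_lit 234) (nat_lit 146) (nat_lit 7) (nat_lit 0) (.node (.node .nil (nat_lit 235) (nat_lit 198) (nat_lit 6) (nat_lit 0) .nil) (nat_lit 236) (nat_lit 60) (nat_lit 2) (nat_lit 0) (.node .nil (nat_lit 237) (nat_lit 408) (nat_lit 3) (nat_lit 0) .nil))) (nat_lit 238) (nat_lit 261) (nat_lit 11) (nat_lit 0) (.node (.node (.node .nil (nat_lit 239) (nat_lit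 192) (nat_lit 7) (nat_lit 0) .nil) (nat_lit 240) (nat_lit 785) (nat_lit 7) (nat_lit 0) (.node .nil (nat_lit 241) (nat_lit 791) (nat_lit 5) (nat_lit 0) .nil)) (nat_lit 242) (nat_lit 893) (nat_lit 9) (nat_lit 0) (.node (.node .nil (nat_lit 243) (nat_lit 800) (nat_lit 5) (nat_lit 0) .nil) (nat_lit 244) (nat_lit 904) (nat_lit 7) (nat_lit 0) .nil))) (nat_lit 245) (nat_lit 312) (nat_lit 4) (nat_lit 0) (.node (.node (.node (.node .nil (nat_lit 246) (nat_lit 240) (nat_lit 5) (nat_lit 0) .nil) (nat_lit 247) (nat_lit 204) (nat_lit 1) (nat_lit 0) (.node .nil (nat_lit 248) (nat_lit 363) (nat_lit 2) (nat_lit 0) .nil)) (nat_lit 249) (nat_lit 86) (nat_lit 7) (nat_lit 0) (.node (.node .nil (nat_lit 250) (nat_lit 255) (nat_lit 5) (nat_lit 0) .nil) (nat_lit 251) (nat_lit 233) (nat_lit 10) (nat_lit 0) .nil)) (nat_lit 252) (nat_lit 243) (nat_lit 10) (nat_lit 0) (.node (.node (.node .nil (nat_lit 253) (nat_lit 148) (nat_lit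 10) (nat_lit 0) .nil) (nat_lit 254) (nat_lit 472) (nat_lit 5) (nat_lit 0) (.node .nil (nat_lit 255) (nat_lit 338) (nat_lit 6) (nat_lit 0) .nil)) (nat_lit 256) (nat_lit 575) (nat_lit 4) (nat_lit 0) (.node (.node .nil (nat_lit 257) (nat_lit 468) (nat_lit 9) (nat_lit 0) .nil) (nat_lit 258) (nat_lit 302) (nat_lit 10) (nat_lit 0) .nil)))) (nat_lit 259) (nat_lit 547) (nat_lit 5) (nat_lit 0) (.node (.node (.node (.node (.node .nil (nat_lit 260) (nat_lit 123) (nat_lit 2) (nat_lit 0) .nil) (nat_lit 261) (nat_lit 703) (nat_lit 4) (nat_lit 0) (.node .nil (nat_lit 262) (nat_lit 882) (nat_lit 8) (nat_lit 0) .nil)) (nat_lit 263) (nat_lit 506) (nat_lit 8) (nat_lit 0) (.node (.node .nil (nat_lit 264) (nat_lit 544) (nat_lit 3) (nat_lit 0) .nil) (nat_lit 265) (nat_lit 892) (nat_lit 6) (nat_lit 0) (.node .nil (nat_lit 266) (nat_lit 416) (nat_lit 1) (nat_lit 0) .nil))) (nat_lit 267) (nat_lit 281) (nat_lit 1) (nat_lit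 0) (.node (.node (.node .nil (nat_lit 268) (nat_lit 327) (nat_lit 9) (nat_lit 0) .nil) (nat_lit 269) (nat_lit 741) (nat_lit 9) (nat_lit 0) (.node .nil (nat_lit 270) (nat_lit 827) (nat_lit 3) (nat_lit 0) .nil)) (nat_lit 271) (nat_lit 869) (nat_lit 4) (nat_lit 0) (.node (.node .nil (nat_lit 272) (nat_lit 872) (nat_lit 8) (nat_lit 0) .nil) (nat_lit 273) (nat_lit 898) (nat_lit 8) (nat_lit 0) .nil))) (nat_lit 274) (nat_lit 916) (nat_lit 9) (nat_lit 0) (.node (.node (.node (.node .nil (nat_lit 275) (nat_lit 709) (nat_lit 9) (nat_lit 0) .nil) (nat_lit 276) (nat_lit 231) (nat_lit 11) (nat_lit 0) (.node .nil (nat_lit 277) (nat_lit 382) (nat_lit 3) (nat_lit 0) .nil)) (nat_lit 278) (nat_lit 624) (nat_lit 5) (nat_lit 0) (.node (.node .nil (nat_lit 279) (nat_lit 822) (nat_lit 8) (nat_lit 0) .nil) (nat_lit 280) (nat_lit 748) (nat_lit 1) (nat_lit 0) .nil)) (nat_lit 281) (nat_lit 291) (nat_lit 9) (nat_lit 0) (.node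 (.node (.node .nil (nat_lit 282) (nat_lit 360) (nat_lit 0) (nat_lit 0) .nil) (nat_lit 283) (nat_lit 348) (nat_lit 10) (nat_lit 0) (.node .nil (nat_lit 284) (nat_lit 857) (nat_lit 11) (nat_lit 0) .nil)) (nat_lit 285) (nat_lit 837) (nat_lit 0) (nat_lit 0) (.node (.node .nil (nat_lit 286) (nat_lit 14) (nat_lit 6) (nat_lit 0) .nil) (nat_lit 287) (nat_lit 607) (nat_lit 8) (nat_lit 0) .nil))))) (nat_lit 288) (nat_lit 520) (nat_lit 10) (nat_lit 0) (.node (.node (.node (.node (.node (.node .nil (nat_lit 289) (nat_lit 806) (nat_lit 0) (nat_lit 0) .nil) (nat_lit 290) (nat_lit 874) (nat_lit 6) (nat_lit 0) (.node .nil (nat_lit 291) (nat_lit 559) (nat_lit 11) (nat_lit 0) .nil)) (nat_lit 292) (nat_lit 406) (nat_lit 6) (nat_lit 0) (.node (.node .nil (nat_lit 293) (nat_lit 61) (nat_lit 4) (nat_lit 0) .nil) (nat_lit 294) (nat_lit 856) (nat_lit 7) (nat_lit 0) (.node .nil (nat_lit 295) (nat_lit 701) (nat_lit 0) (nat_lit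 0) .nil))) (nat_lit 296) (nat_lit 379) (nat_lit 4) (nat_lit 0) (.node (.node (.node .nil (nat_lit 297) (nat_lit 252) (nat_lit 7) (nat_lit 0) .nil) (nat_lit 298) (nat_lit 371) (nat_lit 10) (nat_lit 0) (.node .nil (nat_lit 299) (nat_lit 413) (nat_lit 4) (nat_lit 0) .nil)) (nat_lit 300) (nat_lit 359) (nat_lit 9) (nat_lit 0) (.node (.node .nil (nat_lit 301) (nat_lit 287) (nat_lit 5) (nat_lit 0) .nil) (nat_lit 302) (nat_lit 166) (nat_lit 2) (nat_lit 0) .nil))) (nat_lit 303) (nat_lit 51) (nat_lit 0) (nat_lit 0) (.node (.node (.node (.node .nil (nat_lit 304) (nat_lit 868) (nat_lit 6) (nat_lit 0) .nil) (nat_lit 305) (nat_lit 811) (nat_lit 0) (nat_lit 0) (.node .nil (nat_lit 306) (nat_lit 804) (nat_lit 7) (nat_lit 0) .nil)) (nat_lit 307) (nat_lit 284) (nat_lit 3) (nat_lit 0) (.node (.node .nil (nat_lit 308) (nat_lit 495) (nat_lit 10) (nat_lit 0) .nil) (nat_lit 309) (nat_lit 838) (nat_lit 4) (nat_lit 0) .nil))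 (nat_lit 310) (nat_lit 82) (nat_lit 9) (nat_lit 0) (.node (.node (.node .nil (nat_lit 311) (nat_lit 167) (nat_lit 0) (nat_lit 0) .nil) (nat_lit 312) (nat_lit 871) (nat_lit 10) (nat_lit 0) (.node .nil (nat_lit 313) (nat_lit 790) (nat_lit 6) (nat_lit 0) .nil)) (nat_lit 314) (nat_lit 39) (nat_lit 2) (nat_lit 0) (.node (.node .nil (nat_lit 315) (nat_lit 633) (nat_lit 2) (nat_lit 0) .nil) (nat_lit 316) (nat_lit 713) (nat_lit 8) (nat_lit 0) .nil)))) (nat_lit 317) (nat_lit 93) (nat_lit 7) (nat_lit 0) (.node (.node (.node (.node (.node .nil (nat_lit 318) (nat_lit 30) (nat_lit 6) (nat_lit 0) .nil) (nat_lit 319) (nat_lit 907) (nat_lit 8) (nat_lit 0) (.node .nil (nat_lit 320) (nat_lit 880) (nat_lit 0) (nat_lit 0) .nil)) (nat_lit 321) (nat_lit 667) (nat_lit 0) (nat_lit 0) (.node (.node .nil (nat_lit 322) (nat_lit 399) (nat_lit 3) (nat_lit 0) .nil) (nat_lit 323) (nat_lit 454) (nat_lit 7) (nat_lit 0) .nil)) (nat_lit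 324) (nat_lit 404) (nat_lit 10) (nat_lit 0) (.node (.node (.node .nil (nat_lit 325) (nat_lit 505) (nat_lit 7) (nat_lit 0) .nil) (nat_lit 326) (nat_lit 385) (nat_lit 7) (nat_lit 0) (.node .nil (nat_lit 327) (nat_lit 315) (nat_lit 0) (nat_lit 0) .nil)) (nat_lit 328) (nat_lit 358) (nat_lit 10) (nat_lit 0) (.node (.node .nil (nat_lit 329) (nat_lit 478) (nat_lit 2) (nat_lit 0) .nil) (nat_lit 330) (nat_lit 903) (nat_lit 0) (nat_lit 0) .nil))) (nat_lit 331) (nat_lit 793) (nat_lit 11) (nat_lit 0) (.node (.node (.node (.node .nil (nat_lit 332) (nat_lit 859) (nat_lit 11) (nat_lit 0) .nil) (nat_lit 333) (nat_lit 851) (nat_lit 10) (nat_lit 0) (.node .nil (nat_lit 334) (nat_lit 54) (nat_lit 11) (nat_lit 0) .nil)) (nat_lit 335) (nat_lit 758) (nat_lit 7) (nat_lit 0) (.node (.node .nil (nat_lit 336) (nat_lit 537) (nat_lit 2) (nat_lit 0) .nil) (nat_lit 337) (nat_lit 657) (nat_lit 5) (nat_lit 0) .nil)) (nat_lit 338)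 (nat_lit 368) (nat_lit 10) (nat_lit 0) (.node (.node (.node .nil (nat_lit 339) (nat_lit 294) (nat_lit 4) (nat_lit 0) .nil) (nat_lit 340) (nat_lit 445) (nat_lit 10) (nat_lit 0) (.node .nil (nat_lit 341) (nat_lit 202) (nat_lit 8) (nat_lit 0) .nil)) (nat_lit 342) (nat_lit 476) (nat_lit 4) (nat_lit 0) (.node (.node .nil (nat_lit 343) (nat_lit 594) (nat_lit 4) (nat_lit 0) .nil) (nat_lit 344) (nat_lit 455) (nat_lit 7) (nat_lit 0) .nil)))))) (nat_lit 345) (nat_lit 889) (nat_lit 3) (nat_lit 0) (.node (.node (.node (.node (.node (.node (.node .nil (nat_lit 346) (nat_lit 451) (nat_lit 0) (nat_lit 0) .nil) (nat_lit 347) (nat_lit 784) (nat_lit 6) (nat_lit 0) (.node .nil (nat_lit 348) (nat_lit 165) (nat_lit 4) (nat_lit 0) .nil)) (nat_lit 349) (nat_lit 349) (nat_lit 3) (nat_lit 0) (.node (.node .nil (nat_lit 350) (nat_lit 850) (nat_lit 10) (nat_lit 0) .nil) (nat_lit 351) (nat_lit 191) (nat_lit 8) (nat_lit 0) (.node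 .nil (nat_lit 352) (nat_lit 104) (nat_lit 9) (nat_lit 0) .nil))) (nat_lit 353) (nat_lit 304) (nat_lit 3) (nat_lit 0) (.node (.node (.node .nil (nat_lit 354) (nat_lit 844) (nat_lit 7) (nat_lit 0) .nil) (nat_lit 355) (nat_lit 714) (nat_lit 1) (nat_lit 0) (.node .nil (nat_lit 356) (nat_lit 322) (nat_lit 0) (nat_lit 0) .nil)) (nat_lit 357) (nat_lit 847) (nat_lit 7) (nat_lit 0) (.node (.node .nil (nat_lit 358) (nat_lit 453) (nat_lit 0) (nat_lit 0) .nil) (nat_lit 359) (nat_lit 181) (nat_lit 7) (nat_lit 0) .nil))) (nat_lit 360) (nat_lit 396) (nat_lit 10) (nat_lit 0) (.node (.node (.node (.node .nil (nat_lit 361) (nat_lit 163) (nat_lit 9) (nat_lit 0) .nil) (nat_lit 362) (nat_lit 456) (nat_lit 6) (nat_lit 0) (.node .nil (nat_lit 363) (nat_lit 380) (nat_lit 1) (nat_lit 0) .nil)) (nat_lit 364) (nat_lit 515) (nat_lit 1) (nat_lit 0) (.node (.node .nil (nat_lit 365) (nat_lit 270) (nat_lit 8) (nat_lit 0) .nil) (nat_lit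 366) (nat_lit 447) (nat_lit 6) (nat_lit 0) .nil)) (nat_lit 367) (nat_lit 155) (nat_lit 0) (nat_lit 0) (.node (.node (.node .nil (nat_lit 368) (nat_lit 660) (nat_lit 7) (nat_lit 0) .nil) (nat_lit 369) (nat_lit 642) (nat_lit 10) (nat_lit 0) (.node .nil (nat_lit 370) (nat_lit 351) (nat_lit 4) (nat_lit 0) .nil)) (nat_lit 371) (nat_lit 527) (nat_lit 4) (nat_lit 0) (.node (.node .nil (nat_lit 372) (nat_lit 592) (nat_lit 3) (nat_lit 0) .nil) (nat_lit 373) (nat_lit 37) (nat_lit 2) (nat_lit 0) .nil)))) (nat_lit 374) (nat_lit 35) (nat_lit 9) (nat_lit 0) (.node (.node (.node (.node (.node .nil (nat_lit 375) (nat_lit 611) (nat_lit 7) (nat_lit 0) .nil) (nat_lit 376) (nat_lit 665) (nat_lit 3) (nat_lit 0) (.node .nil (nat_lit 377) (nat_lit 136) (nat_lit 9) (nat_lit 0) .nil)) (nat_lit 378) (nat_lit 92) (nat_lit 7) (nat_lit 0) (.node (.node .nil (nat_lit 379) (nat_lit 676) (nat_lit 4) (nat_lit 0) .nil) (nat_lit 380)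 (nat_lit 735) (nat_lit 1) (nat_lit 0) (.node .nil (nat_lit 381) (nat_lit 242) (nat_lit 0) (nat_lit 0) .nil))) (nat_lit 382) (nat_lit 526) (nat_lit 2) (nat_lit 0) (.node (.node (.node .nil (nat_lit 383) (nat_lit 241) (nat_lit 9) (nat_lit 0) .nil) (nat_lit 384) (nat_lit 210) (nat_lit 8) (nat_lit 0) (.node .nil (nat_lit 385) (nat_lit 675) (nat_lit 8) (nat_lit 0) .nil)) (nat_lit 386) (nat_lit 465) (nat_lit 7) (nat_lit 0) (.node (.node .nil (nat_lit 387) (nat_lit 278) (nat_lit 1) (nat_lit 0) .nil) (nat_lit 388) (nat_lit 727) (nat_lit 1) (nat_lit 0) .nil))) (nat_lit 389) (nat_lit 343) (nat_lit 5) (nat_lit 0) (.node (.node (.node (.node .nil (nat_lit 390) (nat_lit 621) (nat_lit 6) (nat_lit 0) .nil) (nat_lit 391) (nat_lit 417) (nat_lit 2) (nat_lit 0) (.node .nil (nat_lit 392) (nat_lit 849) (nat_lit 2) (nat_lit 0) .nil)) (nat_lit 393) (nat_lit 631) (nat_lit 2) (nat_lit 0) (.node (.node .nil (nat_lit 394) (nat_lit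 107) (nat_lit 3) (nat_lit 0) .nil) (nat_lit 395) (nat_lit 568) (nat_lit 5) (nat_lit 0) .nil)) (nat_lit 396) (nat_lit 59) (nat_lit 11) (nat_lit 0) (.node (.node (.node .nil (nat_lit 397) (nat_lit 896) (nat_lit 7) (nat_lit 0) .nil) (nat_lit 398) (nat_lit 367) (nat_lit 2) (nat_lit 0) (.node .nil (nat_lit 399) (nat_lit 561) (nat_lit 1) (nat_lit 0) .nil)) (nat_lit 400) (nat_lit 610) (nat_lit 0) (nat_lit 0) (.node (.node .nil (nat_lit 401) (nat_lit 122) (nat_lit 0) (nat_lit 0) .nil) (nat_lit 402) (nat_lit 78) (nat_lit 3) (nat_lit 0) .nil))))) (nat_lit 403) (nat_lit 381) (nat_lit 3) (nat_lit 0) (.node (.node (.node (.node (.node (.node .nil (nat_lit 404) (nat_lit 177) (nat_lit 7) (nat_lit 0) .nil) (nat_lit 405) (nat_lit 613) (nat_lit 2) (nat_lit 0) (.node .nil (nat_lit 406) (nat_lit 438) (nat_lit 6) (nat_lit 0) .nil)) (nat_lit 407) (nat_lit 686) (nat_lit 0) (nat_lit 0) (.node (.node .nil (nat_lit 408) (nat_lit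 442) (nat_lit 2) (nat_lit 0) .nil) (nat_lit 409) (nat_lit 185) (nat_lit 5) (nat_lit 0) (.node .nil (nat_lit 410) (nat_lit 405) (nat_lit 9) (nat_lit 0) .nil))) (nat_lit 411) (nat_lit 866) (nat_lit 8) (nat_lit 0) (.node (.node (.node .nil (nat_lit 412) (nat_lit 342) (nat_lit 10) (nat_lit 0) .nil) (nat_lit 413) (nat_lit 124) (nat_lit 7) (nat_lit 0) (.node .nil (nat_lit 414) (nat_lit 365) (nat_lit 0) (nat_lit 0) .nil)) (nat_lit 415) (nat_lit 731) (nat_lit 0) (nat_lit 0) (.node (.node .nil (nat_lit 416) (nat_lit 391) (nat_lit 6) (nat_lit 0) .nil) (nat_lit 417) (nat_lit 481) (nat_lit 8) (nat_lit 0) .nil))) (nat_lit 418) (nat_lit 229) (nat_lit 6) (nat_lit 0) (.node (.node (.node (.node .nil (nat_lit 419) (nat_lit 244) (nat_lit 11) (nat_lit 0) .nil) (nat_lit 420) (nat_lit 736) (nat_lit 7) (nat_lit 0) (.node .nil (nat_lit 421) (nat_lit 206) (nat_lit 9) (nat_lit 0) .nil)) (nat_lit 422) (nat_lit 529) (nat_lit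 3) (nat_lit 0) (.node (.node .nil (nat_lit 423) (nat_lit 66) (nat_lit 2) (nat_lit 0) .nil) (nat_lit 424) (nat_lit 477) (nat_lit 10) (nat_lit 0) .nil)) (nat_lit 425) (nat_lit 353) (nat_lit 3) (nat_lit 0) (.node (.node (.node .nil (nat_lit 426) (nat_lit 246) (nat_lit 8) (nat_lit 0) .nil) (nat_lit 427) (nat_lit 280) (nat_lit 4) (nat_lit 0) (.node .nil (nat_lit 428) (nat_lit 223) (nat_lit 9) (nat_lit 0) .nil)) (nat_lit 429) (nat_lit 205) (nat_lit 3) (nat_lit 0) (.node (.node .nil (nat_lit 430) (nat_lit 446) (nat_lit 6) (nat_lit 0) .nil) (nat_lit 431) (nat_lit 587) (nat_lit 1) (nat_lit 0) .nil)))) (nat_lit 432) (nat_lit 254) (nat_lit 10) (nat_lit 0) (.node (.node (.node (.node (.node .nil (nat_lit 433) (nat_lit 208) (nat_lit 11) (nat_lit 0) .nil) (nat_lit 434) (nat_lit 90) (nat_lit 3) (nat_lit 0) (.node .nil (nat_lit 435) (nat_lit 470) (nat_lit 10) (nat_lit 0) .nil)) (nat_lit 436) (nat_lit 403) (nat_lit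 5) (nat_lit 0) (.node (.node .nil (nat_lit 437) (nat_lit 387) (nat_lit 5) (nat_lit 0) .nil) (nat_lit 438) (nat_lit 604) (nat_lit 6) (nat_lit 0) .nil)) (nat_lit 439) (nat_lit 740) (nat_lit 10) (nat_lit 0) (.node (.node (.node .nil (nat_lit 440) (nat_lit 628) (nat_lit 0) (nat_lit 0) .nil) (nat_lit 441) (nat_lit 288) (nat_lit 4) (nat_lit 0) (.node .nil (nat_lit 442) (nat_lit 460) (nat_lit 5) (nat_lit 0) .nil)) (nat_lit 443) (nat_lit 746) (nat_lit 11) (nat_lit 0) (.node (.node .nil (nat_lit 444) (nat_lit 521) (nat_lit 11) (nat_lit 0) .nil) (nat_lit 445) (nat_lit 754) (nat_lit 7) (nat_lit 0) .nil))) (nat_lit 446) (nat_lit 414) (nat_lit 8) (nat_lit 0) (.node (.node (.node (.node .nil (nat_lit 447) (nat_lit 20) (nat_lit 4) (nat_lit 0) .nil) (nat_lit 448) (nat_lit 545) (nat_lit 2) (nat_lit 0) (.node .nil (nat_lit 449) (nat_lit 742) (nat_lit 0) (nat_lit 0) .nil)) (nat_lit 450) (nat_lit 489) (nat_lit 2) (nat_lit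 0) (.node (.node .nil (nat_lit 451) (nat_lit 670) (nat_lit 3) (nat_lit 0) .nil) (nat_lit 452) (nat_lit 347) (nat_lit 4) (nat_lit 0) .nil)) (nat_lit 453) (nat_lit 510) (nat_lit 6) (nat_lit 0) (.node (.node (.node .nil (nat_lit 454) (nat_lit 19) (nat_lit 0) (nat_lit 0) .nil) (nat_lit 455) (nat_lit 588) (nat_lit 4) (nat_lit 0) (.node .nil (nat_lit 456) (nat_lit 591) (nat_lit 0) (nat_lit 0) .nil)) (nat_lit 457) (nat_lit 277) (nat_lit 0) (nat_lit 0) (.node (.node .nil (nat_lit 458) (nat_lit 16) (nat_lit 10) (nat_lit 0) .nil) (nat_lit 459) (nat_lit 616) (nat_lit 4) (nat_lit 0) .nil)))))))) (nat_lit 460) (nat_lit 429) (nat_lit 0) (nat_lit 0) (.node (.node (.node (.node (.node (.node (.node (.node (.node .nil (nat_lit 461) (nat_lit 474) (nat_lit 0) (nat_lit 0) .nil) (nat_lit 462) (nat_lit 114) (nat_lit 2) (nat_lit 0) (.node .nil (nat_lit 463) (nat_lit 556) (nat_lit 10) (nat_lit 0) .nil)) (nat_lit 464) (nat_lit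 644) (nat_lit 3) (nat_lit 0) (.node (.node .nil (nat_lit 465) (nat_lit 168) (nat_lit 9) (nat_lit 0) .nil) (nat_lit 466) (nat_lit 141) (nat_lit 10) (nat_lit 0) (.node .nil (nat_lit 467) (nat_lit 576) (nat_lit 5) (nat_lit 0) .nil))) (nat_lit 468) (nat_lit 340) (nat_lit 9) (nat_lit 0) (.node (.node (.node .nil (nat_lit 469) (nat_lit 820) (nat_lit 0) (nat_lit 0) .nil) (nat_lit 470) (nat_lit 721) (nat_lit 0) (nat_lit 0) (.node .nil (nat_lit 471) (nat_lit 395) (nat_lit 2) (nat_lit 0) .nil)) (nat_lit 472) (nat_lit 614) (nat_lit 3) (nat_lit 0) (.node (.node .nil (nat_lit 473) (nat_lit 861) (nat_lit 7) (nat_lit 0) .nil) (nat_lit 474) (nat_lit 134) (nat_lit 10) (nat_lit 0) .nil))) (nat_lit 475) (nat_lit 760) (nat_lit 0) (nat_lit 0) (.node (.node (.node (.node .nil (nat_lit 476) (nat_lit 836) (nat_lit 4) (nat_lit 0) .nil) (nat_lit 477) (nat_lit 410) (nat_lit 11) (nat_lit 0) (.node .nil (nat_lit 478) (nat_lit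 582) (nat_lit 5) (nat_lit 0) .nil)) (nat_lit 479) (nat_lit 480) (nat_lit 0) (nat_lit 0) (.node (.node .nil (nat_lit 480) (nat_lit 289) (nat_lit 2) (nat_lit 0) .nil) (nat_lit 481) (nat_lit 228) (nat_lit 9) (nat_lit 0) .nil)) (nat_lit 482) (nat_lit 483) (nat_lit 11) (nat_lit 0) (.node (.node (.node .nil (nat_lit 483) (nat_lit 101) (nat_lit 8) (nat_lit 0) .nil) (nat_lit 484) (nat_lit 306) (nat_lit 2) (nat_lit 0) (.node .nil (nat_lit 485) (nat_lit 178) (nat_lit 0) (nat_lit 0) .nil)) (nat_lit 486) (nat_lit 71) (nat_lit 6) (nat_lit 0) (.node (.node .nil (nat_lit 487) (nat_lit 299) (nat_lit 7) (nat_lit 0) .nil) (nat_lit 488) (nat_lit 599) (nat_lit 10) (nat_lit 0) .nil)))) (nat_lit 489) (nat_lit 841) (nat_lit 0) (nat_lit 0) (.node (.node (.node (.node (.node .nil (nat_lit 490) (nat_lit 883) (nat_lit 7) (nat_lit 0) .nil) (nat_lit 491) (nat_lit 810) (nat_lit 9) (nat_lit 0) (.node .nil (nat_lit 492) (nat_lit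 220) (nat_lit 2) (nat_lit 0) .nil)) (nat_lit 493) (nat_lit 411) (nat_lit 1) (nat_lit 0) (.node (.node .nil (nat_lit 494) (nat_lit 418) (nat_lit 8) (nat_lit 0) .nil) (nat_lit 495) (nat_lit 666) (nat_lit 2) (nat_lit 0) (.node .nil (nat_lit 496) (nat_lit 361) (nat_lit 1) (nat_lit 0) .nil))) (nat_lit 497) (nat_lit 230) (nat_lit 2) (nat_lit 0) (.node (.node (.node .nil (nat_lit 498) (nat_lit 218) (nat_lit 8) (nat_lit 0) .nil) (nat_lit 499) (nat_lit 390) (nat_lit 7) (nat_lit 0) (.node .nil (nat_lit 500) (nat_lit 344) (nat_lit 9) (nat_lit 0) .nil)) (nat_lit 501) (nat_lit 560) (nat_lit 9) (nat_lit 0) (.node (.node .nil (nat_lit 502) (nat_lit 384) (nat_lit 7) (nat_lit 0) .nil) (nat_lit 503) (nat_lit 182) (nat_lit 8) (nat_lit 0) .nil))) (nat_lit 504) (nat_lit 305) (nat_lit 11) (nat_lit 0) (.node (.node (.node (.node .nil (nat_lit 505) (nat_lit 430) (nat_lit 4) (nat_lit 0) .nil) (nat_lit 506) (nat_lit 825) (nat_lit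 11) (nat_lit 0) (.node .nil (nat_lit 507) (nat_lit 808) (nat_lit 9) (nat_lit 0) .nil)) (nat_lit 508) (nat_lit 69) (nat_lit 1) (nat_lit 0) (.node (.node .nil (nat_lit 509) (nat_lit 388) (nat_lit 1) (nat_lit 0) .nil) (nat_lit 510) (nat_lit 286) (nat_lit 10) (nat_lit 0) .nil)) (nat_lit 511) (nat_lit 68) (nat_lit 0) (nat_lit 0) (.node (.node (.node .nil (nat_lit 512) (nat_lit 350) (nat_lit 0) (nat_lit 0) .nil) (nat_lit 513) (nat_lit 673) (nat_lit 8) (nat_lit 0) (.node .nil (nat_lit 514) (nat_lit 590) (nat_lit 5) (nat_lit 0) .nil)) (nat_lit 515) (nat_lit 858) (nat_lit 7) (nat_lit 0) (.node (.node .nil (nat_lit 516) (nat_lit 482) (nat_lit 5) (nat_lit 0) .nil) (nat_lit 517) (nat_lit 645) (nat_lit 6) (nat_lit 0) .nil))))) (nat_lit 518) (nat_lit 567) (nat_lit 4) (nat_lit 0) (.node (.node (.node (.node (.node (.node .nil (nat_lit 519) (nat_lit 264) (nat_lit 4) (nat_lit 0) .nil) (nat_lit 520) (nat_lit 157) (nat_lit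 6) (nat_lit 0) (.node .nil (nat_lit 521) (nat_lit 253) (nat_lit 7) (nat_lit 0) .nil)) (nat_lit 522) (nat_lit 224) (nat_lit 9) (nat_lit 0) (.node (.node .nil (nat_lit 523) (nat_lit 143) (nat_lit 7) (nat_lit 0) .nil) (nat_lit 524) (nat_lit 56) (nat_lit 7) (nat_lit 0) (.node .nil (nat_lit 525) (nat_lit 10) (nat_lit 11) (nat_lit 0) .nil))) (nat_lit 526) (nat_lit 102) (nat_lit 0) (nat_lit 0) (.node (.node (.node .nil (nat_lit 527) (nat_lit 70) (nat_lit 7) (nat_lit 0) .nil) (nat_lit 528) (nat_lit 151) (nat_lit 6) (nat_lit 0) (.node .nil (nat_lit 529) (nat_lit 809) (nat_lit 3) (nat_lit 0) .nil)) (nat_lit 530) (nat_lit 2) (nat_lit 3) (nat_lit 0) (.node (.node .nil (nat_lit 531) (nat_lit 433) (nat_lit 3) (nat_lit 0) .nil) (nat_lit 532) (nat_lit 156) (nat_lit 11) (nat_lit 0) .nil))) (nat_lit 533) (nat_lit 816) (nat_lit 7) (nat_lit 0) (.node (.node (.node (.node .nil (nat_lit 534) (nat_lit 50) (nat_lit 0) (nat_lit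 0) .nil) (nat_lit 535) (nat_lit 232) (nat_lit 9) (nat_lit 0) (.node .nil (nat_lit 536) (nat_lit 516) (nat_lit 2) (nat_lit 0) .nil)) (nat_lit 537) (nat_lit 292) (nat_lit 4) (nat_lit 0) (.node (.node .nil (nat_lit 538) (nat_lit 162) (nat_lit 0) (nat_lit 0) .nil) (nat_lit 539) (nat_lit 248) (nat_lit 9) (nat_lit 0) .nil)) (nat_lit 540) (nat_lit 690) (nat_lit 4) (nat_lit 0) (.node (.node (.node .nil (nat_lit 541) (nat_lit 919) (nat_lit 0) (nat_lit 0) .nil) (nat_lit 542) (nat_lit 435) (nat_lit 6) (nat_lit 0) (.node .nil (nat_lit 543) (nat_lit 412) (nat_lit 9) (nat_lit 0) .nil)) (nat_lit 544) (nat_lit 507) (nat_lit 9) (nat_lit 0) (.node (.node .nil (nat_lit 545) (nat_lit 193) (nat_lit 2) (nat_lit 0) .nil) (nat_lit 546) (nat_lit 873) (nat_lit 8) (nat_lit 0) .nil)))) (nat_lit 547) (nat_lit 237) (nat_lit 0) (nat_lit 0) (.node (.node (.node (.node (.node .nil (nat_lit 548) (nat_lit 730) (nat_lit 4) (nat_lit 0)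 .nil) (nat_lit 549) (nat_lit 745) (nat_lit 0) (nat_lit 0) (.node .nil (nat_lit 550) (nat_lit 757) (nat_lit 10) (nat_lit 0) .nil)) (nat_lit 551) (nat_lit 159) (nat_lit 2) (nat_lit 0) (.node (.node .nil (nat_lit 552) (nat_lit 768) (nat_lit 6) (nat_lit 0) .nil) (nat_lit 553) (nat_lit 826) (nat_lit 11) (nat_lit 0) .nil)) (nat_lit 554) (nat_lit 688) (nat_lit 5) (nat_lit 0) (.node (.node (.node .nil (nat_lit 555) (nat_lit 636) (nat_lit 5) (nat_lit 0) .nil) (nat_lit 556) (nat_lit 449) (nat_lit 10) (nat_lit 0) (.node .nil (nat_lit 557) (nat_lit 712) (nat_lit 10) (nat_lit 0) .nil)) (nat_lit 558) (nat_lit 722) (nat_lit 1) (nat_lit 0) (.node (.node .nil (nat_lit 559) (nat_lit 684) (nat_lit 2) (nat_lit 0) .nil) (nat_lit 560) (nat_lit 491) (nat_lit 9) (nat_lit 0) .nil))) (nat_lit 561) (nat_lit 34) (nat_lit 4) (nat_lit 0) (.node (.node (.node (.node .nil (nat_lit 562) (nat_lit 25) (nat_lit 5) (nat_lit 0) .nil) (nat_lit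 563) (nat_lit 597) (nat_lit 8) (nat_lit 0) (.node .nil (nat_lit 564) (nat_lit 283) (nat_lit 2) (nat_lit 0) .nil)) (nat_lit 565) (nat_lit 778) (nat_lit 11) (nat_lit 0) (.node (.node .nil (nat_lit 566) (nat_lit 272) (nat_lit 9) (nat_lit 0) .nil) (nat_lit 567) (nat_lit 97) (nat_lit 3) (nat_lit 0) .nil)) (nat_lit 568) (nat_lit 372) (nat_lit 6) (nat_lit 0) (.node (.node (.node .nil (nat_lit 569) (nat_lit 21) (nat_lit 11) (nat_lit 0) .nil) (nat_lit 570) (nat_lit 522) (nat_lit 9) (nat_lit 0) (.node .nil (nat_lit 571) (nat_lit 641) (nat_lit 8) (nat_lit 0) .nil)) (nat_lit 572) (nat_lit 680) (nat_lit 0) (nat_lit 0) (.node (.node .nil (nat_lit 573) (nat_lit 702) (nat_lit 0) (nat_lit 0) .nil) (nat_lit 574) (nat_lit 52) (nat_lit 2) (nat_lit 0) .nil)))))) (nat_lit 575) (nat_lit 674) (nat_lit 1) (nat_lit 0) (.node (.node (.node (.node (.node (.node (.node .nil (nat_lit 576) (nat_lit 116) (nat_lit 10) (nat_lit 0)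 .nil) (nat_lit 577) (nat_lit 549) (nat_lit 1) (nat_lit 0) (.node .nil (nat_lit 578) (nat_lit 105) (nat_lit 1) (nat_lit 0) .nil)) (nat_lit 579) (nat_lit 196) (nat_lit 11) (nat_lit 0) (.node (.node .nil (nat_lit 580) (nat_lit 7) (nat_lit 8) (nat_lit 0) .nil) (nat_lit 581) (nat_lit 13) (nat_lit 6) (nat_lit 0) (.node .nil (nat_lit 582) (nat_lit 23) (nat_lit 9) (nat_lit 0) .nil))) (nat_lit 583) (nat_lit 44) (nat_lit 8) (nat_lit 0) (.node (.node (.node .nil (nat_lit 584) (nat_lit 625) (nat_lit 9) (nat_lit 0) .nil) (nat_lit 585) (nat_lit 113) (nat_lit 4) (nat_lit 0) (.node .nil (nat_lit 586) (nat_lit 194) (nat_lit 4) (nat_lit 0) .nil)) (nat_lit 587) (nat_lit 203) (nat_lit 1) (nat_lit 0) (.node (.node .nil (nat_lit 588) (nat_lit 268) (nat_lit 7) (nat_lit 0) .nil) (nat_lit 589) (nat_lit 805) (nat_lit 4) (nat_lit 0) .nil))) (nat_lit 590) (nat_lit 11) (nat_lit 0) (nat_lit 0) (.node (.node (.node (.node .nil (nat_lit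 591) (nat_lit 443) (nat_lit 0) (nat_lit 0) .nil) (nat_lit 592) (nat_lit 579) (nat_lit 3) (nat_lit 0) (.node .nil (nat_lit 593) (nat_lit 706) (nat_lit 4) (nat_lit 0) .nil)) (nat_lit 594) (nat_lit 1) (nat_lit 9) (nat_lit 0) (.node (.node .nil (nat_lit 595) (nat_lit 152) (nat_lit 6) (nat_lit 0) .nil) (nat_lit 596) (nat_lit 366) (nat_lit 6) (nat_lit 0) .nil)) (nat_lit 597) (nat_lit 747) (nat_lit 5) (nat_lit 0) (.node (.node (.node .nil (nat_lit 598) (nat_lit 577) (nat_lit 8) (nat_lit 0) .nil) (nat_lit 599) (nat_lit 28) (nat_lit 0) (nat_lit 0) (.node .nil (nat_lit 600) (nat_lit 140) (nat_lit 7) (nat_lit 0) .nil)) (nat_lit 601) (nat_lit 603) (nat_lit 1) (nat_lit 0) (.node (.node .nil (nat_lit 602) (nat_lit 518) (nat_lit 7) (nat_lit 0) .nil) (nat_lit 603) (nat_lit 145) (nat_lit 5) (nat_lit 0) .nil)))) (nat_lit 604) (nat_lit 236) (nat_lit 8) (nat_lit 0) (.node (.node (.node (.node (.node .nil (nat_lit 605)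 (nat_lit 296) (nat_lit 11) (nat_lit 0) .nil) (nat_lit 606) (nat_lit 227) (nat_lit 9) (nat_lit 0) (.node .nil (nat_lit 607) (nat_lit 855) (nat_lit 3) (nat_lit 0) .nil)) (nat_lit 608) (nat_lit 269) (nat_lit 9) (nat_lit 0) (.node (.node .nil (nat_lit 609) (nat_lit 761) (nat_lit 11) (nat_lit 0) .nil) (nat_lit 610) (nat_lit 580) (nat_lit 11) (nat_lit 0) (.node .nil (nat_lit 611) (nat_lit 542) (nat_lit 0) (nat_lit 0) .nil))) (nat_lit 612) (nat_lit 24) (nat_lit 11) (nat_lit 0) (.node (.node (.node .nil (nat_lit 613) (nat_lit 17) (nat_lit 1) (nat_lit 0) .nil) (nat_lit 614) (nat_lit 600) (nat_lit 3) (nat_lit 0) (.node .nil (nat_lit 615) (nat_lit 708) (nat_lit 11) (nat_lit 0) .nil)) (nat_lit 616) (nat_lit 234) (nat_lit 9) (nat_lit 0) (.node (.node .nil (nat_lit 617) (nat_lit 18) (nat_lit 10) (nat_lit 0) .nil) (nat_lit 618) (nat_lit 130) (nat_lit 11) (nat_lit 0) .nil))) (nat_lit 619) (nat_lit 87) (nat_lit 1)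 (nat_lit 0) (.node (.node (.node (.node .nil (nat_lit 620) (nat_lit 41) (nat_lit 10) (nat_lit 0) .nil) (nat_lit 621) (nat_lit 108) (nat_lit 5) (nat_lit 0) (.node .nil (nat_lit 622) (nat_lit 308) (nat_lit 7) (nat_lit 0) .nil)) (nat_lit 623) (nat_lit 99) (nat_lit 10) (nat_lit 0) (.node (.node .nil (nat_lit 624) (nat_lit 415) (nat_lit 4) (nat_lit 0) .nil) (nat_lit 625) (nat_lit 9) (nat_lit 4) (nat_lit 0) .nil)) (nat_lit 626) (nat_lit 201) (nat_lit 5) (nat_lit 0) (.node (.node (.node .nil (nat_lit 627) (nat_lit 662) (nat_lit 10) (nat_lit 0) .nil) (nat_lit 628) (nat_lit 307) (nat_lit 1) (nat_lit 0) (.node .nil (nat_lit 629) (nat_lit 634) (nat_lit 8) (nat_lit 0) .nil)) (nat_lit 630) (nat_lit 135) (nat_lit 7) (nat_lit 0) (.node (.node .nil (nat_lit 631) (nat_lit 606) (nat_lit 10) (nat_lit 0) .nil) (nat_lit 632) (nat_lit 4) (nat_lit 7) (nat_lit 0) .nil))))) (nat_lit 633) (nat_lit 321) (nat_lit 4) (nat_lit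 0) (.node (.node (.node (.node (.node (.node .nil (nat_lit 634) (nat_lit 131) (nat_lit 11) (nat_lit 0) .nil) (nat_lit 635) (nat_lit 195) (nat_lit 0) (nat_lit 0) (.node .nil (nat_lit 636) (nat_lit 200) (nat_lit 9) (nat_lit 0) .nil)) (nat_lit 637) (nat_lit 605) (nat_lit 9) (nat_lit 0) (.node (.node .nil (nat_lit 638) (nat_lit 530) (nat_lit 11) (nat_lit 0) .nil) (nat_lit 639) (nat_lit 100) (nat_lit 11) (nat_lit 0) (.node .nil (nat_lit 640) (nat_lit 310) (nat_lit 9) (nat_lit 0) .nil))) (nat_lit 641) (nat_lit 88) (nat_lit 6) (nat_lit 0) (.node (.node (.node .nil (nat_lit 642) (nat_lit 355) (nat_lit 5) (nat_lit 0) .nil) (nat_lit 643) (nat_lit 502) (nat_lit 9) (nat_lit 0) (.node .nil (nat_lit 644) (nat_lit 720) (nat_lit 9) (nat_lit 0) .nil)) (nat_lit 645) (nat_lit 487) (nat_lit 4) (nat_lit 0) (.node (.node .nil (nat_lit 646) (nat_lit 459) (nat_lit 10) (nat_lit 0) .nil) (nat_lit 647) (nat_lit 548) (nat_lit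 4) (nat_lit 0) .nil))) (nat_lit 648) (nat_lit 72) (nat_lit 7) (nat_lit 0) (.node (.node (.node (.node .nil (nat_lit 649) (nat_lit 546) (nat_lit 8) (nat_lit 0) .nil) (nat_lit 650) (nat_lit 271) (nat_lit 10) (nat_lit 0) (.node .nil (nat_lit 651) (nat_lit 795) (nat_lit 9) (nat_lit 0) .nil)) (nat_lit 652) (nat_lit 386) (nat_lit 6) (nat_lit 0) (.node (.node .nil (nat_lit 653) (nat_lit 658) (nat_lit 10) (nat_lit 0) .nil) (nat_lit 654) (nat_lit 154) (nat_lit 9) (nat_lit 0) .nil)) (nat_lit 655) (nat_lit 33) (nat_lit 0) (nat_lit 0) (.node (.node (.node .nil (nat_lit 656) (nat_lit 823) (nat_lit 8) (nat_lit 0) .nil) (nat_lit 657) (nat_lit 626) (nat_lit 9) (nat_lit 0) (.node .nil (nat_lit 658) (nat_lit 457) (nat_lit 0) (nat_lit 0) .nil)) (nat_lit 659) (nat_lit 563) (nat_lit 0) (nat_lit 0) (.node (.node .nil (nat_lit 660) (nat_lit 12) (nat_lit 0) (nat_lit 0) .nil) (nat_lit 661) (nat_lit 492) (nat_lit 1) (nat_lit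 0) .nil)))) (nat_lit 662) (nat_lit 664) (nat_lit 9) (nat_lit 0) (.node (.node (.node (.node (.node .nil (nat_lit 663) (nat_lit 179) (nat_lit 11) (nat_lit 0) .nil) (nat_lit 664) (nat_lit 316) (nat_lit 11) (nat_lit 0) (.node .nil (nat_lit 665) (nat_lit 635) (nat_lit 6) (nat_lit 0) .nil)) (nat_lit 666) (nat_lit 370) (nat_lit 11) (nat_lit 0) (.node (.node .nil (nat_lit 667) (nat_lit 620) (nat_lit 2) (nat_lit 0) .nil) (nat_lit 668) (nat_lit 574) (nat_lit 5) (nat_lit 0) .nil)) (nat_lit 669) (nat_lit 752) (nat_lit 1) (nat_lit 0) (.node (.node (.node .nil (nat_lit 670) (nat_lit 362) (nat_lit 10) (nat_lit 0) .nil) (nat_lit 671) (nat_lit 879) (nat_lit 9) (nat_lit 0) (.node .nil (nat_lit 672) (nat_lit 901) (nat_lit 3) (nat_lit 0) .nil)) (nat_lit 673) (nat_lit 799) (nat_lit 10) (nat_lit 0) (.node (.node .nil (nat_lit 674) (nat_lit 781) (nat_lit 0) (nat_lit 0) .nil) (nat_lit 675) (nat_lit 189) (nat_lit 8) (nat_lit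 0) .nil))) (nat_lit 676) (nat_lit 434) (nat_lit 10) (nat_lit 0) (.node (.node (.node (.node .nil (nat_lit 677) (nat_lit 716) (nat_lit 3) (nat_lit 0) .nil) (nat_lit 678) (nat_lit 257) (nat_lit 7) (nat_lit 0) (.node .nil (nat_lit 679) (nat_lit 533) (nat_lit 11) (nat_lit 0) .nil)) (nat_lit 680) (nat_lit 668) (nat_lit 10) (nat_lit 0) (.node (.node .nil (nat_lit 681) (nat_lit 475) (nat_lit 1) (nat_lit 0) .nil) (nat_lit 682) (nat_lit 409) (nat_lit 7) (nat_lit 0) .nil)) (nat_lit 683) (nat_lit 514) (nat_lit 5) (nat_lit 0) (.node (.node (.node .nil (nat_lit 684) (nat_lit 98) (nat_lit 10) (nat_lit 0) .nil) (nat_lit 685) (nat_lit 773) (nat_lit 8) (nat_lit 0) (.node .nil (nat_lit 686) (nat_lit 648) (nat_lit 5) (nat_lit 0) .nil)) (nat_lit 687) (nat_lit 171) (nat_lit 7) (nat_lit 0) (.node (.node .nil (nat_lit 688) (nat_lit 183) (nat_lit 5) (nat_lit 0) .nil) (nat_lit 689) (nat_lit 461) (nat_lit 1) (nat_lit 0) .nil)))))))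 (nat_lit 690) (nat_lit 73) (nat_lit 7) (nat_lit 0) (.node (.node (.node (.node (.node (.node (.node (.node .nil (nat_lit 691) (nat_lit 311) (nat_lit 5) (nat_lit 0) .nil) (nat_lit 692) (nat_lit 407) (nat_lit 5) (nat_lit 0) (.node .nil (nat_lit 693) (nat_lit 164) (nat_lit 6) (nat_lit 0) .nil)) (nat_lit 694) (nat_lit 301) (nat_lit 4) (nat_lit 0) (.node (.node .nil (nat_lit 695) (nat_lit 91) (nat_lit 0) (nat_lit 0) .nil) (nat_lit 696) (nat_lit 298) (nat_lit 0) (nat_lit 0) (.node .nil (nat_lit 697) (nat_lit 496) (nat_lit 4) (nat_lit 0) .nil))) (nat_lit 698) (nat_lit 402) (nat_lit 0) (nat_lit 0) (.node (.node (.node .nil (nat_lit 699) (nat_lit 95) (nat_lit 1) (nat_lit 0) .nil) (nat_lit 700) (nat_lit 274) (nat_lit 0) (nat_lit 0) (.node .nil (nat_lit 701) (nat_lit 326) (nat_lit 1) (nat_lit 0) .nil)) (nat_lit 702) (nat_lit 767) (nat_lit 10) (nat_lit 0) (.node (.node .nil (nat_lit 703) (nat_lit 863) (nat_lit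 11) (nat_lit 0) .nil) (nat_lit 704) (nat_lit 877) (nat_lit 5) (nat_lit 0) .nil))) (nat_lit 705) (nat_lit 812) (nat_lit 8) (nat_lit 0) (.node (.node (.node (.node .nil (nat_lit 706) (nat_lit 728) (nat_lit 3) (nat_lit 0) .nil) (nat_lit 707) (nat_lit 431) (nat_lit 1) (nat_lit 0) (.node .nil (nat_lit 708) (nat_lit 276) (nat_lit 11) (nat_lit 0) .nil)) (nat_lit 709) (nat_lit 596) (nat_lit 1) (nat_lit 0) (.node (.node .nil (nat_lit 710) (nat_lit 423) (nat_lit 11) (nat_lit 0) .nil) (nat_lit 711) (nat_lit 49) (nat_lit 8) (nat_lit 0) .nil)) (nat_lit 712) (nat_lit 677) (nat_lit 5) (nat_lit 0) (.node (.node (.node .nil (nat_lit 713) (nat_lit 464) (nat_lit 11) (nat_lit 0) .nil) (nat_lit 714) (nat_lit 646) (nat_lit 6) (nat_lit 0) (.node .nil (nat_lit 715) (nat_lit 678) (nat_lit 7) (nat_lit 0) .nil)) (nat_lit 716) (nat_lit 158) (nat_lit 6) (nat_lit 0) (.node (.node .nil (nat_lit 717) (nat_lit 653) (nat_lit 5) (nat_lit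 0) .nil) (nat_lit 718) (nat_lit 184) (nat_lit 6) (nat_lit 0) .nil)))) (nat_lit 719) (nat_lit 490) (nat_lit 7) (nat_lit 0) (.node (.node (.node (.node (.node .nil (nat_lit 720) (nat_lit 31) (nat_lit 4) (nat_lit 0) .nil) (nat_lit 721) (nat_lit 890) (nat_lit 7) (nat_lit 0) (.node .nil (nat_lit 722) (nat_lit 905) (nat_lit 0) (nat_lit 0) .nil)) (nat_lit 723) (nat_lit 149) (nat_lit 5) (nat_lit 0) (.node (.node .nil (nat_lit 724) (nat_lit 504) (nat_lit 7) (nat_lit 0) .nil) (nat_lit 725) (nat_lit 743) (nat_lit 5) (nat_lit 0) (.node .nil (nat_lit 726) (nat_lit 250) (nat_lit 8) (nat_lit 0) .nil))) (nat_lit 727) (nat_lit 377) (nat_lit 7) (nat_lit 0) (.node (.node (.node .nil (nat_lit 728) (nat_lit 285) (nat_lit 2) (nat_lit 0) .nil) (nat_lit 729) (nat_lit 297) (nat_lit 7) (nat_lit 0) (.node .nil (nat_lit 730) (nat_lit 334) (nat_lit 1) (nat_lit 0) .nil)) (nat_lit 731) (nat_lit 463) (nat_lit 7) (nat_lit 0) (.node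 (.node .nil (nat_lit 732) (nat_lit 629) (nat_lit 6) (nat_lit 0) .nil) (nat_lit 733) (nat_lit 174) (nat_lit 8) (nat_lit 0) .nil))) (nat_lit 734) (nat_lit 550) (nat_lit 9) (nat_lit 0) (.node (.node (.node (.node .nil (nat_lit 735) (nat_lit 535) (nat_lit 0) (nat_lit 0) .nil) (nat_lit 736) (nat_lit 3) (nat_lit 8) (nat_lit 0) (.node .nil (nat_lit 737) (nat_lit 238) (nat_lit 8) (nat_lit 0) .nil)) (nat_lit 738) (nat_lit 207) (nat_lit 9) (nat_lit 0) (.node (.node .nil (nat_lit 739) (nat_lit 782) (nat_lit 8) (nat_lit 0) .nil) (nat_lit 740) (nat_lit 323) (nat_lit 10) (nat_lit 0) .nil)) (nat_lit 741) (nat_lit 719) (nat_lit 8) (nat_lit 0) (.node (.node (.node .nil (nat_lit 742) (nat_lit 364) (nat_lit 4) (nat_lit 0) .nil) (nat_lit 743) (nat_lit 601) (nat_lit 3) (nat_lit 0) (.node .nil (nat_lit 744) (nat_lit 89) (nat_lit 11) (nat_lit 0) .nil)) (nat_lit 745) (nat_lit 458) (nat_lit 11) (nat_lit 0) (.node (.node .nil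 (nat_lit 746) (nat_lit 623) (nat_lit 4) (nat_lit 0) .nil) (nat_lit 747) (nat_lit 173) (nat_lit 4) (nat_lit 0) .nil))))) (nat_lit 748) (nat_lit 427) (nat_lit 9) (nat_lit 0) (.node (.node (.node (.node (.node (.node .nil (nat_lit 749) (nat_lit 585) (nat_lit 11) (nat_lit 0) .nil) (nat_lit 750) (nat_lit 534) (nat_lit 4) (nat_lit 0) (.node .nil (nat_lit 751) (nat_lit 215) (nat_lit 7) (nat_lit 0) .nil)) (nat_lit 752) (nat_lit 598) (nat_lit 0) (nat_lit 0) (.node (.node .nil (nat_lit 753) (nat_lit 498) (nat_lit 10) (nat_lit 0) .nil) (nat_lit 754) (nat_lit 160) (nat_lit 5) (nat_lit 0) (.node .nil (nat_lit 755) (nat_lit 383) (nat_lit 10) (nat_lit 0) .nil))) (nat_lit 756) (nat_lit 448) (nat_lit 1) (nat_lit 0) (.node (.node (.node .nil (nat_lit 757) (nat_lit 222) (nat_lit 7) (nat_lit 0) .nil) (nat_lit 758) (nat_lit 755) (nat_lit 2) (nat_lit 0) (.node .nil (nat_lit 759) (nat_lit 819) (nat_lit 7) (nat_lit 0) .nil))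 (nat_lit 760) (nat_lit 734) (nat_lit 9) (nat_lit 0) (.node (.node .nil (nat_lit 761) (nat_lit 917) (nat_lit 7) (nat_lit 0) .nil) (nat_lit 762) (nat_lit 333) (nat_lit 4) (nat_lit 0) .nil))) (nat_lit 763) (nat_lit 133) (nat_lit 3) (nat_lit 0) (.node (.node (.node (.node .nil (nat_lit 764) (nat_lit 6) (nat_lit 0) (nat_lit 0) .nil) (nat_lit 765) (nat_lit 400) (nat_lit 8) (nat_lit 0) (.node .nil (nat_lit 766) (nat_lit 528) (nat_lit 8) (nat_lit 0) .nil)) (nat_lit 767) (nat_lit 137) (nat_lit 10) (nat_lit 0) (.node (.node .nil (nat_lit 768) (nat_lit 462) (nat_lit 1) (nat_lit 0) .nil) (nat_lit 769) (nat_lit 724) (nat_lit 9) (nat_lit 0) .nil)) (nat_lit 770) (nat_lit 303) (nat_lit 8) (nat_lit 0) (.node (.node (.node .nil (nat_lit 771) (nat_lit 586) (nat_lit 10) (nat_lit 0) .nil) (nat_lit 772) (nat_lit 807) (nat_lit 8) (nat_lit 0) (.node .nil (nat_lit 773) (nat_lit 694) (nat_lit 9) (nat_lit 0) .nil)) (nat_lit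 774) (nat_lit 345) (nat_lit 8) (nat_lit 0) (.node (.node .nil (nat_lit 775) (nat_lit 393) (nat_lit 6) (nat_lit 0) .nil) (nat_lit 776) (nat_lit 186) (nat_lit 10) (nat_lit 0) .nil)))) (nat_lit 777) (nat_lit 632) (nat_lit 5) (nat_lit 0) (.node (.node (.node (.node (.node .nil (nat_lit 778) (nat_lit 715) (nat_lit 8) (nat_lit 0) .nil) (nat_lit 779) (nat_lit 524) (nat_lit 2) (nat_lit 0) (.node .nil (nat_lit 780) (nat_lit 263) (nat_lit 1) (nat_lit 0) .nil)) (nat_lit 781) (nat_lit 511) (nat_lit 0) (nat_lit 0) (.node (.node .nil (nat_lit 782) (nat_lit 699) (nat_lit 2) (nat_lit 0) .nil) (nat_lit 783) (nat_lit 45) (nat_lit 10) (nat_lit 0) .nil)) (nat_lit 784) (nat_lit 769) (nat_lit 11) (nat_lit 0) (.node (.node (.node .nil (nat_lit 785) (nat_lit 300) (nat_lit 11) (nat_lit 0) .nil) (nat_lit 786) (nat_lit 325) (nat_lit 11) (nat_lit 0) (.node .nil (nat_lit 787) (nat_lit 538) (nat_lit 10) (nat_lit 0) .nil)) (nat_lit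 788) (nat_lit 652) (nat_lit 10) (nat_lit 0) (.node (.node .nil (nat_lit 789) (nat_lit 214) (nat_lit 7) (nat_lit 0) .nil) (nat_lit 790) (nat_lit 584) (nat_lit 2) (nat_lit 0) .nil))) (nat_lit 791) (nat_lit 65) (nat_lit 10) (nat_lit 0) (.node (.node (.node (.node .nil (nat_lit 792) (nat_lit 111) (nat_lit 3) (nat_lit 0) .nil) (nat_lit 793) (nat_lit 425) (nat_lit 8) (nat_lit 0) (.node .nil (nat_lit 794) (nat_lit 80) (nat_lit 8) (nat_lit 0) .nil)) (nat_lit 795) (nat_lit 356) (nat_lit 5) (nat_lit 0) (.node (.node .nil (nat_lit 796) (nat_lit 424) (nat_lit 3) (nat_lit 0) .nil) (nat_lit 797) (nat_lit 247) (nat_lit 8) (nat_lit 0) .nil)) (nat_lit 798) (nat_lit 766) (nat_lit 8) (nat_lit 0) (.node (.node (.node .nil (nat_lit 799) (nat_lit 617) (nat_lit 2) (nat_lit 0) .nil) (nat_lit 800) (nat_lit 525) (nat_lit 5) (nat_lit 0) (.node .nil (nat_lit 801) (nat_lit 175) (nat_lit 0) (nat_lit 0) .nil)) (nat_lit 802) (nat_lit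 169) (nat_lit 0) (nat_lit 0) (.node (.node .nil (nat_lit 803) (nat_lit 651) (nat_lit 4) (nat_lit 0) .nil) (nat_lit 804) (nat_lit 199) (nat_lit 11) (nat_lit 0) .nil)))))) (nat_lit 805) (nat_lit 341) (nat_lit 4) (nat_lit 0) (.node (.node (.node (.node (.node (.node (.node .nil (nat_lit 806) (nat_lit 226) (nat_lit 9) (nat_lit 0) .nil) (nat_lit 807) (nat_lit 541) (nat_lit 11) (nat_lit 0) (.node .nil (nat_lit 808) (nat_lit 225) (nat_lit 11) (nat_lit 0) .nil)) (nat_lit 809) (nat_lit 771) (nat_lit 9) (nat_lit 0) (.node (.node .nil (nat_lit 810) (nat_lit 711) (nat_lit 8) (nat_lit 0) .nil) (nat_lit 811) (nat_lit 774) (nat_lit 7) (nat_lit 0) (.node .nil (nat_lit 812) (nat_lit 235) (nat_lit 0) (nat_lit 0) .nil))) (nat_lit 813) (nat_lit 780) (nat_lit 11) (nat_lit 0) (.node (.node (.node .nil (nat_lit 814) (nat_lit 772) (nat_lit 8) (nat_lit 0) .nil) (nat_lit 815) (nat_lit 53) (nat_lit 6) (nat_lit 0) (.node .nil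 (nat_lit 816) (nat_lit 83) (nat_lit 9) (nat_lit 0) .nil)) (nat_lit 817) (nat_lit 704) (nat_lit 11) (nat_lit 0) (.node (.node .nil (nat_lit 818) (nat_lit 40) (nat_lit 0) (nat_lit 0) .nil) (nat_lit 819) (nat_lit 705) (nat_lit 0) (nat_lit 0) .nil))) (nat_lit 820) (nat_lit 64) (nat_lit 11) (nat_lit 0) (.node (.node (.node (.node .nil (nat_lit 821) (nat_lit 638) (nat_lit 0) (nat_lit 0) .nil) (nat_lit 822) (nat_lit 452) (nat_lit 1) (nat_lit 0) (.node .nil (nat_lit 823) (nat_lit 569) (nat_lit 11) (nat_lit 0) .nil)) (nat_lit 824) (nat_lit 679) (nat_lit 3) (nat_lit 0) (.node (.node .nil (nat_lit 825) (nat_lit 899) (nat_lit 7) (nat_lit 0) .nil) (nat_lit 826) (nat_lit 219) (nat_lit 0) (nat_lit 0) .nil)) (nat_lit 827) (nat_lit 170) (nat_lit 1) (nat_lit 0) (.node (.node (.node .nil (nat_lit 828) (nat_lit 777) (nat_lit 10) (nat_lit 0) .nil) (nat_lit 829) (nat_lit 488) (nat_lit 2) (nat_lit 0) (.node .nil (nat_lit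 830) (nat_lit 22) (nat_lit 0) (nat_lit 0) .nil)) (nat_lit 831) (nat_lit 256) (nat_lit 5) (nat_lit 0) (.node (.node .nil (nat_lit 832) (nat_lit 659) (nat_lit 9) (nat_lit 0) .nil) (nat_lit 833) (nat_lit 583) (nat_lit 0) (nat_lit 0) .nil)))) (nat_lit 834) (nat_lit 776) (nat_lit 7) (nat_lit 0) (.node (.node (.node (.node (.node .nil (nat_lit 835) (nat_lit 295) (nat_lit 2) (nat_lit 0) .nil) (nat_lit 836) (nat_lit 732) (nat_lit 4) (nat_lit 0) (.node .nil (nat_lit 837) (nat_lit 128) (nat_lit 4) (nat_lit 0) .nil)) (nat_lit 838) (nat_lit 29) (nat_lit 8) (nat_lit 0) (.node (.node .nil (nat_lit 839) (nat_lit 693) (nat_lit 7) (nat_lit 0) .nil) (nat_lit 840) (nat_lit 357) (nat_lit 1) (nat_lit 0) (.node .nil (nat_lit 841) (nat_lit 762) (nat_lit 9) (nat_lit 0) .nil))) (nat_lit 842) (nat_lit 696) (nat_lit 8) (nat_lit 0) (.node (.node (.node .nil (nat_lit 843) (nat_lit 213) (nat_lit 9) (nat_lit 0) .nil) (nat_lit 844)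 (nat_lit 683) (nat_lit 8) (nat_lit 0) (.node .nil (nat_lit 845) (nat_lit 692) (nat_lit 7) (nat_lit 0) .nil)) (nat_lit 846) (nat_lit 190) (nat_lit 0) (nat_lit 0) (.node (.node .nil (nat_lit 847) (nat_lit 770) (nat_lit 11) (nat_lit 0) .nil) (nat_lit 848) (nat_lit 161) (nat_lit 4) (nat_lit 0) .nil))) (nat_lit 849) (nat_lit 153) (nat_lit 7) (nat_lit 0) (.node (.node (.node (.node .nil (nat_lit 850) (nat_lit 120) (nat_lit 3) (nat_lit 0) .nil) (nat_lit 851) (nat_lit 783) (nat_lit 8) (nat_lit 0) (.node .nil (nat_lit 852) (nat_lit 221) (nat_lit 7) (nat_lit 0) .nil)) (nat_lit 853) (nat_lit 509) (nat_lit 2) (nat_lit 0) (.node (.node .nil (nat_lit 854) (nat_lit 643) (nat_lit 0) (nat_lit 0) .nil) (nat_lit 855) (nat_lit 650) (nat_lit 8) (nat_lit 0) .nil)) (nat_lit 856) (nat_lit 319) (nat_lit 8) (nat_lit 0) (.node (.node (.node .nil (nat_lit 857) (nat_lit 245) (nat_lit 0) (nat_lit 0) .nil) (nat_lit 858) (nat_lit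 531) (nat_lit 6) (nat_lit 0) (.node .nil (nat_lit 859) (nat_lit 738) (nat_lit 10) (nat_lit 0) .nil)) (nat_lit 860) (nat_lit 627) (nat_lit 8) (nat_lit 0) (.node (.node .nil (nat_lit 861) (nat_lit 749) (nat_lit 9) (nat_lit 0) .nil) (nat_lit 862) (nat_lit 346) (nat_lit 0) (nat_lit 0) .nil))))) (nat_lit 863) (nat_lit 103) (nat_lit 2) (nat_lit 0) (.node (.node (.node (.node (.node (.node .nil (nat_lit 864) (nat_lit 47) (nat_lit 1) (nat_lit 0) .nil) (nat_lit 865) (nat_lit 106) (nat_lit 3) (nat_lit 0) (.node .nil (nat_lit 866) (nat_lit 32) (nat_lit 2) (nat_lit 0) .nil)) (nat_lit 867) (nat_lit 779) (nat_lit 7) (nat_lit 0) (.node (.node .nil (nat_lit 868) (nat_lit 775) (nat_lit 0) (nat_lit 0) .nil) (nat_lit 869) (nat_lit 467) (nat_lit 6) (nat_lit 0) (.node .nil (nat_lit 870) (nat_lit 374) (nat_lit 11) (nat_lit 0) .nil))) (nat_lit 871) (nat_lit 266) (nat_lit 8) (nat_lit 0) (.node (.node (.node .nil (nat_lit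 872) (nat_lit 564) (nat_lit 11) (nat_lit 0) .nil) (nat_lit 873) (nat_lit 865) (nat_lit 9) (nat_lit 0) (.node .nil (nat_lit 874) (nat_lit 127) (nat_lit 7) (nat_lit 0) .nil)) (nat_lit 875) (nat_lit 517) (nat_lit 3) (nat_lit 0) (.node (.node .nil (nat_lit 876) (nat_lit 471) (nat_lit 4) (nat_lit 0) .nil) (nat_lit 877) (nat_lit 436) (nat_lit 10) (nat_lit 0) .nil))) (nat_lit 878) (nat_lit 317) (nat_lit 8) (nat_lit 0) (.node (.node (.node (.node .nil (nat_lit 879) (nat_lit 249) (nat_lit 5) (nat_lit 0) .nil) (nat_lit 880) (nat_lit 421) (nat_lit 5) (nat_lit 0) (.node .nil (nat_lit 881) (nat_lit 43) (nat_lit 11) (nat_lit 0) .nil)) (nat_lit 882) (nat_lit 212) (nat_lit 9) (nat_lit 0) (.node (.node .nil (nat_lit 883) (nat_lit 378) (nat_lit 8) (nat_lit 0) .nil) (nat_lit 884) (nat_lit 38) (nat_lit 1) (nat_lit 0) .nil)) (nat_lit 885) (nat_lit 96) (nat_lit 7) (nat_lit 0) (.node (.node (.node .nil (nat_lit 886) (nat_lit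 543) (nat_lit 8) (nat_lit 0) .nil) (nat_lit 887) (nat_lit 570) (nat_lit 2) (nat_lit 0) (.node .nil (nat_lit 888) (nat_lit 239) (nat_lit 11) (nat_lit 0) .nil)) (nat_lit 889) (nat_lit 121) (nat_lit 11) (nat_lit 0) (.node (.node .nil (nat_lit 890) (nat_lit 618) (nat_lit 5) (nat_lit 0) .nil) (nat_lit 891) (nat_lit 188) (nat_lit 8) (nat_lit 0) .nil)))) (nat_lit 892) (nat_lit 669) (nat_lit 7) (nat_lit 0) (.node (.node (.node (.node (.node .nil (nat_lit 893) (nat_lit 615) (nat_lit 11) (nat_lit 0) .nil) (nat_lit 894) (nat_lit 147) (nat_lit 9) (nat_lit 0) (.node .nil (nat_lit 895) (nat_lit 729) (nat_lit 8) (nat_lit 0) .nil)) (nat_lit 896) (nat_lit 46) (nat_lit 7) (nat_lit 0) (.node (.node .nil (nat_lit 897) (nat_lit 42) (nat_lit 0) (nat_lit 0) .nil) (nat_lit 898) (nat_lit 273) (nat_lit 9) (nat_lit 0) .nil)) (nat_lit 899) (nat_lit 466) (nat_lit 7) (nat_lit 0) (.node (.node (.node .nil (nat_lit 900) (nat_lit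 753) (nat_lit 0) (nat_lit 0) .nil) (nat_lit 901) (nat_lit 144) (nat_lit 11) (nat_lit 0) (.node .nil (nat_lit 902) (nat_lit 352) (nat_lit 0) (nat_lit 0) .nil)) (nat_lit 903) (nat_lit 622) (nat_lit 7) (nat_lit 0) (.node (.node .nil (nat_lit 904) (nat_lit 536) (nat_lit 8) (nat_lit 0) .nil) (nat_lit 905) (nat_lit 211) (nat_lit 5) (nat_lit 0) .nil))) (nat_lit 906) (nat_lit 508) (nat_lit 9) (nat_lit 0) (.node (.node (.node (.node .nil (nat_lit 907) (nat_lit 216) (nat_lit 9) (nat_lit 0) .nil) (nat_lit 908) (nat_lit 566) (nat_lit 0) (nat_lit 0) (.node .nil (nat_lit 909) (nat_lit 0) (nat_lit 11) (nat_lit 0) .nil)) (nat_lit 910) (nat_lit 337) (nat_lit 1) (nat_lit 0) (.node (.node .nil (nat_lit 911) (nat_lit 172) (nat_lit 6) (nat_lit 0) .nil) (nat_lit 912) (nat_lit 733) (nat_lit 9) (nat_lit 0) .nil)) (nat_lit 913) (nat_lit 115) (nat_lit 0) (nat_lit 0) (.node (.node (.node .nil (nat_lit 914) (nat_lit 62) (nat_lit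 10) (nat_lit 0) .nil) (nat_lit 915) (nat_lit 573) (nat_lit 3) (nat_lit 0) (.node .nil (nat_lit 916) (nat_lit 764) (nat_lit 9) (nat_lit 0) .nil)) (nat_lit 917) (nat_lit 656) (nat_lit 0) (nat_lit 0) (.node (.node .nil (nat_lit 918) (nat_lit 691) (nat_lit 7) (nat_lit 0) .nil) (nat_lit 919) (nat_lit 58) (nat_lit 11) (nat_lit 0) .nil)))))))))

/-- **The cover.** -/
theorem coverD : CoverM Base.fSd Bk.KD Base.fc Base.fe := coverD_of (N := ND) (by decide +kernel)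

end Cfsg.Agent.BX.No33.Cv
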