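import Cfsg.Agent.BX.No33.CovDef
import Cfsg.Agent.BX.Frame.Fr3
set_option linter.all false
open scoped Cfsg.Agent.FastGrp

/-!
# The covering of the involutions inverting `y`: from the model to the group (helper9)
-/

set_option autoImplicit false

namespace Cfsg.Agent.BX.No33

open Subgroup Matrix Cfsg.Agent.BX.Cov Cfsg.Agent.BX.Frame Cfsg.Agent.BX.Frame.Baer Cfsg.Agent.BX.Frame.Fr3
open Cfsg.Agent.H863.U33 (wy1 tb)
open Cfsg.Agent.H819.U33 (g)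

attribute [local instance] fact3

/-- the last entry of the matrix is the multiplier -/
theorem conj_y {s : H819.U33.G} {X : Matrix (Fin 9) (Fin 9) (ZMod 3)} (hs : s ∈ Nm (g wy1)) (hX : Act D3 a3 s X) :
    s⁻¹ * g wy1 * s = pw (g wy1) (X 8 8) := by
  have := finG
  obtain ⟨c, hc⟩ : ∃ c : ZMod 3, s⁻¹ * g wy1 * s = pw (g wy1) c := by
    rcases norm_cases tb hs with h | h
    · exact ⟨1, h.trans (pw_one _).symm⟩
    · refine ⟨2, h.trans ?_⟩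
      show _ = g wy1 ^ 2
      rw [inv_eq_iff_mul_eq_one, ← pow_succ', tb.y3]
  have h1 := hX (Pi.single D3.l 1)
  have h2 := rel3.bf_l c
  rw [rel3.bf_l, pw_one, a3_l, hc] at h1
  rw [a3_l, h1] at h2
  have h3 := congrFun (rel3.bf_inj h2) D3.l
  rw [vecMul, single_dotProduct, one_mul, Pi.single_eq_same] at h3
  rw [hc, h3]
  rfl

theorem inv_y {G : Type*} [Group G] {c y : G} (c2 : c ^ 2 = 1) (cy : (c * y) ^ 2 = 1) : c⁻¹ * y * c = y⁻¹ := by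
  have h1 : c⁻¹ = c := by rw [inv_eq_iff_mul_eq_one, ← pow_two, c2]
  rw [h1, eq_inv_iff_mul_eq_one, ← cy, pow_two]
  simp only [mul_assoc]

theorem mem_Nm_of_inv {G : Type*} [Group G] [Finite G] {c y : G} (h : c⁻¹ * y * c = y⁻¹) : c ∈ Nm y := by
  rw [← Subgroup.inv_mem_iff]
  refine mem_normalizer_fintype fun z hz => ?_
  obtain ⟨k, rfl⟩ := mem_zpowers_iff.1 hz
  rw [← conj_zpow, inv_inv, h]
  exact zpow_mem (inv_mem (mem_zpowers _)) _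

/-- **The covering in the group.** -/
theorem cover_of (h3 : H3) {fS : List FW} {L : List (Fin 2 × FW)} {fc : Fin 2 → FW} {fe : Fin 2 → Fin 4 → FW}
    (hM : CoverM fS L fc fe) {c : H819.U33.G} (c2 : c ^ 2 = 1) (cy : (c * g wy1) ^ 2 = 1) :
    ∃ s ∈ gp gen3 fS ⊔ zpowers (g wy1), ∃ p ∈ L, ∃ i j l m n : ℕ, i < 3 ∧ j < 3 ∧ l < 3 ∧ m < 3 ∧
      c = (ev gen3 p.2 * s)⁻¹ * (ev gen3 (fc p.1) * ev gen3 (fe p.1 0) ^ i * ev gen3 (fe p.1 1) ^ j *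
        ev gen3 (fe p.1 2) ^ l * ev gen3 (fe p.1 3) ^ m * g wy1 ^ n) * (ev gen3 p.2 * s) ∧
      Commute (ev gen3 p.2) (g wy1) := by
  have := finG
  obtain ⟨H, _, _, π, hm, σ, hs, hi, hg, htop, hk, hl⟩ := quot (frame3 h3)
  have he : ∀ w, ev (fun i => π ⟨gen3 i, hm i⟩) w = π ⟨ev gen3 w, ev_mem hm w⟩ := fun w => by
    rw [← map_ev π fun i => ⟨gen3 i, hm i⟩]
    congr 1
    exact Subtype.ext (map_ev (Nm (g wy1)).subtype _ w)
  have hact : ∀ s : Nm (g wy1), Act D3 a3 s (σ (π s)) := by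
    rintro ⟨s, hs⟩
    obtain ⟨w, rfl⟩ := (bf3 h3).exists_word (s := s) (by rw [a3_l]; exact hs)
    rw [← he, map_ev, funext hg]
    exact (bf3 h3).act_ev w
  have hcard : ¬ 2 ^ 15 ∣ Nat.card H := fun h => by
    have h1 := h.trans (card_dvd_of_surjective π hs)
    rw [card_N h3] at h1
    exact absurd h1 (by norm_num)
  have hc1 := inv_y c2 cy
  have hcN := mem_Nm_of_inv hc1
  have hc2 : π ⟨c, hcN⟩ ^ 2 = 1 := by
    rw [← map_pow, ← map_one π]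
    exact congrArg π (Subtype.ext c2)
  have hc3 : σ (π ⟨c, hcN⟩) 8 8 ≠ 1 := fun h => by
    have h1 := conj_y hcN (hact ⟨c, hcN⟩)
    rw [h, pw_one, hc1, inv_eq_iff_mul_eq_one, ← pow_two] at h1
    have h2 := orderOf_dvd_of_pow_eq_one h1
    rw [order3] at h2
    omega
  obtain ⟨s, hsS, p, hp, i, j, l, m, h1, h2, h4, h5, e, hw⟩ := hM H _ σ hi hg htop hcard _ hc2 hc3
  obtain ⟨s, rfl⟩ := hs s
  have hwy : Commute (ev gen3 p.2) (g wy1) := by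
    have h6 := conj_y (ev_mem hm p.2) (hact ⟨_, ev_mem hm p.2⟩)
    rw [← he, hw, pw_one, mul_assoc, inv_mul_eq_iff_eq_mul] at h6
    exact h6.symm
  simp only [he] at e
  generalize hE : (⟨ev gen3 (fc p.1), ev_mem hm _⟩ * ⟨ev gen3 (fe p.1 0), ev_mem hm _⟩ ^ i *
    ⟨ev gen3 (fe p.1 1), ev_mem hm _⟩ ^ j * ⟨ev gen3 (fe p.1 2), ev_mem hm _⟩ ^ l *
    ⟨ev gen3 (fe p.1 3), ev_mem hm _⟩ ^ m : Nm (g wy1)) = E
  generalize hx : (⟨ev gen3 p.2, ev_mem hm _⟩ * s : Nm (g wy1)) = x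
  have e1 : π ⟨c, hcN⟩ = (π x)⁻¹ * π E * π x := by
    rw [e, ← hE, ← hx]
    simp only [map_mul, map_pow]
  have e2 : π (E⁻¹ * (x * ⟨c, hcN⟩ * x⁻¹)) = 1 := by
    rw [map_mul, map_mul, map_mul, map_inv, map_inv, e1]
    group
  obtain ⟨n, hn⟩ := mem_powers_iff_mem_zpowers.2 ((hk _).1 e2)
  have hn' : g wy1 ^ n = (E : H819.U33.G)⁻¹ * (x * c * (x : H819.U33.G)⁻¹) := hn
  refine ⟨s, (hl fS s).1 hsS, p, hp, i, j, l, m, n, h1, h2, h4, h5, ?_, hwy⟩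
  have hE' : ev gen3 (fc p.1) * ev gen3 (fe p.1 0) ^ i * ev gen3 (fe p.1 1) ^ j * ev gen3 (fe p.1 2) ^ l *
      ev gen3 (fe p.1 3) ^ m = (E : H819.U33.G) := by rw [← hE]; rfl
  have hx' : ev gen3 p.2 * s = (x : H819.U33.G) := by rw [← hx]; rfl
  rw [hE', hx', hn']
  group

end Cfsg.Agent.BX.No33
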