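import Cfsg.Agent.BX.Cov.Main
import Cfsg.Agent.BX.Cov.Glue
import Mathlib.GroupTheory.Sylow
set_option linter.all false
open scoped Cfsg.Agent.FastGrp

/-!
# The involutions of an affine matrix group: kernel checks (helper18)

`inv_of` : in a group `V : T` of matrices over `ZMod 3` every involution with last diagonal entry `≠ 1` is conjugate, by an element
`w s` (`w` in a list, `s` in a subgroup), to one of the elements `c_k e₀^i e₁^j e₂^l e₃^m`.
-/

set_option autoImplicit false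

namespace Cfsg.Agent.BX.No33.Cv

open Cfsg.Agent.BMx.Cov Cfsg.Agent.BX.Cov
open Subgroup Cfsg.Agent.Lib.PackMat Cfsg.Agent.Lib.PackMatMul
open Cfsg.Agent.Lib.PackMatGroup (evG evG_nil evG_cons evG_mem)
open Cfsg.Agent.Lib.PackMatOrbit (getO getW memB memB_spec)

variable {C : Cfsg.Agent.Lib.PackMat.Cfg} {H : Type*} [Group H]

/-! ### sequences with steps of index two -/

/-- the group generated by a list -/
abbrev cl (l : List H) : Subgroup H := closure {x | x ∈ l}

/-- every generator doubles the group generated by the later ones -/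
inductive Pc : List H → Prop
  | nil : Pc []
  | cons {g : H} {l : List H} : Pc l → (∀ x ∈ cl (g :: l), x ∈ cl l ∨ ∃ h ∈ cl l, x = g * h) → g ∉ cl l → g * g ∈ cl l →
      Pc (g :: l)

theorem cl_nil {x : H} (h : x ∈ cl ([] : List H)) : x = 1 := by
  have e : {x : H | x ∈ ([] : List H)} = ∅ := by ext; simp
  unfold cl at h
  rwa [e, Subgroup.closure_empty, mem_bot] at h

theorem cl_le (g : H) (l : List H) : cl l ≤ cl (g :: l) := closure_mono fun _ h => List.mem_cons_of_mem _ h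

theorem step [Finite H] {g : H} {l : List H} (h1 : g * g ∈ cl l) (h2 : ∀ s ∈ l, g * s * g⁻¹ ∈ cl l) :
    ∀ x ∈ cl (g :: l), x ∈ cl l ∨ ∃ h ∈ cl l, x = g * h := by
  have h3 : cl l ≤ (cl l).comap (MulAut.conj g).toMonoidHom := (closure_le _).2 h2
  have h4 : g ∈ normalizer ((cl l : Subgroup H) : Set H) := mem_normalizer_fintype fun n hn => h3 hn
  have h5 : ∀ x ∈ cl l, g⁻¹ * x * g ∈ cl l := fun x hx => by
    have := (mem_normalizer_iff.1 (inv_mem h4) x).1 hx
    rwa [inv_inv] at this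
  refine closure_ind (Or.inl (one_mem _)) ?_
  rintro x (hx | ⟨h, hh, rfl⟩) s hs
  · rcases List.mem_cons.1 hs with rfl | hs
    · exact Or.inr ⟨_, h5 x hx, by group⟩
    · exact Or.inl (mul_mem hx (subset_closure hs))
  · rcases List.mem_cons.1 hs with rfl | hs
    · left
      rw [show s * h * s = s * s * (s⁻¹ * h * s) by group]
      exact mul_mem h1 (h5 h hh)
    · exact Or.inr ⟨_, mul_mem hh (subset_closure hs), mul_assoc _ _ _⟩

theorem Pc.card {l : List H} (h : Pc l) : Nat.card (cl l) = 2 ^ l.length := by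
  induction h with
  | nil =>
    have e : cl ([] : List H) = ⊥ := eq_bot_iff.2 fun x hx => cl_nil hx
    rw [e, card_bot]
    rfl
  | @cons g l _ h1 h2 h3 ih =>
    have h4 : (cl l).relIndex (cl (g :: l)) = 2 := by
      rw [relIndex_eq_two_iff_exists_notMem_and']
      refine ⟨g, subset_closure List.mem_cons_self, h2, fun b hb => ?_⟩
      rcases h1 b hb with h5 | ⟨k, hk, rfl⟩
      · exact Or.inr h5
      · left
        rw [← mul_assoc]
        exact mul_mem h3 hk
    have h5 := ((cl l).subgroupOf (cl (g :: l))).card_mul_index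
    rw [Nat.card_congr (subgroupOfEquivOfLe (cl_le g l)).toEquiv, ih] at h5
    rw [← h5, List.length_cons, pow_succ]
    exact congrArg _ h4

theorem sylow [Finite H] {P : Subgroup H} {n : ℕ} (hP : Nat.card P = 2 ^ n) (hH : ¬ 2 ^ (n + 1) ∣ Nat.card H) {c : H}
    (hc : c ^ 2 = 1) : ∃ g : H, g * c * g⁻¹ ∈ P := by
  have : Fact (Nat.Prime 2) := ⟨Nat.prime_two⟩
  obtain ⟨Q, hQ⟩ := (IsPGroup.of_card hP).exists_le_sylow
  have h1 : IsPGroup 2 (zpowers c) := by
    rintro ⟨_, k, rfl⟩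
    refine ⟨1, Subtype.ext ?_⟩
    show (c ^ k) ^ 2 ^ 1 = 1
    rw [pow_one, ← zpow_natCast, ← zpow_mul, mul_comm, zpow_mul, zpow_natCast, hc, one_zpow]
  obtain ⟨R, hR⟩ := h1.exists_le_sylow
  obtain ⟨g, hg⟩ := MulAction.exists_smul_eq H R Q
  obtain ⟨k, hk⟩ := IsPGroup.iff_card.1 Q.isPGroup'
  have h2 : k ≤ n := by
    by_contra h3
    exact hH ((pow_dvd_pow 2 (by omega)).trans (hk ▸ card_subgroup_dvd_card (Q : Subgroup H)))
  have h3 : P = Q := eq_of_le_of_card_ge hQ (by rw [hk, hP]; exact Nat.pow_le_pow_right (by norm_num) h2)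
  refine ⟨g, ?_⟩
  rw [h3, ← hg, Sylow.coe_subgroup_smul]
  exact smul_mem_pointwise_smul _ _ _ (hR (mem_zpowers c))

/-- all products `X a₁^{e₁} a₂^{e₂} ⋯` with exponents `0, 1` -/
noncomputable def enum2 (f : ℕ → ℕ → ℕ) (leaf : ℕ → Bool) (l : List ℕ) : ℕ → Bool :=
  List.rec (motive := fun _ => ℕ → Bool) leaf
    (fun a _ ih X => bif ih X then force a fun a => force (f X a) ih else false) l

variable {σ : H →* Mt C}

theorem enum2_sound (hC : OK C) {leaf : ℕ → Bool} {l : List H} (h : Pc l) : ∀ {al : List ℕ}, List.Forall₂ (Cd σ) l al →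
    ∀ {y : H} {X : ℕ}, Cd σ y X → enum2 (mulM C) leaf al X = true → ∀ x ∈ cl l, ∃ Z, Cd σ (y * x) Z ∧ leaf Z = true := by
  induction h with
  | nil =>
    intro al hal y X hy he x hx
    cases hal
    rw [cl_nil hx, mul_one]
    exact ⟨X, hy, he⟩
  | @cons g l _ h1 _ _ ih =>
    intro al hal y X hy he x hx
    cases hal with
    | @cons _ a _ al ha hal =>
      obtain ⟨h2, h3⟩ := cond_true_of (show (bif enum2 (mulM C) leaf al X then enum2 (mulM C) leaf al (mulM C X a)
        else false) = true from he)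
      rcases h1 x hx with h4 | ⟨k, hk, rfl⟩
      · exact ih hal hy h2 x h4
      · rw [← mul_assoc]
        exact ih hal (hy.mul hC ha) h3 k hk

/-- `a b = w a` for all `b` of the list, with words `w` in `al` -/
noncomputable def cnjB (f : ℕ → ℕ → ℕ) (one a : ℕ) (al : List ℕ) (bs : List ℕ) : List (List ℕ) → Bool :=
  List.rec (motive := fun _ => List (List ℕ) → Bool) (fun _ => true)
    (fun b _ ih ws => List.rec false (fun w ws _ => force (evW f one al w) fun z =>
      bif Nat.beq (f a b) (f z a) then ih ws else false) ws) bs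

theorem cnjB_sound (hC : OK C) (hi : Function.Injective σ) {g : H} {a : ℕ} (hg : Cd σ g a) {l : List H} {al : List ℕ}
    (hl : List.Forall₂ (Cd σ) l al) {ss : List H} {bs : List ℕ} (hs : List.Forall₂ (Cd σ) ss bs) :
    ∀ {ws : List (List ℕ)}, cnjB (mulM C) (oneM C) a al bs ws = true → ∀ s ∈ ss, g * s * g⁻¹ ∈ cl l := by
  induction hs with
  | nil => intro ws _ s hs; simp at hs
  | @cons s b ss bs h1 _ ih =>
    intro ws h s' hs'
    rcases ws with _ | ⟨w, ws⟩
    · exact absurd h (by show ¬ false = true; decide)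
    · obtain ⟨h2, h3⟩ := cond_true_of (show (bif Nat.beq (mulM C a b) (mulM C (evW (mulM C) (oneM C) al w) a) then
        cnjB (mulM C) (oneM C) a al bs ws else false) = true from h)
      rcases List.mem_cons.1 hs' with rfl | hs'
      · have h4 := (Cd.evW hC hl w).mul hC hg
        rw [← Nat.eq_of_beq_eq_true h2] at h4
        rw [hi ((hg.mul hC h1).eq h4), mul_inv_cancel_right]
        exact evG_mem _ (fun g hg => subset_closure hg) _
      · exact ih h3 s' hs'

/-- the check of a sequence; for each generator the word of its square and the words of the conjugates of the later ones -/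
noncomputable def pcB (f : ℕ → ℕ → ℕ) (one : ℕ) (al : List ℕ) : List (List ℕ × List (List ℕ)) → Bool :=
  List.rec (motive := fun _ => List (List ℕ × List (List ℕ)) → Bool) (fun _ => true)
    (fun a al ih rs => List.rec false (fun q rs _ => force a fun a =>
      bif Nat.beq (f a a) (evW f one al q.1) then bif cnjB f one a al al q.2 then
        bif enum2 f (fun X => bif Nat.beq X a then false else true) al one then ih rs else false else false else false) rs) al

theorem pcB_sound [Finite H] (hC : OK C) (hi : Function.Injective σ) {l : List H} {al : List ℕ}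
    (hl : List.Forall₂ (Cd σ) l al) : ∀ {rs : List (List ℕ × List (List ℕ))}, pcB (mulM C) (oneM C) al rs = true → Pc l := by
  induction hl with
  | nil => exact fun _ => Pc.nil
  | @cons g a l al h1 hl ih =>
    intro rs h
    rcases rs with _ | ⟨q, rs⟩
    · exact absurd h (by show ¬ false = true; decide)
    · obtain ⟨h2, h3⟩ := cond_true_of (show (bif Nat.beq (mulM C a a) (evW (mulM C) (oneM C) al q.1) then
        bif cnjB (mulM C) (oneM C) a al al q.2 then
        bif enum2 (mulM C) (fun X => bif Nat.beq X a then false else true) al (oneM C) then pcB (mulM C) (oneM C) al rs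
        else false else false else false) = true from h)
      obtain ⟨h4, h5⟩ := cond_true_of h3
      obtain ⟨h6, h7⟩ := cond_true_of h5
      have h8 := ih h7
      have h9 : g * g ∈ cl l := by
        have h10 := Cd.evW hC hl q.1
        rw [← Nat.eq_of_beq_eq_true h2] at h10
        rw [hi ((h1.mul hC h1).eq h10)]
        exact evG_mem _ (fun g hg => subset_closure hg) _
      refine Pc.cons h8 (step h9 (cnjB_sound hC hi h1 hl hl h4)) (fun hg => ?_) h9
      obtain ⟨Z, h10, h11⟩ := enum2_sound hC h8 hl (Cd.one hC) h6 g hg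
      rw [one_mul] at h10
      refine cond_not h11 ?_
      rw [h10.code_eq h1 rfl]
      exact Nat.beq_refl _

/-! ### a list of codes which is closed under conjugation -/

/-- the conjugates of `k` by the generators are in the tree -/
noncomputable def clsN (f : ℕ → ℕ → ℕ) (sb si : List ℕ) (L : Tr) (k : ℕ) : Bool :=
  allBelow (fun i => force (getO 0 si i) fun b => force (f b k) fun x => force (getO 0 sb i) fun a => force (f x a) fun z =>
    L.find z fun _ _ _ => true) sb.length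

theorem getO_mem {d : ℕ} {L : List ℕ} {a : ℕ} (h : a ∈ L) : ∃ i < L.length, getO d L i = a := by
  induction L with
  | nil => simp at h
  | cons b L ih =>
    rcases List.mem_cons.1 h with rfl | h
    · exact ⟨0, Nat.succ_pos _, rfl⟩
    · obtain ⟨i, hi, e⟩ := ih h
      exact ⟨i + 1, Nat.succ_lt_succ hi, e⟩

theorem cls_sound [Finite H] (hC : OK C) {SG : List H} {sb si : List ℕ} (hS : List.Forall₂ (Cd σ) SG sb)
    (hsi : ∀ i < sb.length, RedG C (getO 0 si i) ∧ mulM C (getO 0 sb i) (getO 0 si i) = oneM C) {L : Tr}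
    (h : ∀ k a b c, Tr.Mem k a b c L → clsN (mulM C) sb si L k = true) {g : H} (hg : g ∈ sat σ (cl SG)) {x : H} {k a b c : ℕ}
    (hm : Tr.Mem k a b c L) (hx : Cd σ x k) : ∃ k a b c, Tr.Mem k a b c L ∧ Cd σ (g⁻¹ * x * g) k := by
  have key : ∀ g ∈ cl SG, ∃ k a b c, Tr.Mem k a b c L ∧ Cd σ (g⁻¹ * x * g) k := by
    refine closure_ind ⟨k, a, b, c, hm, by rwa [inv_one, one_mul, mul_one]⟩ ?_
    rintro g ⟨k, a, b, c, h1, h2⟩ s hs
    obtain ⟨A, hA, h3⟩ := forall₂_left hS hs
    obtain ⟨i, hi, rfl⟩ := getO_mem (d := 0) hA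
    obtain ⟨a', b', c', h4, -⟩ := Tr.find_sound (show L.find (mulM C (mulM C (getO 0 si i) k) (getO 0 sb i))
      (fun _ _ _ => true) = true from allBelow_spec (h k a b c h1) i hi)
    refine ⟨_, a', b', c', h4, ?_⟩
    rw [show (g * s)⁻¹ * x * (g * s) = s⁻¹ * (g⁻¹ * x * g) * s by group]
    exact ((h3.inv hC (hsi i hi).1 (hsi i hi).2).mul hC h2).mul hC h3
  obtain ⟨g', hg', e⟩ := hg
  obtain ⟨k, a, b, c, h1, h2⟩ := key g' hg'
  refine ⟨k, a, b, c, h1, h2.congr ?_⟩
  have e' : σ g⁻¹ = σ g'⁻¹ := map_inv_eq σ (by rw [e, ← map_mul, mul_inv_cancel, map_one])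
  rw [map_mul, map_mul, map_mul, map_mul, e, e']

/-! ### the fibre over an involution -/

theorem four {V : Subgroup H} [Finite H] (hc : ∀ u ∈ V, ∀ v ∈ V, u * v = v * u) (h3 : ∀ v ∈ V, v ^ 3 = 1) {a b d e : H} (ha : a ∈ V)
    (hb : b ∈ V) (hd : d ∈ V) (he : e ∈ V) {x : H} (hx : x ∈ cl [a, b, d, e]) :
    ∃ i j l m : ℕ, i < 3 ∧ j < 3 ∧ l < 3 ∧ m < 3 ∧ x = a ^ i * b ^ j * d ^ l * e ^ m := by
  have key : ∀ x ∈ cl [a, b, d, e], ∃ i j l m : ℕ, x = a ^ i * b ^ j * d ^ l * e ^ m := by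
    refine closure_ind ⟨0, 0, 0, 0, by simp⟩ ?_
    rintro x ⟨i, j, l, m, rfl⟩ s hs
    have hs' : s ∈ [a, b, d, e] := hs
    simp only [List.mem_cons, List.not_mem_nil, or_false] at hs'
    have c : ∀ {u v : H}, u ∈ V → v ∈ V → ∀ (w : H) (n : ℕ), w * u ^ n * v = w * v * u ^ n := fun hu hv w n => by
      rw [mul_assoc, hc _ (pow_mem hu n) _ hv, mul_assoc]
    rcases hs' with rfl | rfl | rfl | rfl
    · exact ⟨i + 1, j, l, m, by rw [c he ha, c hd ha, c hb ha, pow_succ]⟩
    · exact ⟨i, j + 1, l, m, by rw [c he hb, c hd hb, pow_succ, mul_assoc (a ^ i) _ s]⟩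
    · exact ⟨i, j, l + 1, m, by rw [c he hd, pow_succ, mul_assoc (a ^ i * b ^ j) _ s]⟩
    · exact ⟨i, j, l, m + 1, by rw [pow_succ, mul_assoc]⟩
  obtain ⟨i, j, l, m, rfl⟩ := key x hx
  refine ⟨i % 3, j % 3, l % 3, m % 3, Nat.mod_lt _ (by norm_num), Nat.mod_lt _ (by norm_num), Nat.mod_lt _ (by norm_num),
    Nat.mod_lt _ (by norm_num), ?_⟩
  rw [← pow_eq_pow_mod i (h3 a ha), ← pow_eq_pow_mod j (h3 b hb), ← pow_eq_pow_mod l (h3 d hd), ← pow_eq_pow_mod m (h3 e he)]

theorem fibre {V U : Subgroup H} [hV : V.Normal] (hc : ∀ u ∈ V, ∀ v ∈ V, u * v = v * u) (h3 : ∀ v ∈ V, v ^ 3 = 1) {p : ℕ}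
    {fs : List H} (h1 : ∀ f ∈ fs, f ∈ V) {c : H} (c2 : c * c = 1) (h2 : ∀ f ∈ fs, c * (f * f) * c * f ∈ U) {u : H} (hu : u ∈ V)
    (hs : Spn p fs u) (hx : (c * u) ^ 2 = 1) : u ∈ U := by
  have ci : c⁻¹ = c := inv_eq_of_mul_eq_one_right c2
  have hcV : ∀ v ∈ V, c * v * c ∈ V := fun v hv => by
    have := hV.conj_mem v hv c
    rwa [ci] at this
  have mul : ∀ u ∈ V, ∀ v ∈ V, c * (u * v)⁻¹ * c * (u * v) = (c * u⁻¹ * c * u) * (c * v⁻¹ * c * v) := fun u hu v hv => by
    have e1 : c * (u * v)⁻¹ * c = (c * u⁻¹ * c) * (c * v⁻¹ * c) := by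
      rw [hc u hu v hv, mul_inv_rev]
      calc _ = c * u⁻¹ * (c * c) * v⁻¹ * c := by rw [c2]; group
        _ = _ := by group
    rw [e1, mul_assoc, ← mul_assoc (c * v⁻¹ * c), hc _ (hcV _ (inv_mem hv)) u hu]
    group
  have key : ∀ {fs : List H} {u : H}, Spn p fs u → (∀ f ∈ fs, f ∈ V) → (∀ f ∈ fs, c * (f * f) * c * f ∈ U) →
      u ∈ V ∧ c * u⁻¹ * c * u ∈ U := by
    intro fs u hs
    induction hs with
    | nil =>
      intro _ _
      rw [inv_one, mul_one, mul_one, c2]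
      exact ⟨one_mem _, one_mem _⟩
    | @cons f u fs n _ _ ih =>
      intro h1 h2
      obtain ⟨h4, h5⟩ := ih (fun f hf => h1 f (List.mem_cons_of_mem _ hf)) fun f hf => h2 f (List.mem_cons_of_mem _ hf)
      have hf := h1 f List.mem_cons_self
      have h6 : c * f⁻¹ * c * f ∈ U := by
        rw [inv_eq_of_mul_eq_one_right (show f * (f * f) = 1 by rw [← h3 f hf, pow_succ', pow_two])]
        exact h2 f List.mem_cons_self
      have h7 : ∀ n : ℕ, c * (f ^ n)⁻¹ * c * f ^ n ∈ U := by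
        intro n
        induction n with
        | zero => rw [pow_zero, inv_one, mul_one, mul_one, c2]; exact one_mem _
        | succ n ih => rw [pow_succ, mul _ (pow_mem hf n) f hf]; exact mul_mem ih h6
      exact ⟨mul_mem h4 (pow_mem hf n), by rw [mul u h4 _ (pow_mem hf n)]; exact mul_mem h5 (h7 n)⟩
  have h4 := (key hs h1 h2).2
  have h5 : c * u⁻¹ * c = u := by
    have h6 : c * u * c = u⁻¹ := eq_inv_of_mul_eq_one_left (by rw [← hx, pow_two]; group)
    calc c * u⁻¹ * c = c * (c * u * c) * c := by rw [h6]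
      _ = (c * c) * u * (c * c) := by group
      _ = u := by rw [c2, one_mul, mul_one]
  rw [h5] at h4
  have h6 := mul_mem h4 h4
  rwa [show u * u * (u * u) = u ^ 3 * u by rw [pow_succ, pow_two]; group, h3 u hu, one_mul] at h6

/-! ### the checks -/

variable {r : ℕ}

/-- words in the generators -/
abbrev Wd (r : ℕ) : Type := List (Fin r × ℕ)

/-- the small data -/
structure Bs (r : ℕ) where
  P : ℕ
  Q : ℕ
  G0 : List ℕ
  E0 : ℕ
  F0 : ℕ
  bc0 : List ℕ
  G : List ℕ
  Gb : List ℕ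
  E : ℕ
  F : ℕ
  bw : List (Wd r)
  bc : List ℕ
  sw : List (Wd r)
  sb : List ℕ
  si : List ℕ
  gw : List (List ℕ)
  p0 : Wd r
  pw : List (Wd r)
  a0 : ℕ
  pc : List ℕ
  rel : List (List ℕ × List (List ℕ))
  cb : List ℕ
  th : List (List (List ℕ))

/-- the check of the fibre over `c` -/
noncomputable def fibB (f : ℕ → ℕ → ℕ) (one : ℕ) (d : Bs r) (c : Wd r) (e : Fin 4 → Wd r) (ws : List (List ℕ)) : Bool :=
  force (evE f one d.G c) fun c => force (evE f one d.G (e 0)) fun e0 => force (evE f one d.G (e 1)) fun e1 =>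
  force (evE f one d.G (e 2)) fun e2 => force (evE f one d.G (e 3)) fun e3 =>
    Nat.beq (f c c) one && inV f d.E d.F e0 && inV f d.E d.F e1 && inV f d.E d.F e2 && inV f d.E d.F e3 &&
    allL d.bc fun b => force b fun b => force (f b b) fun x => force (f c x) fun x => force (f x c) fun x => force (f x b) fun x =>
      anyL ws fun w => Nat.beq x (evW f one [e0, e1, e2, e3] w)

/-- the check of the small data -/
noncomputable def baseB (C : Cfg) (d : Bs r) (fc : Fin 2 → Wd r) (fe : Fin 2 → Fin 4 → Wd r) : Bool :=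
  withM C fun f => force (oneM C) fun one =>
    (redC C d.P && redC C d.Q && Nat.beq (f d.P d.Q) one && Nat.beq (f d.Q d.P) one &&
    redC C d.E0 && redC C d.F0 && shapeB C d.E0 (fun i k => Nat.beq i k && !(Nat.beq k (C.n - 1))) &&
    shapeB C d.F0 (fun i k => Nat.beq i (C.n - 1) && Nat.beq k (C.n - 1)) &&
    Nat.beq (f (f d.Q d.E0) d.P) d.E && Nat.beq (f (f d.Q d.F0) d.P) d.F &&
    allBelow (fun i => redC C (getO one d.G0 i) && Nat.beq (f (f d.Q (getO one d.G0 i)) d.P) (getO one d.G i)) r &&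
    codesB f one d.G0 d.bw d.bc0 && basB C d.bc0 0) &&
    allBelow (fun i => barB f (redC C) d.E d.F (getO one d.G i) (getO one d.Gb i)) r &&
    codesB f one d.G d.bw d.bc && codesB f one d.Gb d.sw d.sb &&
    allBelow (fun i => Nat.beq (evW f one d.sb (getW d.gw i)) (getO one d.Gb i)) r &&
    allBelow (fun i => redC C (getO 0 d.si i) && Nat.beq (f (getO 0 d.sb i) (getO 0 d.si i)) one) d.sb.length &&
    codesB f one d.G (d.p0 :: d.pw) (d.a0 :: d.pc) && codesB f one d.Gb (d.p0 :: d.pw) (d.a0 :: d.pc) &&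
    allL d.pc (fun a => Nat.beq (f d.F a) d.F) && codesB f one d.Gb [fc 0, fc 1] d.cb &&
    fibB f one d (fc 0) (fe 0) (d.th.getD 0 []) && fibB f one d (fc 1) (fe 1) (d.th.getD 1 [])

/-- the check of the Sylow subgroup -/
noncomputable def sylC (C : Cfg) (d : Bs r) : Bool := withM C fun f => force (oneM C) fun one => pcB f one (d.a0 :: d.pc) d.rel

/-- the involutions of the Sylow subgroup are in the tree -/
noncomputable def invC (C : Cfg) (d : Bs r) (L : Tr) : Bool :=
  withM C fun f => force (oneM C) fun one => force d.a0 fun a0 =>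
    enum2 f (fun X => bif Nat.beq (f X X) one then L.find X fun _ _ _ => true else true) d.pc a0

/-- a record of the tree of the involutions -/
noncomputable def clsP (C : Cfg) (d : Bs r) (L : Tr) (k _a _b _c : ℕ) : Bool := clsN (mulM C) d.sb d.si L k

noncomputable def clsC (C : Cfg) (d : Bs r) (L u : Tr) : Bool := withM C fun f => u.all fun k _ _ _ => clsN f d.sb d.si L k

theorem clsC_sound {d : Bs r} {L u : Tr} (h : clsC C d L u = true) : u.All (clsP C d L) := by
  unfold clsC at h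
  rw [we] at h
  exact Tr.all_sound h

/-- the tag of a record : `128 * (number of the orbit) + (number of s)` -/
noncomputable def tagN (f : ℕ → ℕ → ℕ) (W S : Tr) (k t : ℕ) : Bool :=
  W.find (Nat.shiftRight t 7) fun b _ _ => S.find (Nat.mod t 128) fun s _ _ => Nat.beq (f s k) (f b s)

noncomputable def tagP (C : Cfg) (W S : Tr) (sel : Bool) (k a b _c : ℕ) : Bool := tagN (mulM C) W S k (bif sel then a else b)

noncomputable def tagC (C : Cfg) (W S : Tr) (sel : Bool) (u : Tr) : Bool :=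
  withM C fun f => u.all fun k a b _ => tagN f W S k (bif sel then a else b)

theorem tagC_sound {W S : Tr} {sel : Bool} {u : Tr} (h : tagC C W S sel u = true) : u.All (tagP C W S sel) := by
  unfold tagC at h
  rw [we] at h
  exact Tr.all_sound h

/-- the tree of the subgroup -/
noncomputable def subC (C : Cfg) (d : Bs r) (fS : List (Wd r)) (sc : List ℕ) (sws : List (List ℕ)) (S : Tr) : Bool :=
  withM C fun f => force (oneM C) fun one =>
    codesB f one d.Gb fS sc && S.all fun i s _ _ => Nat.beq (evW f one sc (getW sws i)) s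

/-- the representatives of the orbits are conjugates of the `c_k` by elements `w s` -/
noncomputable def lnkC (C : Cfg) (d : Bs r) (L : List (Fin 2 × Wd r)) (W S N : Tr) : Bool :=
  withM C fun f => force (oneM C) fun one =>
    W.all fun o b _ _ => redC C b && N.find o fun i j _ => getK L (fun p => force (evE f one d.Gb p.2) fun x =>
      Nat.beq (f d.F x) d.F && S.find j fun s _ _ => force (f x s) fun z => Nat.beq (f z b) (f (getO one d.cb p.1.val) z)) i

/-- the statement on the involutions -/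
def Invs {p m r : ℕ} (M : Fin r → Matrix (Fin m) (Fin m) (ZMod p)) (z : Fin m) (n : ℕ) (fc : Fin 2 → Wd r)
    (fe : Fin 2 → Fin 4 → Wd r) (fS : List (Wd r)) (L : List (Fin 2 × Wd r)) : Prop :=
  ∀ (H : Type) [Group H] [Finite H] (gen : Fin r → H) (ρ : H →* Matrix (Fin m) (Fin m) (ZMod p)),
    Function.Injective ρ → (∀ i, ρ (gen i) = M i) → closure (Set.range gen) = ⊤ → ¬ 2 ^ (n + 1) ∣ Nat.card H →
    ∀ c : H, c ^ 2 = 1 → ρ c z z ≠ 1 → ∃ s ∈ gp gen fS, ∃ q ∈ L, ∃ i j l m : ℕ, i < 3 ∧ j < 3 ∧ l < 3 ∧ m < 3 ∧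
      c = (ev gen q.2 * s)⁻¹ * (ev gen (fc q.1) * ev gen (fe q.1 0) ^ i * ev gen (fe q.1 1) ^ j * ev gen (fe q.1 2) ^ l *
        ev gen (fe q.1 3) ^ m) * (ev gen q.2 * s) ∧ ρ (ev gen q.2) z z = 1

theorem fibB_sound [Finite H] (hC : OK C) (hp : C.p = 3) {ρ : H →* Mt C} {e0 f0 : Mt C} (h : Tri ρ e0 f0) {d : Bs r}
    (ef : EF e0 f0 d.E d.F) {gen : Fin r → H} (hG : ∀ i, Cd ρ (gen i) (getO (oneM C) d.G i.val)) {fs : List H}
    (fB : List.Forall₂ (Cd ρ) fs d.bc) (s1 : ∀ f ∈ fs, f ∈ h.piH.ker) (s2 : ∀ v ∈ h.piH.ker, Spn (C.p - 1) fs v) {c : Wd r}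
    {e : Fin 4 → Wd r} {ws : List (List ℕ)} (hf : fibB (mulM C) (oneM C) d c e ws = true) {x : H} (hx : x ^ 2 = 1)
    (hxc : h.piH x = h.piH (ev gen c)) : ∃ i j l m : ℕ, i < 3 ∧ j < 3 ∧ l < 3 ∧ m < 3 ∧
      x = ev gen c * ev gen (e 0) ^ i * ev gen (e 1) ^ j * ev gen (e 2) ^ l * ev gen (e 3) ^ m := by
  unfold fibB at hf
  simp only [fe, Bool.and_eq_true] at hf
  obtain ⟨⟨⟨⟨⟨a1, a2⟩, a3⟩, a4⟩, a5⟩, a6⟩ := hf
  have k := fun w => Cd.evE hC hG w
  have hchar : ((3 : ℕ) : Mt C) = 0 := by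
    rw [← hp, ← Matrix.diagonal_natCast, ZMod.natCast_self]
    exact Matrix.diagonal_zero
  have c2 : ev gen c * ev gen c = 1 := by
    have h1 := (k c).mul hC (k c)
    rw [Nat.eq_of_beq_eq_true a1] at h1
    exact h.inj (h1.eq (Cd.one hC))
  have hu : (ev gen c)⁻¹ * x ∈ h.piH.ker := by
    rw [MonoidHom.mem_ker, map_mul, hxc, ← map_mul, inv_mul_cancel, map_one]
  have h1 := fibre (U := cl [ev gen (e 0), ev gen (e 1), ev gen (e 2), ev gen (e 3)]) (fun _ hu _ hv => h.comm hu hv)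
    (fun v hv => h.pow_char hv hchar) s1 c2 (fun f hf => by
      obtain ⟨b, hb, h2⟩ := forall₂_left fB hf
      obtain ⟨w, -, h3⟩ := anyL_spec (allL_spec a6 b hb)
      have h4 := Cd.evW hC (List.Forall₂.cons (k (e 0)) (List.Forall₂.cons (k (e 1)) (List.Forall₂.cons (k (e 2))
        (List.Forall₂.cons (k (e 3)) List.Forall₂.nil)))) w
      rw [← Nat.eq_of_beq_eq_true h3] at h4
      rw [h.inj (((((k c).mul hC (h2.mul hC h2)).mul hC (k c)).mul hC h2).eq h4)]
      exact evG_mem _ (fun g hg => subset_closure hg) _) hu (s2 _ hu) (by rwa [mul_inv_cancel_left])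
  obtain ⟨i, j, l, m, h2, h3, h4, h5, h6⟩ := four (fun _ hu _ hv => h.comm hu hv) (fun v hv => h.pow_char hv hchar)
    ((inV_iff hC h ef (k _)).1 a2) ((inV_iff hC h ef (k _)).1 a3) ((inV_iff hC h ef (k _)).1 a4) ((inV_iff hC h ef (k _)).1 a5) h1
  refine ⟨i, j, l, m, h2, h3, h4, h5, ?_⟩
  rw [inv_mul_eq_iff_eq_mul] at h6
  rw [h6]
  group

/-- **The involutions.** -/
theorem inv_of (hg : C.good = true) (hp : C.p = 3) {d : Bs r} {fc : Fin 2 → Wd r} {fe' : Fin 2 → Fin 4 → Wd r}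
    {fS : List (Wd r)} {L : List (Fin 2 × Wd r)} {T W S N : Tr} {sc : List ℕ} {sws : List (List ℕ)} {sel : Bool} {n : ℕ}
    (c1 : baseB C d fc fe' = true) (c2 : sylC C d = true) (c3 : invC C d T = true) (c4 : T.All (clsP C d T))
    (c5 : subC C d fS sc sws S = true) (c6 : T.All (tagP C W S sel)) (c7 : lnkC C d L W S N = true) (hn : d.pw.length + 1 = n)
    {M : Fin r → Mt C} (hM : ∀ i, M i = mat C (getO (oneM C) d.G0 i.val)) {z : Fin C.n} (hz : z.val = C.n - 1) :
    Invs M z n fc fe' fS L := by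
  intro H _ _ gen ρ0 hinj0 hgen htop hcard c hc hcz
  have hC : OK C := ⟨good_of_check hg, by omega⟩
  obtain rfl : z = lastI hC := Fin.ext hz
  unfold baseB at c1
  rw [we, fe] at c1
  simp only [Bool.and_eq_true] at c1
  obtain ⟨⟨⟨⟨⟨⟨⟨⟨⟨⟨⟨⟨⟨⟨⟨⟨⟨⟨⟨⟨⟨⟨⟨a1, a2⟩, a3⟩, a4⟩, a5⟩, a6⟩, a7⟩, a8⟩, a9⟩, a10⟩, a11⟩, a12⟩, a13⟩, b5⟩, b6⟩, b8⟩, b9⟩,
    b10⟩, b11⟩, b12⟩, b13⟩, b14⟩, b15⟩, b16⟩ := c1
  have rP := redG_of_check hC.good a1
  have rQ := redG_of_check hC.good a2
  have hPQ : mat C d.P * mat C d.Q = 1 := by rw [← mat_mul hC rP rQ, Nat.eq_of_beq_eq_true a3, mat_one hC]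
  have hQP : mat C d.Q * mat C d.P = 1 := by rw [← mat_mul hC rQ rP, Nat.eq_of_beq_eq_true a4, mat_one hC]
  obtain ⟨φ, hφ⟩ : ∃ φ, φ = cjH hPQ hQP := ⟨_, rfl⟩
  have iφ : Function.Injective φ := hφ ▸ cjH_inj hPQ hQP
  have hcj : ∀ {x y : ℕ}, RedG C x → Nat.beq (mulM C (mulM C d.Q x) d.P) y = true → RedG C y ∧ mat C y = φ (mat C x) := by
    intro x y hx h1
    rw [← Nat.eq_of_beq_eq_true h1, mat_mul hC (red_mul hC rQ hx) rP, mat_mul hC rQ hx, hφ]
    exact ⟨red_mul hC (red_mul hC rQ hx) rP, rfl⟩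
  have hE := hcj (redG_of_check hC.good a5) a9
  have hF := hcj (redG_of_check hC.good a6) a10
  rw [mat_E hC a7] at hE
  rw [mat_F hC a8] at hF
  have ef : EF (φ (1 - FF hC)) (φ (FF hC)) d.E d.F := ⟨hE.1, hF.1, hE.2, hF.2⟩
  have hbar := fun i : Fin r => barB_spec hC ((idem hC).map φ) ef (allBelow_spec b5 i i.2)
  have hG0 : ∀ i, Cd ρ0 (gen i) (getO (oneM C) d.G0 i.val) := fun i =>
    ⟨redG_of_check hC.good (Bool.and_eq_true_iff.1 (allBelow_spec a11 i i.2)).1, (hgen i).trans (hM i)⟩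
  obtain ⟨ρ, hρ⟩ : ∃ ρ, ρ = φ.toMonoidHom.comp ρ0 := ⟨_, rfl⟩
  have hinj : Function.Injective ρ := by
    rw [hρ]
    exact iφ.comp hinj0
  have hG : ∀ i, Cd ρ (gen i) (getO (oneM C) d.G i.val) := fun i => ⟨(hbar i).1, by
    rw [(hcj (hG0 i).1 (Bool.and_eq_true_iff.1 (allBelow_spec a11 i i.2)).2).2, ← (hG0 i).2, hρ]
    rfl⟩
  have h : Tri ρ (φ (1 - FF hC)) (φ (FF hC)) := ⟨(idem hC).map φ, hinj, tri_of_gen ((idem hC).map φ) htop (by
    rintro _ ⟨i, rfl⟩
    rw [(hG i).2]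
    exact (hbar i).2.2.1)⟩
  obtain ⟨s1, s2⟩ : (∀ f ∈ d.bw.map (ev gen), f ∈ h.piH.ker) ∧ ∀ v ∈ h.piH.ker, Spn (C.p - 1) (d.bw.map (ev gen)) v := by
    subst hρ
    have h0 := Tri.comap iφ (idem hC) h
    obtain ⟨h1, h2⟩ := bas_sound hC h0 (codesB_sound hC hG0 a12) a13
    rw [← Tri.ker_comap iφ h0 h]
    exact ⟨h1, fun v hv => h2 v hv fun i hi => absurd hi (Nat.not_lt_zero _)⟩
  have hGb : ∀ i, Cd h.piH (gen i) (getO (oneM C) d.Gb i.val) := fun i =>
    ⟨(hbar i).2.1, by rw [h.piH_apply, (hG i).2]; exact (hbar i).2.2.2⟩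
  have hlast : ∀ g : H, φ (FF hC) * ρ g = φ (FF hC) → ρ0 g (lastI hC) (lastI hC) = 1 := by
    intro g h1
    have h2 : FF hC * ρ0 g = FF hC := iφ (by rw [hρ] at h1; rw [map_mul]; exact h1)
    have h3 := congrFun (congrFun h2 (lastI hC)) (lastI hC)
    unfold FF at h3
    rwa [Matrix.single_mul_apply_same, one_mul, Matrix.single_apply_same] at h3
  generalize φ (1 - FF hC) = e0 at h ef s1 s2 hGb
  generalize φ (FF hC) = f0 at h ef s1 s2 hGb hlast
  have hFF : ∀ g : H, f0 * ρ g = f0 * ρ g * f0 := fun g => by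
    have h1 : f0 * ρ g * (e0 + f0) = f0 * ρ g * f0 := by rw [mul_add, h.tri g, zero_add]
    rwa [h.idem.add, mul_one] at h1
  have hFπ : ∀ g : H, f0 * h.piH g = f0 * ρ g := fun g => by
    rw [h.piH_apply, mul_add, ← mul_assoc, ← mul_assoc, ← mul_assoc, ← mul_assoc, h.idem.FE, h.idem.FF, zero_mul, zero_mul,
      zero_add, ← hFF]
  have fB := codesB_sound hC hG b6
  have fS' := codesB_sound hC hGb b8
  have fP := codesB_sound hC hG b11
  have fPb := codesB_sound hC hGb b12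
  have fC := codesB_sound hC hGb b14
  have hS : ∀ g : H, g ∈ sat h.piH (cl (d.sw.map (ev gen))) := by
    intro g
    have h1 : closure (Set.range gen) ≤ sat h.piH (cl (d.sw.map (ev gen))) := by
      rw [closure_le]
      rintro _ ⟨i, rfl⟩
      have h2 := Cd.evW hC fS' (getW d.gw i)
      rw [Nat.eq_of_beq_eq_true (allBelow_spec b9 i i.2)] at h2
      exact ⟨_, evG_mem _ (fun g hg => subset_closure hg) _, (hGb i).eq h2⟩
    exact h1 (by rw [htop]; exact mem_top g)
  -- the Sylow subgroup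
  unfold sylC at c2
  rw [we, fe] at c2
  have hPc := pcB_sound hC hinj fP c2
  obtain ⟨g, hgP⟩ := sylow (n := n) (by rw [hPc.card, List.length_map, List.length_cons, hn]) hcard hc
  rw [List.map_cons] at hPc hgP fP fPb
  have hK : ∀ x ∈ cl (d.pw.map (ev gen)), f0 * ρ x = f0 := by
    refine closure_ind (by rw [map_one, mul_one]) fun x hx s hs => ?_
    cases fP with
    | cons _ fP =>
      obtain ⟨A, hA, h1⟩ := forall₂_left fP hs
      have h2 := congrArg (mat C) (Nat.eq_of_beq_eq_true (allL_spec b13 A hA))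
      rw [mat_mul hC ef.rF h1.1, ef.mF, ← h1.2] at h2
      rw [map_mul, ← mul_assoc, hx, h2]
  obtain ⟨k, a, b, c', hm, hk⟩ : ∃ k a b c', Tr.Mem k a b c' T ∧ Cd h.piH (g * c * g⁻¹) k := by
    cases hPc with
    | cons h1 h2 _ _ =>
      rcases h2 _ hgP with h3 | ⟨x, hx, h3⟩
      · refine absurd (hlast c ?_) hcz
        have h4 := hK _ h3
        rw [show c = g⁻¹ * (g * c * g⁻¹) * g by group, map_mul, map_mul, ← mul_assoc, ← mul_assoc, hFF g⁻¹,
          mul_assoc (f0 * ρ g⁻¹), h4, ← hFF, mul_assoc, ← map_mul, inv_mul_cancel, map_one, mul_one]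
      · cases fPb with
        | cons h4 h5 =>
          unfold invC at c3
          rw [we, fe, fe] at c3
          obtain ⟨Z, h6, h7⟩ := enum2_sound hC h1 h5 h4 c3 x hx
          rw [← h3] at h6
          have h8 := h6.mul hC h6
          rw [show g * c * g⁻¹ * (g * c * g⁻¹) = g * c ^ 2 * g⁻¹ by rw [pow_two]; group, hc, mul_one, mul_inv_cancel] at h8
          obtain ⟨a, b, c', h9, -⟩ := Tr.find_sound (cond_imp h7 (by rw [h8.code_eq (Cd.one hC) rfl]; exact Nat.beq_refl _))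
          exact ⟨Z, a, b, c', h9, h6⟩
  obtain ⟨k, a, b, c', hm, hk⟩ := cls_sound hC fS' (fun i hi => by
    obtain ⟨h1, h2⟩ := Bool.and_eq_true_iff.1 (allBelow_spec b10 i hi)
    exact ⟨redG_of_check hC.good h1, Nat.eq_of_beq_eq_true h2⟩) c4 (hS g) hm hk
  rw [show g⁻¹ * (g * c * g⁻¹) * g = c by group] at hk
  -- the tag
  unfold subC at c5
  rw [we, fe] at c5
  obtain ⟨d1, d2⟩ := Bool.and_eq_true_iff.1 c5
  have hSt : ∀ {j s a b : ℕ}, Tr.Mem j s a b S → ∃ x ∈ gp gen fS, Cd h.piH x s := by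
    intro j s a b h1
    obtain ⟨sw, h9⟩ : ∃ sw, Nat.beq (evW (mulM C) (oneM C) sc sw) s = true := ⟨_, Tr.all_sound d2 _ _ _ _ h1⟩
    have hs := Cd.evW hC (codesB_sound hC hGb d1) sw
    rw [Nat.eq_of_beq_eq_true h9] at hs
    exact ⟨_, gp_eq gen fS ▸ evG_mem _ (fun g hg => subset_closure hg) _, hs⟩
  unfold lnkC at c7
  rw [we, fe] at c7
  obtain ⟨B, _, _, h1, h2⟩ := Tr.find_sound (c6 k a b c' hm)
  obtain ⟨s, _, _, h3, h4⟩ := Tr.find_sound h2
  obtain ⟨x, hx, hs⟩ := hSt h3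
  obtain ⟨h5, h6⟩ := Bool.and_eq_true_iff.1 (Tr.all_sound c7 _ _ _ _ h1)
  obtain ⟨_, _, _, -, h7⟩ := Tr.find_sound h6
  obtain ⟨q, hq, h7⟩ := getK_spec h7
  obtain ⟨h8, h9⟩ := Bool.and_eq_true_iff.1 h7
  obtain ⟨s', _, _, h3', h4'⟩ := Tr.find_sound h9
  obtain ⟨x', hx', hs'⟩ := hSt h3'
  have rB := redG_of_check hC.good h5
  have hB : Cd h.piH (x * c * x⁻¹) B := ⟨rB, by
    have h10 := (hs.mul hC hk).2
    rw [show mulM C s k = mulM C B s from Nat.eq_of_beq_eq_true h4, mat_mul hC rB hs.1, ← hs.2] at h10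
    rw [map_mul, h10, mul_assoc, ← map_mul, mul_inv_cancel, map_one, mul_one]⟩
  have hw := Cd.evE hC hGb q.2
  have hz := hw.mul hC hs'
  have hcq : Cd h.piH (ev gen (fc q.1)) (getO (oneM C) d.cb q.1.val) := by
    have h10 := Cd.get hC fC q.1.val
    generalize q.1 = i at h10 ⊢
    fin_cases i <;> exact h10
  have h10 := hz.mul hC hB
  rw [Nat.eq_of_beq_eq_true h4'] at h10
  have h11 := h10.eq (hcq.mul hC hz)
  obtain ⟨t, ht⟩ : ∃ t, t = ev gen q.2 * x' := ⟨_, rfl⟩
  rw [← ht] at h11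
  have h12 : fibB (mulM C) (oneM C) d (fc q.1) (fe' q.1) (d.th.getD q.1.val []) = true := by
    generalize q.1 = i
    fin_cases i
    exacts [b15, b16]
  obtain ⟨i, j, l, m, e1, e2, e3, e4, e5⟩ := fibB_sound hC hp h ef hG fB s1 s2 h12 (x := t * (x * c * x⁻¹) * t⁻¹)
    (by rw [conj_pow, conj_pow, hc, mul_one, mul_inv_cancel, mul_one, mul_inv_cancel])
    (by rw [map_mul, h11, ← map_mul, mul_inv_cancel_right])
  refine ⟨x' * x, mul_mem hx' hx, q, hq, i, j, l, m, e1, e2, e3, e4, ?_, hlast _ ?_⟩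
  · rw [← e5, ← mul_assoc (ev gen q.2), ← ht]
    group
  · have h13 := congrArg (mat C) (Nat.eq_of_beq_eq_true h8)
    rwa [mat_mul hC ef.rF hw.1, ef.mF, ← hw.2, hFπ] at h13

end Cfsg.Agent.BX.No33.Cv

private theorem eqs_bx18_covk : _root_.True := by
  try have : _root_.True := by simp only [_root_.Cfsg.Agent.BX.No33.Cv.cl.eq_1]
  try have : _root_.True := by simp only [_root_.Cfsg.Agent.BX.No33.Cv.enum2.eq_1]
  try have : _root_.True := by simp only [_root_.Cfsg.Agent.BX.No33.Cv.cnjB.eq_1]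
  try have : _root_.True := by simp only [_root_.Cfsg.Agent.BX.No33.Cv.pcB.eq_1]
  try have : _root_.True := by simp only [_root_.Cfsg.Agent.BX.No33.Cv.clsN.eq_1]
  try have : _root_.True := by simp only [_root_.Cfsg.Agent.BX.No33.Cv.Wd.eq_1]
  try have : _root_.True := by simp only [_root_.Cfsg.Agent.BX.No33.Cv.fibB.eq_1]
  try have : _root_.True := by simp only [_root_.Cfsg.Agent.BX.No33.Cv.baseB.eq_1]
  try have : _root_.True := by simp only [_root_.Cfsg.Agent.BX.No33.Cv.sylC.eq_1]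
  try have : _root_.True := by simp only [_root_.Cfsg.Agent.BX.No33.Cv.invC.eq_1]
  try have : _root_.True := by simp only [_root_.Cfsg.Agent.BX.No33.Cv.clsP.eq_1]
  try have : _root_.True := by simp only [_root_.Cfsg.Agent.BX.No33.Cv.clsC.eq_1]
  try have : _root_.True := by simp only [_root_.Cfsg.Agent.BX.No33.Cv.tagN.eq_1]
  try have : _root_.True := by simp only [_root_.Cfsg.Agent.BX.No33.Cv.tagP.eq_1]
  try have : _root_.True := by simp only [_root_.Cfsg.Agent.BX.No33.Cv.tagC.eq_1]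
  try have : _root_.True := by simp only [_root_.Cfsg.Agent.BX.No33.Cv.subC.eq_1]
  try have : _root_.True := by simp only [_root_.Cfsg.Agent.BX.No33.Cv.lnkC.eq_1]
  try have : _root_.True := by simp only [_root_.Cfsg.Agent.BX.No33.Cv.Invs.eq_1]
  exact _root_.True.intro
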