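import Cfsg.Agent.BX.No33.CovDef
set_option linter.all false

/-!
# The representatives of the blocks, pure case (helper5; generated)
-/

set_option autoImplicit false
set_option maxRecDepth 100000

namespace Cfsg.Agent.BX.No33.Bk

def p0 : FW :=
  [(1,1), (15,1), (17,1), (0,2), (16,1), (9,1), (17,1), (15,1), (11,1), (0,1), (15,1), (17,1), (15,1), (17,1), (1,1),
   (1,1), (0,1), (1,2), (0,2)]

def p1 : FW :=
  [(8,1), (15,1), (12,1), (15,1), (17,1), (0,1), (15,1), (16,1), (0,1), (1,1), (16,1), (15,3), (1,1), (15,1), (0,1),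
   (15,1), (17,1), (0,1), (1,1), (0,2), (1,2)]

def p2 : FW :=
  [(0,1), (9,1), (16,1), (9,1), (15,1), (0,1), (15,1), (0,1), (15,1), (17,2), (0,1), (16,1), (15,3), (0,1), (16,1),
   (9,1), (0,1), (1,1), (0,2), (1,2)]

def p3 : FW :=
  [(15,2), (0,1), (15,2), (12,1), (1,1), (15,1), (17,1), (15,1), (16,1), (17,1), (15,1), (17,1), (0,1), (15,1),
   (17,1), (12,1), (0,1), (1,1), (0,2), (1,2)]

def p4 : FW :=
  [(15,1), (0,1), (15,3), (12,1), (1,1), (15,1), (0,1), (16,1), (12,1), (17,1), (1,1), (15,1), (0,1), (15,1), (17,1)]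

def p5 : FW :=
  [(15,1), (0,1), (15,2), (12,1), (17,1), (15,3), (17,1), (11,1), (15,1), (0,1), (15,2), (16,1), (0,1), (15,1), (1,2),
   (15,2), (0,1), (1,1), (0,2), (1,2)]

def p6 : FW :=
  [(9,1), (8,1), (15,2), (17,1), (0,1), (15,1), (16,1), (0,1), (15,1), (16,1), (12,1), (0,2), (17,1), (15,5)]

def p7 : FW :=
  [(1,1), (15,1), (17,1), (15,2), (0,1), (16,1), (9,1), (15,1), (17,1), (16,1), (15,1), (16,1), (9,1), (11,1), (15,1),
   (0,1), (0,1), (1,1), (0,2), (1,2)]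

def p8 : FW :=
  [(0,1), (16,1), (9,1), (15,1), (0,1), (15,3), (0,1), (16,1), (9,1), (16,1), (15,2), (16,1), (15,1)]

def p9 : FW :=
  [(1,1), (17,1), (15,1), (16,1), (0,1), (12,1), (15,1), (16,1), (15,1), (17,1), (16,1), (1,1), (15,1), (0,1), (1,1),
   (0,1), (1,2), (0,2)]

def p10 : FW :=
  [(0,1), (1,1), (15,1), (12,1), (17,1), (16,1), (15,1), (17,1), (0,1), (15,1), (0,1), (15,2)]

def p11 : FW :=
  [(0,1), (1,1), (15,1), (12,1), (17,1), (12,1), (17,1), (16,1), (3,1), (17,1), (0,1), (17,1), (15,1), (16,1), (0,1),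
   (1,1), (0,2), (1,2)]

def p12 : FW :=
  [(1,1), (15,1), (1,1), (16,1), (0,1), (15,1), (1,1), (17,1), (15,1), (12,1), (15,1), (12,1), (15,1), (16,1), (17,1),
   (15,1), (1,1), (0,1), (1,2), (0,2)]

def p13 : FW :=
  [(16,1), (15,1), (0,1), (15,1), (12,1), (15,1), (17,1), (16,1), (15,3), (0,1), (17,1), (1,1), (15,3), (0,1), (1,1),
   (0,2), (1,2)]

def p14 : FW :=
  [(9,1), (15,1), (16,1), (0,1), (15,1), (12,1), (17,1), (0,1), (17,1), (15,1), (16,1), (0,1), (17,1), (0,1), (17,1)]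

def p15 : FW :=
  [(0,1), (9,1), (16,1), (17,1), (1,1), (15,1), (16,1), (0,1), (1,1), (9,1), (16,1), (17,1), (15,1), (16,1), (9,1),
   (8,1), (1,1), (0,1), (1,2), (0,2)]

def p16 : FW :=
  [(15,2), (0,1), (15,3), (17,1), (15,4), (12,1), (0,1), (17,1), (16,1), (7,1), (9,1), (1,1), (0,1), (1,2), (0,2)]

def p17 : FW :=
  [(15,1), (12,1), (15,1), (0,1), (15,3), (1,1), (16,1), (15,1), (0,1), (17,1), (15,1), (16,1), (9,1), (15,2), (0,1),
   (17,1), (1,1), (0,1), (1,2), (0,2)]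

def p18 : FW :=
  [(15,1), (1,2), (12,1), (0,1), (15,1), (16,1), (1,1), (17,1), (15,3), (17,2), (15,1), (17,1), (12,1), (15,1), (0,1),
   (1,1), (0,2), (1,2)]

def p19 : FW :=
  [(0,1), (9,1), (15,1), (0,1), (15,2), (16,1), (9,1), (15,1), (16,1), (0,1), (15,2), (16,1), (9,1), (15,4), (0,1),
   (1,1), (0,1), (1,2), (0,2)]

def p20 : FW :=
  [(9,1), (15,3), (17,1), (4,1), (15,2), (17,1), (15,2), (17,1), (15,1), (17,1), (1,1), (4,1), (11,1)]

def p21 : FW :=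
  [(0,1), (9,1), (17,1), (16,1), (9,1), (15,1), (17,1), (15,1), (0,2), (16,1), (9,1), (17,1), (15,1), (0,1), (17,1),
   (15,1), (0,1), (1,1), (0,2), (1,2)]

def p22 : FW :=
  [(9,1), (16,1), (9,1), (15,1), (1,1), (16,1), (1,1), (17,1), (15,4), (0,1), (16,1), (9,1), (8,1), (17,1), (15,1)]

def p23 : FW :=
  [(9,1), (15,1), (0,1), (15,3), (16,1), (12,1), (17,1), (1,1), (15,1), (0,1), (15,1), (17,1), (16,1), (0,2), (9,1),
   (15,1), (16,1), (15,1), (0,1), (1,1), (0,2), (1,2)]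

def p24 : FW :=
  [(0,1), (15,3), (16,1), (9,1), (15,1), (16,1), (1,1), (9,1), (17,1), (15,3), (17,1), (12,1), (15,2)]

def p25 : FW :=
  [(9,1), (15,2), (0,1), (12,1), (0,1), (15,1), (16,1), (15,1), (17,1), (0,1), (15,3), (1,1), (12,1), (15,2), (17,1),
   (15,1)]

def p26 : FW :=
  [(17,1), (15,1), (12,1), (0,1), (15,1), (0,1), (16,1), (1,1), (9,1), (17,1), (12,1), (17,2), (16,1), (1,1), (15,1),
   (1,1), (0,1), (1,2), (0,2)]

def p27 : FW :=
  [(0,1), (9,1), (16,1), (15,2), (16,1), (1,1), (16,1), (9,1), (15,1), (16,1), (9,1), (17,1), (15,1), (0,1), (15,1),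
   (12,1), (17,1), (0,1)]

def p28 : FW :=
  [(0,1), (12,1), (15,2), (0,1), (17,1), (15,2), (17,1), (15,1), (17,1), (16,1), (9,1), (17,1), (1,2), (12,1), (0,2),
   (0,1), (1,1), (0,2), (1,2)]

def p29 : FW :=
  [(0,1), (9,1), (17,1), (0,1), (16,1), (0,1), (15,2), (12,1), (15,1), (16,1), (17,1), (15,1), (0,1), (16,1), (9,1),
   (15,2)]

def p30 : FW :=
  [(16,1), (9,1), (15,3), (16,1), (15,1), (1,1), (12,1), (0,1), (15,3), (16,1), (0,1), (15,1), (0,1), (15,2), (1,1),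
   (0,1), (1,2), (0,2)]

def p31 : FW :=
  [(15,1), (12,1), (1,1), (17,2), (16,1), (0,1), (9,1), (17,1), (16,1), (9,1), (17,1), (0,1), (15,1), (0,1), (1,1),
   (0,1), (1,2), (0,2)]

def p32 : FW :=
  [(15,1), (12,1), (17,1), (15,1), (0,1), (15,1), (0,1), (15,3), (16,1), (15,2), (12,1), (15,2), (17,1), (0,2),
   (15,1), (1,1), (0,1), (1,2), (0,2)]

def p33 : FW :=
  [(15,1), (12,1), (1,1), (15,2), (16,1), (0,1), (15,2), (12,1), (15,1), (16,1), (15,3), (0,2), (15,1), (0,1), (1,1),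
   (0,2), (1,2)]

def p34 : FW :=
  [(9,1), (17,1), (12,1), (0,1), (16,1), (15,2), (16,1), (15,1), (17,1), (0,1), (15,1), (1,1), (15,1), (16,1), (0,2)]

def p35 : FW :=
  [(15,1), (1,1), (15,1), (0,1), (15,2), (12,1), (15,1), (16,1), (15,2), (17,1), (16,1), (15,1), (17,1), (0,1),
   (12,1), (15,2), (1,1), (0,1), (1,2), (0,2)]

def p36 : FW :=
  [(9,1), (15,1), (1,1), (17,1), (15,1), (17,1), (15,1), (12,1), (0,1), (15,2), (16,1), (9,1), (17,1), (15,1), (3,1),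
   (17,1), (15,1), (0,1), (1,1), (0,2), (1,2)]

def p37 : FW :=
  [(1,2), (9,1), (17,1), (16,1), (15,1), (1,2), (12,1), (15,2), (17,1), (15,2), (16,1), (15,1), (0,1), (1,1), (0,2),
   (1,2)]

def p38 : FW :=
  [(17,1), (0,1), (15,1), (0,2), (16,1), (15,1), (12,1), (17,1), (15,1), (0,1), (12,1), (17,2), (15,1), (0,1)]

def p39 : FW :=
  [(16,1), (15,1), (0,1), (12,1), (17,1), (15,4), (12,1), (15,1), (0,1), (16,1), (15,2), (1,1), (17,1), (0,1), (0,1),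
   (1,1), (0,2), (1,2)]

def p40 : FW :=
  [(9,1), (16,2), (0,1), (12,1), (17,1), (16,1), (15,2), (16,1), (9,1), (15,2), (1,1), (17,1), (0,1), (15,1), (0,1),
   (1,1), (0,2), (1,2)]

def p41 : FW :=
  [(0,1), (17,1), (15,4), (17,1), (15,2), (1,1), (16,1), (9,1), (17,1), (0,2), (12,1), (17,1), (15,2), (0,1)]

def p42 : FW :=
  [(0,1), (17,1), (0,1), (17,1), (1,1), (12,1), (15,1), (16,1), (0,2), (12,1), (0,1), (11,1), (15,4), (0,1), (15,1)]

def p43 : FW :=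
  [(9,1), (17,1), (15,1), (0,1), (15,1), (1,1), (15,3), (16,1), (0,1), (9,1), (15,1), (0,1), (17,1), (15,1), (11,1),
   (1,1), (0,1), (1,1), (0,2), (1,2)]

def p44 : FW :=
  [(15,1), (0,1), (15,3), (0,1), (12,1), (15,1), (16,1), (9,1), (17,1), (16,1), (15,1), (17,1), (1,1), (16,1), (1,1),
   (0,1), (1,2), (0,2)]

def p45 : FW :=
  [(15,1), (0,1), (17,1), (15,2), (12,1), (15,1), (0,1), (17,1), (15,4), (16,1), (0,1), (15,1), (12,1), (15,1), (0,1),
   (1,1), (0,2), (1,2)]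

def p46 : FW :=
  [(0,1), (16,2), (12,1), (15,1), (12,1), (0,2), (15,1), (16,1), (9,1), (15,2), (17,1), (1,1), (15,1), (0,1), (17,1),
   (1,1), (0,1), (1,2), (0,2)]

def p47 : FW :=
  [(15,1), (17,2), (11,1), (12,1), (17,1), (0,2), (15,1), (17,1), (15,1), (16,1), (15,1), (1,2), (3,1)]

def p48 : FW :=
  [(0,1), (9,1), (16,1), (15,2), (0,1), (16,1), (15,3), (1,1), (16,1), (0,1), (16,1), (15,1), (0,1), (15,1), (1,1),
   (0,1), (1,2), (0,2)]

def p49 : FW :=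
  [(9,1), (15,2), (0,1), (16,1), (17,1), (15,1), (11,1), (1,1), (15,1), (16,1), (9,1), (15,3), (1,1), (15,1), (17,1),
   (15,2), (1,1), (0,1), (1,2), (0,2)]

def p50 : FW :=
  [(15,1), (0,2), (16,1), (15,2), (17,2), (16,1), (9,1), (15,1), (11,1), (15,1), (0,1), (16,1), (0,1), (15,1), (0,1),
   (1,1), (0,2), (1,2)]

def p51 : FW :=
  [(9,1), (15,1), (0,1), (15,1), (1,1), (16,1), (9,1), (15,1), (17,1), (12,1), (17,1), (1,1), (15,1), (17,1), (15,1),
   (17,1), (16,1), (9,1), (0,1), (1,1), (0,2), (1,2)]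

def p52 : FW :=
  [(0,1), (15,3), (17,1), (15,2), (0,1), (15,1), (16,1), (0,1), (15,1), (0,1), (17,1), (16,2), (9,1), (8,1), (1,1),
   (0,1), (1,2), (0,2)]

def p53 : FW :=
  [(0,1), (9,1), (15,1), (0,1), (15,1), (0,1), (16,1), (17,1), (0,1), (15,2), (17,3), (0,1), (12,1), (15,1), (12,1),
   (1,1), (0,1), (1,2), (0,2)]

def p54 : FW :=
  [(0,1), (16,1), (17,1), (15,1), (1,1), (12,1), (15,2), (16,1), (0,1), (9,1), (15,2), (17,1), (16,1), (9,1), (0,1),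
   (1,1), (0,2), (1,2)]

def p55 : FW :=
  [(0,1), (8,1), (16,1), (15,1), (16,1), (17,1), (0,1), (15,1), (16,1), (15,3), (0,1), (17,1)]

def p56 : FW :=
  [(9,1), (15,2), (0,2), (15,1), (1,1), (16,1), (9,1), (15,1), (1,1), (17,2), (16,1), (9,1), (15,2), (1,1), (0,1),
   (1,2), (0,2)]

def p57 : FW :=
  [(15,1), (0,1), (15,1), (16,2), (0,1), (16,1), (12,1), (1,2), (15,1), (16,2), (0,1), (16,1), (9,1), (1,1), (0,1),
   (1,2), (0,2)]

def p58 : FW :=
  [(12,1), (15,1), (17,1), (16,1), (9,1), (15,3), (17,1), (0,1), (15,1), (0,1), (16,1), (3,1), (16,1), (9,1)]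

def p59 : FW :=
  [(0,1), (15,3), (0,1), (15,2), (17,1), (12,1), (15,1), (0,1), (15,1), (16,1), (0,1), (15,2), (12,1), (1,1), (17,1),
   (0,1), (15,1), (1,1), (0,1), (1,2), (0,2)]

def p60 : FW :=
  [(15,2), (0,1), (15,2), (17,1), (16,1), (9,1), (15,1), (12,1), (0,1), (17,1), (15,3), (16,1), (1,1), (15,1), (1,1),
   (0,1), (1,2), (0,2)]

def p61 : FW :=
  [(0,1), (9,1), (16,2), (17,1), (16,1), (1,1), (16,1), (9,1), (16,1), (17,1), (15,2), (12,1), (0,1), (1,1), (0,1),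
   (1,2), (0,2)]

def p62 : FW :=
  [(0,1), (9,1), (17,1), (15,1), (16,1), (0,2), (9,1), (15,1), (1,1), (16,1), (9,1), (15,1), (12,1), (15,2), (0,1),
   (17,1), (15,1), (1,1), (0,1), (1,2), (0,2)]

def p63 : FW :=
  [(0,1), (17,1), (0,1), (15,2), (16,1), (0,1), (15,5), (16,1), (9,1), (8,1), (16,1), (0,1), (15,1), (17,1), (0,1),
   (1,1), (0,2), (1,2)]

def p64 : FW :=
  [(9,1), (15,1), (0,1), (15,1), (16,1), (3,1), (16,1), (9,1), (15,1), (1,1), (16,1), (1,1), (9,1), (15,2), (12,1),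
   (0,1), (1,1), (0,2), (1,2)]

def p65 : FW :=
  [(15,4), (0,1), (16,1), (9,1), (15,2), (17,1), (0,1), (15,1), (0,1), (12,1), (15,1), (16,1), (9,1), (17,1), (0,1),
   (1,1), (0,1), (1,2), (0,2)]

def p66 : FW :=
  [(9,1), (15,3), (0,1), (15,1), (0,1), (16,1), (9,1), (15,2), (16,1), (15,1), (16,1), (0,1), (1,1), (9,1), (8,1),
   (0,1), (1,1), (0,2), (1,2)]

def p67 : FW :=
  [(0,2), (1,1), (9,1), (15,1), (16,1), (15,3), (16,1), (9,1), (15,1), (0,1), (16,1), (1,1), (15,2), (17,1), (15,1),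
   (17,1), (15,2), (1,1), (0,1), (1,2), (0,2)]

def p68 : FW :=
  [(17,1), (1,1), (15,1), (17,1), (15,1), (0,1), (15,1), (16,1), (15,1), (12,1), (15,1), (0,1), (15,1), (0,1)]

def p69 : FW :=
  [(0,1), (9,1), (17,1), (1,1), (3,1), (16,1), (1,2), (16,1), (15,4), (12,1), (15,1), (17,1)]

def p70 : FW :=
  [(9,1), (15,1), (0,1), (1,1), (12,1), (16,1), (17,1), (16,1), (12,1), (15,1), (17,1), (15,4), (0,1), (1,1), (0,1),
   (1,2), (0,2)]

def p71 : FW :=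
  [(0,1), (15,3), (0,1), (15,2), (12,1), (17,1), (15,3), (17,1), (10,1), (1,1), (15,1), (1,1), (0,1), (1,2), (0,2)]

def p72 : FW :=
  [(0,1), (15,2), (17,1), (0,1), (15,1), (16,1), (12,1), (0,1), (15,3), (17,1), (12,1), (15,1), (0,1), (0,1), (1,1),
   (0,2), (1,2)]

def p73 : FW :=
  [(9,1), (15,4), (16,1), (15,1), (0,1), (15,3), (0,1), (15,1), (12,1), (16,1), (15,2), (16,1), (15,2), (1,1)]

def p74 : FW :=
  [(9,1), (15,2), (0,1), (15,1), (0,1), (16,2), (12,1), (16,1), (15,2), (1,1), (15,1), (0,2), (15,1), (16,1), (9,1)]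

def p75 : FW :=
  [(0,1), (12,1), (15,2), (0,1), (16,1), (9,1), (8,1), (0,1), (17,3), (15,1), (17,1), (15,2), (1,1), (1,1), (0,1),
   (1,2), (0,2)]

def p76 : FW :=
  [(1,1), (16,1), (12,1), (0,1), (17,1), (0,1), (16,1), (17,1), (15,2), (0,2), (17,1), (0,1), (15,1), (17,1), (1,1),
   (0,1), (1,2), (0,2)]

def p77 : FW :=
  [(9,1), (15,1), (1,1), (15,1), (16,1), (0,1), (1,1), (9,1), (16,1), (17,1), (15,1), (16,1), (9,1), (8,1), (0,1),
   (17,1), (16,1)]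

def p78 : FW :=
  [(15,1), (17,2), (0,1), (15,2), (16,1), (0,1), (9,1), (16,1), (1,1), (9,1), (17,1), (11,1), (15,1), (17,1)]

def p79 : FW :=
  [(17,1), (0,1), (15,1), (11,1), (0,1), (15,1), (17,1), (16,1), (0,1), (9,1), (17,1), (16,1), (12,1), (17,1), (15,1),
   (0,1), (1,1), (0,2), (1,2)]

def p80 : FW :=
  [(9,1), (17,1), (15,1), (0,2), (16,1), (0,1), (15,1), (12,1), (15,2), (17,1), (0,1), (16,1), (9,1), (15,1), (0,1),
   (15,1), (1,1), (0,1), (1,2), (0,2)]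

def p81 : FW :=
  [(0,2), (16,1), (15,5), (17,1), (15,1), (16,1), (15,1), (0,1), (15,2), (17,1), (11,1), (1,1), (15,3), (1,1), (0,1),
   (1,2), (0,2)]

def p82 : FW :=
  [(0,1), (16,1), (0,1), (16,2), (15,1), (17,1), (15,1), (17,1), (0,1), (15,1), (12,1), (15,1), (16,1), (1,2), (9,1),
   (1,1), (0,1), (1,2), (0,2)]

def p83 : FW :=
  [(1,1), (16,1), (0,1), (17,1), (15,1), (0,1), (17,3), (16,1), (9,1), (1,1), (0,1), (1,2), (0,2)]

def p84 : FW :=
  [(0,1), (1,1), (12,1), (1,1), (16,1), (15,1), (12,1), (17,1), (0,1), (15,1), (0,1), (15,2), (17,1), (15,1), (17,2),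
   (1,1), (0,1), (1,2), (0,2)]

def p85 : FW :=
  [(15,2), (17,1), (0,1), (17,1), (15,1), (16,1), (0,2), (16,1), (0,1), (12,1), (0,1), (16,1), (15,1), (3,1), (0,1),
   (1,1), (0,2), (1,2)]

def p86 : FW :=
  [(8,1), (15,3), (17,1), (15,1), (12,1), (0,1), (16,2), (3,1), (15,1), (16,1), (17,1), (15,1), (1,1), (0,1), (1,2),
   (0,2)]

def p87 : FW :=
  [(9,1), (12,1), (15,1), (12,1), (16,1), (15,2), (17,2), (0,2), (16,1), (15,3), (1,1), (15,1)]

def p88 : FW :=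
  [(15,2), (12,1), (0,2), (16,1), (17,1), (16,1), (12,1), (15,1), (17,1), (16,1), (0,1), (0,1), (1,1), (0,2), (1,2)]

def p89 : FW :=
  [(9,1), (15,2), (0,1), (15,1), (17,1), (15,1), (1,1), (16,1), (9,1), (15,1), (16,1), (1,1), (17,1), (15,1), (0,1),
   (1,1), (0,1), (1,2), (0,2)]

def p90 : FW :=
  [(16,1), (9,1), (16,1), (9,1), (15,1), (16,1), (9,1), (17,1), (1,1), (15,1), (0,1), (11,1), (16,1), (15,1), (0,1),
   (17,1), (0,1), (1,1), (0,1), (1,2), (0,2)]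

def p91 : FW :=
  [(1,1), (9,1), (16,1), (15,1), (0,1), (1,1), (16,1), (15,1), (12,1), (15,1), (17,1), (15,1), (17,1), (1,1), (15,3),
   (0,1), (1,1), (0,2), (1,2)]

def p92 : FW :=
  [(0,1), (15,1), (16,1), (3,1), (9,1), (8,1), (15,1), (16,1), (0,1), (15,1), (17,1), (1,1), (17,1)]

def p93 : FW :=
  [(9,1), (17,1), (0,1), (15,1), (0,1), (16,2), (9,1), (16,1), (17,1), (15,2), (12,1), (0,1), (15,1), (0,1), (15,1),
   (0,1), (1,1), (0,2), (1,2)]

def p94 : FW :=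
  [(9,1), (15,2), (0,1), (15,3), (16,1), (1,1), (16,1), (15,1), (16,1), (12,1), (15,1), (16,1), (0,1), (16,1), (9,1),
   (1,1), (0,1), (1,2), (0,2)]

def p95 : FW :=
  [(15,1), (12,1), (15,2), (1,1), (17,2), (16,1), (9,1), (15,2), (1,1), (15,3), (1,1), (16,1), (12,1)]

def p96 : FW :=
  [(16,1), (15,1), (1,2), (15,1), (0,1), (15,2), (16,1), (9,1), (16,1), (1,1), (9,1), (16,1), (9,1), (15,1), (16,1),
   (1,1), (9,1)]

def p97 : FW :=
  [(1,1), (9,1), (15,1), (16,1), (9,1), (15,2), (0,1), (16,1), (9,1), (15,1), (1,2), (15,1), (16,1), (9,1), (8,1),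
   (1,1), (16,1)]

def p98 : FW :=
  [(17,1), (1,1), (12,1), (15,2), (16,2), (9,1), (15,2), (17,1), (1,1), (15,2), (16,1), (9,1), (15,1), (0,1), (1,1),
   (0,2), (1,2)]

def p99 : FW :=
  [(1,2), (9,1), (16,1), (15,2), (0,1), (15,1), (17,1), (15,3), (0,1), (17,1), (15,2), (16,1), (0,1), (0,1), (1,1),
   (0,2), (1,2)]

def p100 : FW :=
  [(15,2), (12,1), (1,1), (15,1), (0,1), (15,1), (17,1), (15,1), (16,1), (0,1), (9,1), (15,2), (0,1), (15,1), (17,1),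
   (16,1), (1,1), (0,1), (1,2), (0,2)]

def p101 : FW :=
  [(17,1), (0,2), (12,1), (17,1), (16,1), (15,1), (0,1), (17,1), (16,1), (1,1), (9,1), (17,1), (12,1), (15,1), (1,1),
   (0,1), (1,2), (0,2)]

def p102 : FW :=
  [(15,1), (0,1), (12,1), (15,3), (17,1), (16,1), (0,1), (15,1), (1,1), (15,1), (16,1), (15,1), (17,1)]

def p103 : FW :=
  [(8,1), (0,1), (15,3), (17,1), (15,1), (0,1), (15,1), (12,1), (17,2), (15,1), (16,1), (3,1), (17,1), (0,1), (1,1),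
   (0,1), (1,2), (0,2)]

def p104 : FW :=
  [(0,1), (9,1), (15,2), (16,1), (17,1), (3,1), (15,1), (17,1), (12,1), (15,2), (16,1), (9,1), (16,1), (0,2), (9,1)]

def p105 : FW :=
  [(15,4), (1,1), (12,1), (0,1), (15,1), (16,1), (17,1), (16,1), (0,1), (12,1), (16,1), (0,1), (17,1), (1,1), (0,1),
   (1,2), (0,2)]

def p106 : FW :=
  [(3,1), (8,1), (1,1), (15,2), (16,1), (12,1), (17,1), (15,4), (17,1), (0,2), (15,1), (1,1), (0,1), (1,2), (0,2)]

def p107 : FW :=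
  [(0,1), (12,1), (15,1), (0,1), (15,1), (0,2), (16,1), (15,1), (12,1), (15,2), (1,1), (15,1), (16,1), (0,1), (1,1),
   (0,1), (1,2), (0,2)]

def p108 : FW :=
  [(9,1), (15,2), (16,1), (9,1), (17,1), (15,2), (0,1), (17,1), (15,1), (16,1), (1,1), (15,1), (0,1)]

def p109 : FW :=
  [(9,1), (17,1), (16,1), (0,1), (12,1), (15,1), (16,1), (0,1), (9,1), (15,1), (17,1), (15,2), (1,1), (15,1), (16,1),
   (15,3), (1,1), (0,1), (1,2), (0,2)]

def p110 : FW :=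
  [(0,2), (17,1), (0,2), (1,1), (16,1), (15,1), (0,1), (12,1), (15,1), (0,1), (17,1), (15,1), (12,1), (15,2), (16,2),
   (0,1), (1,1), (0,2), (1,2)]

def p111 : FW :=
  [(15,2), (0,1), (12,1), (15,2), (16,1), (15,3), (0,1), (17,1), (0,1), (16,1), (0,1), (9,1), (17,1), (12,1), (0,1),
   (1,1), (0,2), (1,2)]

def p112 : FW :=
  [(0,2), (9,1), (15,1), (17,1), (16,1), (1,1), (9,1), (8,1), (17,1), (15,3), (16,1), (1,1), (12,1), (16,1), (15,2),
   (0,1), (1,1), (0,2), (1,2)]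

def p113 : FW :=
  [(9,1), (15,2), (0,1), (15,2), (17,1), (15,1), (16,1), (0,1), (12,1), (15,2), (17,1), (1,1), (15,1), (0,1), (1,1),
   (0,1), (1,2), (0,2)]

def p114 : FW :=
  [(15,2), (17,1), (12,1), (1,1), (15,1), (17,1), (15,2), (16,1), (15,1), (12,1), (0,2), (15,1)]

def p115 : FW :=
  [(9,1), (15,1), (16,1), (0,1), (9,1), (17,1), (0,2), (17,1), (16,1), (15,2), (16,1), (9,1), (15,3), (1,1), (0,1),
   (1,1), (0,2), (1,2)]

def p116 : FW :=
  [(1,1), (9,1), (15,1), (1,2), (12,1), (0,1), (15,1), (16,1), (1,1), (15,1), (17,1), (0,1), (12,1), (15,5), (17,1),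
   (1,1), (0,1), (1,2), (0,2)]

def p117 : FW :=
  [(0,1), (9,1), (8,1), (15,4), (16,1), (15,5), (16,1), (0,1), (15,1), (1,1), (15,2), (0,1), (1,1), (0,2), (1,2)]

def p118 : FW :=
  [(1,1), (15,1), (0,1), (15,2), (16,1), (15,2), (1,1), (16,2), (15,2), (12,1), (1,1), (15,2), (12,1)]

def p119 : FW :=
  [(9,1), (8,1), (15,1), (0,1), (15,2), (0,1), (16,1), (15,1), (0,1), (15,3), (0,1), (15,1), (16,1), (17,1), (15,2),
   (17,1), (1,1), (0,1), (1,2), (0,2)]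

def p120 : FW :=
  [(17,1), (15,1), (1,1), (15,1), (17,1), (16,1), (9,1), (17,1), (15,1), (16,2), (9,1), (8,1), (17,1), (1,1)]

def p121 : FW :=
  [(15,1), (0,1), (12,1), (0,1), (15,1), (17,1), (15,1), (12,1), (16,1), (0,1), (15,1), (16,1), (0,1), (9,1), (15,4),
   (17,1)]

def p122 : FW :=
  [(9,1), (15,1), (0,1), (16,1), (15,1), (12,1), (17,1), (15,1), (0,1), (15,1), (12,1), (15,1), (0,1), (15,1), (16,1),
   (0,1), (15,1), (17,1), (0,1), (15,1), (1,1), (0,1), (1,2), (0,2)]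

def p123 : FW :=
  [(9,1), (16,1), (0,2), (15,1), (16,1), (9,1), (17,1), (15,1), (0,2), (17,1), (12,1), (0,1), (1,1), (0,2), (1,2)]

def p124 : FW :=
  [(15,1), (12,1), (17,1), (1,1), (15,1), (17,1), (15,1), (17,1), (16,1), (0,2), (1,2), (16,1), (9,1), (17,1), (15,1),
   (0,1), (1,1), (1,1), (0,1), (1,2), (0,2)]

def p125 : FW :=
  [(1,1), (16,1), (15,1), (12,1), (17,1), (15,1), (16,1), (15,2), (0,1), (15,3), (0,1), (17,1), (12,1)]

def p126 : FW :=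
  [(0,1), (9,1), (16,1), (15,1), (0,1), (17,1), (15,1), (0,1), (1,1), (16,1), (9,1), (15,2), (16,1), (17,1), (15,1),
   (12,1), (0,1), (1,1), (0,2), (1,2)]

def p127 : FW :=
  [(9,1), (15,2), (0,1), (12,1), (0,1), (1,1), (16,1), (0,2), (17,1), (15,2), (17,2), (12,1), (17,1), (1,1), (15,2)]

def p128 : FW :=
  [(9,1), (8,1), (15,3), (0,1), (16,1), (0,1), (1,1), (15,1), (16,1), (12,1), (15,1), (0,2), (15,1), (0,1), (1,1),
   (0,1), (1,2), (0,2)]

def p129 : FW :=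
  [(9,1), (15,4), (17,1), (12,1), (15,2), (1,1), (12,1), (15,1), (16,1), (1,1), (15,1), (17,1), (1,1), (0,1), (1,2),
   (0,2)]

def p130 : FW :=
  [(9,1), (15,1), (12,1), (15,2), (0,1), (12,1), (15,2), (16,1), (0,1), (1,2), (16,1), (9,1), (17,2), (0,1), (15,1),
   (1,1), (15,2)]

def p131 : FW :=
  [(9,1), (16,1), (1,1), (9,1), (16,1), (15,2), (1,1), (15,1), (0,1), (15,1), (16,1), (9,1), (15,1), (17,1), (15,1),
   (12,1), (15,1), (17,1), (1,1), (0,1), (1,2), (0,2)]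

def p132 : FW :=
  [(8,1), (15,1), (17,1), (15,2), (0,1), (17,1), (15,2), (12,1), (15,3), (16,1), (0,1), (1,1), (15,1), (16,1)]

def p133 : FW :=
  [(0,1), (9,1), (15,1), (0,1), (15,2), (0,1), (16,1), (15,1), (16,2), (0,1), (15,2), (12,1), (15,2), (16,1), (0,1)]

def p134 : FW :=
  [(0,1), (15,4), (16,1), (9,1), (15,2), (0,1), (15,1), (16,1), (9,1), (15,1), (1,2), (16,1), (9,1), (15,1), (12,1),
   (15,2)]

def p135 : FW :=
  [(9,1), (15,1), (17,1), (15,1), (0,1), (15,1), (1,1), (15,1), (16,1), (12,1), (15,1), (0,1), (15,2), (17,1), (15,4),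
   (1,1), (15,1), (1,1), (0,1), (1,2), (0,2)]

def p136 : FW :=
  [(0,1), (17,1), (16,1), (9,1), (16,1), (15,4), (1,1), (15,1), (16,1), (0,1), (9,1), (15,1), (17,1)]

def p137 : FW :=
  [(0,1), (9,1), (15,1), (12,1), (15,1), (17,1), (5,1), (15,1), (17,2), (15,2), (17,1), (0,1), (0,1), (1,1), (0,2),
   (1,2)]

def p138 : FW :=
  [(1,1), (16,1), (15,1), (0,1), (15,2), (0,1), (15,1), (0,1), (12,1), (17,1), (15,1), (17,1), (16,1), (0,2), (9,1),
   (15,1)]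

def p139 : FW :=
  [(15,3), (17,1), (15,1), (16,1), (1,1), (9,1), (16,1), (12,1), (15,2), (4,1), (15,1), (17,1), (15,1), (0,1)]

def p140 : FW :=
  [(15,1), (11,1), (15,1), (16,1), (0,1), (9,1), (15,2), (16,1), (9,1), (17,1), (0,1), (15,1), (16,1), (0,1), (1,1),
   (17,1), (15,1)]

def p141 : FW :=
  [(16,1), (0,1), (9,1), (8,1), (15,2), (17,1), (15,3), (16,1), (15,1), (0,1), (17,1), (0,2), (16,1), (1,1), (0,1),
   (1,2), (0,2)]

def p142 : FW :=
  [(0,1), (9,1), (16,2), (9,1), (15,1), (1,1), (12,1), (0,1), (17,1), (16,1), (15,1), (17,1), (0,1), (16,1), (15,1),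
   (0,1), (1,1), (0,2), (1,2)]

def p143 : FW :=
  [(0,1), (4,1), (9,1), (17,1), (16,1), (9,1), (16,1), (15,2), (17,1), (15,2), (12,1), (0,1), (15,2), (0,1), (15,1)]

def p144 : FW :=
  [(16,1), (0,1), (3,1), (9,1), (17,1), (0,1), (1,1), (16,1), (17,1), (15,1), (12,1), (0,1), (1,1), (0,2), (1,2)]

def p145 : FW :=
  [(11,1), (15,1), (0,1), (17,2), (1,1), (15,1), (16,1), (0,1), (9,1), (15,1), (0,1), (15,1), (1,1), (0,1), (1,2),
   (0,2)]

def p146 : FW :=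
  [(9,1), (15,1), (17,1), (15,1), (0,2), (16,1), (9,1), (17,1), (15,3), (1,1), (17,1), (15,1), (16,1), (1,1), (17,1),
   (1,1), (0,1), (1,2), (0,2)]

def p147 : FW :=
  [(0,2), (17,1), (15,1), (16,1), (0,1), (9,1), (15,3), (16,1), (0,1), (9,1), (15,1), (17,1), (0,1), (1,1), (0,2),
   (1,2)]

def p148 : FW :=
  [(9,1), (15,1), (0,1), (1,1), (15,1), (16,1), (9,1), (15,2), (1,1), (15,2), (16,1), (0,1), (9,1), (8,1), (16,1),
   (15,1), (1,1), (15,1), (1,1), (0,1), (1,2), (0,2)]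

def p149 : FW :=
  [(9,1), (16,1), (9,1), (15,3), (0,1), (15,1), (16,1), (15,2), (16,1), (0,1), (15,1), (16,1), (15,2), (1,1), (15,1),
   (0,1)]

def p150 : FW :=
  [(9,1), (15,1), (0,2), (16,1), (9,1), (15,1), (16,1), (12,1), (15,3), (17,1), (12,1), (15,1), (16,1), (1,1), (15,1),
   (17,1)]

def p151 : FW :=
  [(9,1), (16,1), (9,1), (16,2), (0,1), (15,1), (0,1), (15,1), (16,1), (1,1), (9,1), (15,2), (16,1), (9,1), (8,1),
   (15,1), (0,1), (15,2), (0,1), (1,1), (0,1), (1,2), (0,2)]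

def p152 : FW :=
  [(15,3), (12,1), (15,1), (0,1), (16,1), (15,4), (16,1), (9,1), (15,1), (17,1), (0,1), (12,1), (1,1), (17,1)]

def p153 : FW :=
  [(9,1), (8,1), (16,1), (17,1), (15,1), (0,1), (15,1), (0,1), (15,2), (0,1), (16,1), (1,1), (15,3), (17,1), (15,1),
   (12,1), (0,1), (1,1), (0,2), (1,2)]

def p154 : FW :=
  [(16,1), (9,1), (15,1), (0,1), (1,2), (16,1), (9,1), (17,1), (16,1), (15,2), (16,1), (9,1), (17,1), (0,1), (12,1),
   (1,1), (0,1), (1,2), (0,2)]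

def p155 : FW :=
  [(15,1), (0,1), (16,1), (15,1), (0,1), (15,1), (16,1), (0,1), (15,1), (0,1), (17,1), (12,1), (17,1), (16,1), (9,1),
   (16,1), (9,1)]

def p156 : FW :=
  [(9,1), (15,1), (1,1), (12,1), (17,1), (15,1), (4,1), (17,1), (16,1), (9,1), (16,1), (9,1), (15,3), (16,1)]

def p157 : FW :=
  [(0,1), (16,1), (9,1), (15,1), (12,1), (15,1), (12,1), (15,1), (0,1), (17,1), (16,1), (9,1), (15,1), (17,1), (15,3),
   (1,1), (15,2), (0,1), (1,1), (0,2), (1,2)]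

def p158 : FW :=
  [(1,1), (9,1), (12,1), (17,1), (16,1), (0,1), (15,1), (0,1), (15,1), (16,1), (0,1), (9,1), (15,1), (17,1), (0,1),
   (12,1), (17,2), (0,1), (1,1), (0,2), (1,2)]

def p159 : FW :=
  [(15,1), (1,1), (15,2), (0,1), (15,1), (17,1), (12,1), (15,4), (12,1), (15,1), (17,1), (16,1), (0,2), (1,2), (3,2)]

def p160 : FW :=
  [(9,1), (12,1), (0,1), (15,2), (17,1), (12,1), (15,1), (0,1), (16,1), (17,1), (15,1), (1,1), (15,1), (16,1), (15,2),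
   (1,1), (15,1), (1,1), (0,1), (1,2), (0,2)]

def p161 : FW :=
  [(12,1), (15,1), (17,2), (16,1), (15,1), (0,1), (15,3), (12,1), (1,1), (16,1), (15,3), (0,1)]

def p162 : FW :=
  [(9,1), (16,1), (15,1), (16,1), (15,1), (1,1), (17,2), (16,1), (0,1), (9,1), (8,1), (15,1), (1,1), (15,2), (1,1),
   (0,1), (1,2), (0,2)]

def p163 : FW :=
  [(9,1), (15,1), (0,1), (15,1), (16,1), (1,1), (9,1), (15,1), (16,1), (15,1), (0,1), (16,1), (1,1), (9,1), (16,1),
   (9,1), (0,1), (1,1), (0,2), (1,2)]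

def p164 : FW :=
  [(17,1), (15,4), (1,1), (16,1), (9,1), (15,2), (17,1), (15,1), (1,1), (15,1), (16,1), (1,1), (9,1), (15,2)]

def p165 : FW :=
  [(15,5), (0,1), (12,1), (16,1), (15,1), (12,1), (15,1), (17,1), (15,1), (17,1), (1,1), (15,2)]

def p166 : FW :=
  [(9,1), (15,1), (17,1), (15,1), (16,1), (15,1), (17,1), (16,1), (15,3), (1,1), (16,1), (3,1), (1,1), (0,1), (1,2),
   (0,2)]

def p167 : FW :=
  [(0,1), (12,1), (15,2), (12,1), (17,1), (12,1), (16,1), (15,5), (0,1), (17,1), (16,1)]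

def p168 : FW :=
  [(1,1), (12,1), (0,2), (1,1), (15,1), (0,1), (16,1), (15,1), (12,1), (15,1), (17,1), (15,4), (17,1), (0,1), (15,2),
   (0,1), (1,1), (0,2), (1,2)]

def p169 : FW :=
  [(17,1), (15,2), (16,1), (0,1), (15,1), (1,1), (16,1), (0,1), (12,1), (17,1), (0,1), (15,4), (16,1), (9,1), (0,1),
   (1,1), (0,2), (1,2)]

def p170 : FW :=
  [(15,1), (17,1), (15,1), (16,1), (9,1), (15,1), (0,1), (15,1), (1,1), (15,1), (16,1), (0,1), (9,1), (15,2), (17,1),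
   (0,1), (15,1), (12,1)]

def p171 : FW :=
  [(15,4), (16,1), (12,1), (15,4), (0,1), (16,1), (15,1), (12,1), (17,2), (0,1), (1,1), (0,1), (1,2), (0,2)]

def p172 : FW :=
  [(1,2), (9,1), (15,1), (1,1), (16,1), (0,1), (15,4), (17,1), (15,1), (0,1), (15,4), (17,1), (12,1), (1,1), (0,1),
   (1,2), (0,2)]

def p173 : FW :=
  [(0,1), (12,1), (15,2), (1,1), (12,1), (15,1), (17,1), (16,1), (0,1), (9,1), (15,1), (0,1), (15,1), (0,1), (15,2),
   (17,1), (16,1), (0,1), (1,1), (0,2), (1,2)]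

def p174 : FW :=
  [(3,1), (16,1), (12,1), (15,1), (16,1), (1,1), (3,2), (9,1), (16,1), (0,1), (12,1)]

def p175 : FW :=
  [(9,1), (11,1), (1,1), (15,1), (17,1), (16,1), (9,1), (15,1), (17,1), (16,1), (0,2), (1,1), (16,1), (15,1), (0,1),
   (15,1)]

def p176 : FW :=
  [(0,2), (9,1), (15,1), (16,1), (9,1), (17,1), (15,1), (16,1), (17,1), (0,1), (15,1), (0,1), (15,1), (16,1), (9,1),
   (16,1), (15,1), (0,1), (1,1), (0,1), (1,2), (0,2)]

def p177 : FW :=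
  [(9,1), (15,1), (0,1), (16,1), (0,1), (9,1), (15,1), (0,1), (15,1), (17,1), (16,1), (9,1), (8,1), (15,4), (0,1),
   (15,1), (17,1), (0,1), (1,1), (0,2), (1,2)]

def p178 : FW :=
  [(15,2), (17,1), (15,2), (12,1), (16,1), (1,1), (16,1), (15,3), (0,1), (15,1), (1,1), (16,1), (9,1), (17,1), (0,1),
   (1,1), (0,2), (1,2)]

def p179 : FW :=
  [(0,1), (16,1), (0,1), (16,1), (9,1), (15,1), (1,1), (16,1), (12,1), (15,1), (17,1), (15,1), (0,1), (15,3), (0,1),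
   (17,1), (1,1), (0,1), (1,2), (0,2)]

def p180 : FW :=
  [(9,1), (16,1), (1,1), (15,1), (16,1), (15,2), (12,1), (0,1), (15,1), (17,1), (15,1), (1,1), (16,1), (0,1), (17,1),
   (15,1), (1,1), (0,1), (1,2), (0,2)]

def p181 : FW :=
  [(17,2), (15,1), (16,1), (1,1), (16,1), (9,1), (15,1), (0,1), (12,1), (0,1), (15,1), (17,1), (15,1), (17,1), (0,1),
   (1,1), (0,2), (1,2)]

def p182 : FW :=
  [(15,1), (12,1), (0,1), (15,1), (17,1), (0,1), (16,1), (9,1), (15,2), (16,1), (0,1), (15,1), (12,1), (15,2), (17,1),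
   (0,1), (1,1), (0,2), (1,2)]

def p183 : FW :=
  [(9,1), (16,2), (15,2), (16,1), (1,1), (3,1), (9,1), (15,1), (16,1), (9,1), (16,1)]

def p184 : FW :=
  [(9,1), (16,1), (0,1), (1,1), (9,1), (17,1), (15,2), (16,1), (12,1), (15,3), (17,1), (15,3), (1,1), (0,1), (1,1),
   (0,2), (1,2)]

def p185 : FW :=
  [(3,1), (15,1), (16,1), (0,1), (9,1), (17,1), (0,1), (17,2), (12,1), (15,2), (0,1), (17,1), (0,1), (1,1), (0,2),
   (1,2)]

def p186 : FW :=
  [(15,2), (0,2), (15,1), (16,1), (1,1), (12,1), (15,1), (17,1), (16,1), (12,1), (17,1), (15,3)]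

def p187 : FW :=
  [(17,1), (1,1), (15,1), (1,1), (15,1), (16,1), (15,2), (16,1), (9,1), (15,1), (16,1), (0,1), (17,1), (15,1), (0,1),
   (1,1), (0,2), (1,2)]

def p188 : FW :=
  [(1,1), (8,1), (16,1), (15,3), (17,1), (15,2), (0,1), (17,1), (16,1), (15,2), (16,1), (1,2)]

def p189 : FW :=
  [(8,1), (16,1), (15,1), (17,1), (15,3), (1,1), (15,2), (16,1), (1,1), (15,1), (16,1), (15,1), (17,1), (15,1), (0,1)]

def p190 : FW :=
  [(15,1), (17,1), (0,1), (15,1), (17,1), (16,1), (12,1), (0,1), (17,1), (1,1), (15,1), (17,1), (15,1), (0,1), (1,1),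
   (0,2), (1,2)]

def p191 : FW :=
  [(0,1), (9,1), (15,1), (12,1), (15,2), (16,1), (0,1), (17,1), (15,1), (1,1), (15,1), (1,1), (16,1), (17,1)]

def p192 : FW :=
  [(15,1), (16,2), (1,1), (9,1), (16,1), (12,1), (0,1), (15,2), (16,1), (0,1), (15,2), (0,1), (12,1), (0,1), (1,1),
   (0,2), (1,2)]

def p193 : FW :=
  [(0,2), (16,1), (0,1), (9,1), (15,1), (1,1), (12,1), (17,1), (15,1), (16,1), (17,1), (15,4)]

def p194 : FW :=
  [(17,1), (0,1), (15,1), (1,1), (15,1), (16,1), (9,1), (16,1), (9,1), (15,4), (16,1), (9,1), (8,1), (0,1), (15,1),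
   (17,1), (0,1), (0,1), (1,1), (0,2), (1,2)]

def p195 : FW :=
  [(9,1), (15,2), (16,1), (15,1), (16,1), (17,1), (16,1), (3,1), (9,1), (16,1), (9,1), (8,1), (15,1), (1,1), (15,1),
   (17,1), (1,1), (0,1), (1,2), (0,2)]

def p196 : FW :=
  [(17,2), (12,1), (1,1), (15,1), (12,1), (17,1), (15,4), (17,1), (16,1), (0,1), (1,1), (3,1), (15,1), (1,1), (0,1),
   (1,2), (0,2)]

def p197 : FW :=
  [(0,1), (1,1), (9,1), (12,1), (0,1), (17,3), (16,1), (0,1), (9,1), (15,1), (12,1), (15,1), (0,1), (15,1), (17,1),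
   (1,1), (0,1), (1,2), (0,2)]

def p198 : FW :=
  [(9,1), (16,1), (15,1), (16,1), (15,2), (0,1), (12,1), (1,1), (16,3), (1,1), (15,3), (1,1), (0,1), (1,1), (0,2),
   (1,2)]

def p199 : FW :=
  [(0,1), (9,1), (16,1), (9,1), (17,1), (0,1), (16,1), (0,1), (9,1), (15,2), (16,1), (9,1), (17,1), (0,1), (12,1),
   (15,1), (1,1), (0,1), (1,2), (0,2)]

def p200 : FW :=
  [(9,1), (17,1), (15,3), (17,1), (0,1), (16,1), (15,1), (16,1), (9,1), (15,1), (16,1), (12,1), (15,4), (1,1)]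

def p201 : FW :=
  [(15,1), (17,1), (15,1), (17,1), (4,1), (12,1), (15,1), (12,1), (17,1), (1,1), (17,1), (15,2), (1,1), (0,1), (1,2),
   (0,2)]

def p202 : FW :=
  [(15,3), (17,1), (15,1), (1,1), (12,1), (17,1), (15,2), (12,1), (16,1), (15,1), (1,1), (16,1), (0,2)]

def p203 : FW :=
  [(0,1), (15,2), (17,1), (15,1), (12,1), (15,1), (12,1), (16,1), (17,1), (15,1), (0,1), (16,1), (9,1), (15,2), (1,1),
   (0,1), (1,1), (0,2), (1,2)]

def p204 : FW :=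
  [(15,1), (12,1), (17,1), (0,1), (1,1), (12,1), (0,1), (16,1), (17,1), (15,1), (1,1), (15,3), (0,1), (1,1), (0,1),
   (1,2), (0,2)]

def p205 : FW :=
  [(1,2), (9,1), (12,1), (15,1), (12,1), (0,1), (16,3), (0,1), (15,1), (1,1), (0,1), (1,2), (0,2)]

def p206 : FW :=
  [(1,2), (9,1), (15,1), (17,2), (16,1), (0,1), (9,1), (15,1), (16,1), (0,1), (15,2), (16,1), (9,1), (1,1), (0,1),
   (1,2), (0,2)]

def p207 : FW :=
  [(1,1), (15,1), (17,1), (16,1), (1,1), (17,1), (12,1), (15,1), (12,1), (15,1), (17,1), (15,2), (17,1), (0,1), (1,1),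
   (0,2), (1,2)]

def p208 : FW :=
  [(0,1), (9,1), (15,1), (16,1), (9,1), (15,1), (17,1), (1,1), (15,1), (16,1), (9,1), (15,2), (12,1), (15,2), (17,1),
   (15,2), (0,1)]

def p209 : FW :=
  [(15,1), (12,1), (17,2), (16,1), (9,1), (15,3), (1,1), (16,1), (0,1), (12,1), (15,2), (0,2)]

def p210 : FW :=
  [(15,1), (0,1), (1,1), (15,1), (1,1), (16,1), (1,1), (15,3), (0,1), (17,1), (15,1), (12,1), (15,3), (17,1), (0,1),
   (1,1), (0,2), (1,2)]

def p211 : FW :=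
  [(16,1), (0,1), (9,1), (15,1), (17,1), (0,2), (16,1), (17,1), (12,1), (0,1), (15,1), (17,1), (15,2), (17,1), (12,1),
   (0,1)]

def p212 : FW :=
  [(9,1), (15,2), (17,1), (15,1), (0,1), (15,1), (16,1), (1,1), (9,1), (15,2), (0,1), (12,1), (0,1), (17,1), (16,1),
   (1,1), (0,1), (1,2), (0,2)]

def p213 : FW :=
  [(0,1), (17,2), (15,2), (1,1), (16,1), (9,1), (15,1), (17,1), (0,1), (12,1), (15,1), (12,1), (15,2), (17,1), (0,1)]

def p214 : FW :=
  [(9,1), (12,1), (17,1), (0,1), (15,3), (1,1), (15,1), (16,1), (9,1), (15,2), (17,1), (12,1), (15,1), (0,1), (15,1),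
   (16,1), (15,2)]

def p215 : FW :=
  [(9,1), (17,3), (16,1), (9,1), (8,1), (15,1), (0,2), (15,1), (17,1), (0,1), (16,1), (1,2)]

def p216 : FW :=
  [(9,1), (15,1), (1,1), (15,1), (16,1), (9,1), (16,1), (0,2), (15,1), (16,1), (0,1), (15,1), (17,2), (12,1), (1,1),
   (0,1), (1,2), (0,2)]

def p217 : FW :=
  [(16,1), (0,1), (15,1), (0,1), (17,1), (12,1), (17,1), (0,1), (11,1), (15,1), (16,1), (15,1), (0,1), (1,1), (0,2),
   (1,2)]

def p218 : FW :=
  [(15,1), (17,1), (0,1), (1,2), (16,1), (9,1), (17,1), (15,1), (12,1), (15,1), (17,1), (15,1), (12,1), (15,1),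
   (17,1), (15,1), (1,1), (1,1), (0,1), (1,2), (0,2)]

def p219 : FW :=
  [(16,1), (9,1), (16,1), (0,1), (9,1), (15,1), (1,1), (15,1), (16,1), (15,2), (16,1), (0,1), (9,1), (16,1), (15,1),
   (16,1), (9,1), (8,1), (1,1), (15,1), (0,1), (1,1), (0,1), (1,2), (0,2)]

def p220 : FW :=
  [(9,1), (15,4), (16,1), (0,1), (15,1), (17,2), (1,1), (16,1), (9,1), (8,1), (15,1), (0,1), (1,1)]

def p221 : FW :=
  [(8,1), (16,1), (17,2), (0,1), (16,1), (0,1), (17,2), (15,1), (1,1), (1,1), (0,1), (1,2), (0,2)]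

def p222 : FW :=
  [(15,1), (17,1), (12,1), (17,1), (15,1), (1,1), (17,1), (12,1), (16,1), (0,2), (16,1), (15,1), (0,1), (17,1),
   (15,1), (1,1), (0,1), (1,2), (0,2)]

def p223 : FW :=
  [(9,1), (15,1), (16,1), (9,1), (15,1), (0,1), (16,1), (17,1), (16,1), (1,1), (17,1), (15,1), (0,1), (16,1), (9,1),
   (8,1), (1,1)]

def p224 : FW :=
  [(9,1), (15,1), (0,1), (1,1), (17,1), (16,1), (17,1), (15,1), (16,1), (9,1), (16,1), (9,1), (15,2), (1,1), (15,3),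
   (0,1), (1,1), (0,2), (1,2)]

def p225 : FW :=
  [(0,1), (15,1), (17,1), (15,3), (0,1), (16,1), (15,2), (0,1), (17,1), (12,1), (15,3), (16,1), (15,1), (1,1), (1,1),
   (0,1), (1,2), (0,2)]

def p226 : FW :=
  [(12,1), (15,1), (0,1), (12,1), (0,1), (15,2), (16,3), (15,5), (1,1), (0,1), (1,1), (0,2), (1,2)]

def p227 : FW :=
  [(15,3), (12,1), (1,1), (17,1), (0,1), (15,2), (16,1), (17,1), (15,1), (1,1), (15,2), (12,1), (1,1)]

def p228 : FW :=
  [(9,1), (15,1), (12,1), (15,2), (12,1), (1,1), (16,1), (15,3), (0,1), (15,1), (1,1), (16,2), (3,1), (1,1), (0,1),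
   (1,2), (0,2)]

def p229 : FW :=
  [(0,1), (9,1), (15,1), (0,1), (15,1), (17,1), (15,1), (12,1), (15,2), (17,1), (12,1), (15,2), (16,1), (0,1), (9,1),
   (15,1), (0,2), (15,1), (0,1)]

def p230 : FW :=
  [(9,1), (15,5), (17,1), (15,4), (16,1), (9,1), (16,1), (9,1), (8,1), (1,1), (17,1), (15,2), (4,1)]

def p231 : FW :=
  [(9,1), (15,4), (0,1), (16,1), (9,1), (16,1), (17,1), (0,1), (16,1), (9,1), (16,1), (17,1), (1,1), (1,1), (0,1),
   (1,2), (0,2)]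

def p232 : FW :=
  [(3,1), (9,1), (17,1), (12,1), (15,2), (17,1), (16,1), (1,2), (9,1), (15,2), (3,1), (1,1), (0,1), (1,2), (0,2)]

def p233 : FW :=
  [(15,2), (0,1), (16,1), (9,1), (17,1), (15,1), (1,1), (15,1), (16,1), (9,1), (8,1), (15,2), (0,2), (15,1), (17,1),
   (0,1), (1,1), (0,2), (1,2)]

def p234 : FW :=
  [(0,1), (17,1), (0,1), (12,1), (16,1), (15,1), (16,1), (17,1), (15,1), (16,1), (1,1), (15,2), (0,1), (1,1), (0,1),
   (1,2), (0,2)]

def p235 : FW :=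
  [(0,2), (15,1), (1,1), (17,1), (15,2), (12,1), (15,1), (16,1), (0,2), (17,1), (1,1), (3,1), (0,1), (1,1), (0,2),
   (1,2)]

def p236 : FW :=
  [(1,2), (9,1), (16,1), (17,1), (16,1), (0,1), (9,1), (16,2), (17,1), (1,1), (16,1), (9,1), (8,1), (0,1), (1,1),
   (0,2), (1,2)]

def p237 : FW :=
  [(15,1), (0,1), (15,3), (12,1), (16,1), (0,1), (17,1), (1,1), (15,3), (0,1), (17,1), (16,1), (9,1), (16,1)]

def p238 : FW :=
  [(15,1), (1,1), (15,1), (16,1), (15,1), (0,1), (16,1), (9,1), (15,2), (16,1), (1,1), (9,1), (17,1), (0,1), (17,1),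
   (15,1), (0,1), (1,1), (0,2), (1,2)]

def p239 : FW :=
  [(9,1), (17,2), (0,2), (15,1), (0,1), (16,1), (0,1), (15,1), (0,1), (16,1), (9,1), (16,1), (1,1)]

def p240 : FW :=
  [(0,1), (9,1), (16,1), (9,1), (15,1), (16,2), (0,1), (17,1), (1,1), (15,1), (1,1), (16,1), (9,1), (8,1), (17,1),
   (0,1), (1,1), (0,2), (1,2)]

def p241 : FW :=
  [(0,1), (9,1), (16,1), (9,1), (17,1), (15,3), (17,1), (15,1), (1,1), (12,1), (15,1), (16,1), (9,1), (15,1), (0,1),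
   (15,1), (1,1), (0,1), (1,1), (0,2), (1,2)]

def p242 : FW :=
  [(9,1), (16,1), (0,1), (1,1), (9,1), (15,1), (16,1), (17,1), (15,1), (1,1), (17,1), (0,1), (16,1), (9,1), (15,1),
   (0,1), (0,1), (1,1), (0,2), (1,2)]

def p243 : FW :=
  [(15,2), (17,2), (15,1), (17,1), (0,1), (12,1), (15,1), (16,1), (0,1), (17,1), (0,2), (0,1), (1,1), (0,2), (1,2)]

def p244 : FW :=
  [(9,1), (16,1), (1,1), (12,1), (15,1), (16,1), (9,1), (17,1), (0,1), (15,1), (0,2), (15,1), (16,1), (9,1), (17,1),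
   (15,2)]

def p245 : FW :=
  [(0,1), (12,1), (0,2), (16,1), (15,2), (12,1), (1,1), (15,3), (16,3), (0,1), (1,1), (0,2), (1,2)]

def p246 : FW :=
  [(0,1), (16,1), (17,2), (15,1), (0,1), (16,1), (0,1), (9,1), (15,1), (16,1), (9,1), (15,2), (0,2), (15,1), (0,1),
   (1,1), (0,2), (1,2)]

def p247 : FW :=
  [(0,1), (9,1), (15,1), (17,1), (15,1), (16,1), (15,1), (12,1), (17,1), (16,1), (1,1), (9,1), (16,1), (15,2), (0,2),
   (15,1), (0,1), (1,1), (0,2), (1,2)]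

def p248 : FW :=
  [(15,1), (16,2), (12,1), (0,2), (17,1), (16,1), (0,1), (15,3), (0,2), (17,1), (12,1)]

def p249 : FW :=
  [(16,1), (9,1), (15,1), (1,2), (16,1), (9,1), (17,1), (16,1), (0,1), (1,1), (17,1), (15,1), (16,1), (9,1), (15,2)]

def p250 : FW :=
  [(0,1), (9,1), (15,1), (16,1), (15,2), (12,1), (0,1), (15,1), (17,1), (15,1), (1,1), (16,1), (9,1), (17,1), (0,1),
   (15,1)]

def p251 : FW :=
  [(9,1), (15,1), (1,1), (3,1), (16,1), (0,1), (15,1), (12,1), (15,2), (17,1), (15,2), (1,1), (17,1), (16,1), (9,1)]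

def p252 : FW :=
  [(0,1), (16,2), (3,1), (15,2), (16,1), (15,2), (16,2), (15,1), (16,1), (0,1), (0,1), (1,1), (0,2), (1,2)]

def p253 : FW :=
  [(0,1), (9,1), (15,2), (17,1), (12,1), (15,1), (17,1), (15,1), (16,1), (0,2), (9,1), (15,1), (16,1), (9,1), (15,2),
   (0,1), (15,2), (0,1)]

def p254 : FW :=
  [(0,1), (12,1), (0,1), (15,1), (17,1), (1,1), (12,1), (16,1), (15,1), (0,1), (15,1), (1,1), (17,1), (15,2), (17,2),
   (15,1), (1,1), (0,1), (1,2), (0,2)]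

def p255 : FW :=
  [(1,1), (9,1), (15,2), (0,1), (15,1), (16,1), (9,1), (15,1), (17,1), (0,1), (16,1), (17,1), (15,1), (17,1), (12,1),
   (17,1), (1,1), (0,1), (1,2), (0,2)]

def p256 : FW :=
  [(0,1), (12,1), (15,2), (17,1), (12,1), (17,1), (15,1), (0,1), (17,1), (16,1), (9,1), (15,1), (17,1), (0,1), (15,1),
   (1,1), (15,2), (0,1), (0,1), (1,1), (0,2), (1,2)]

def p257 : FW :=
  [(15,1), (16,1), (15,1), (1,1), (16,1), (9,1), (15,1), (16,1), (1,1), (15,3), (16,1), (1,1), (9,1), (16,1), (15,1)]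

def p258 : FW :=
  [(0,1), (9,1), (12,1), (17,1), (15,2), (16,2), (9,1), (15,1), (0,1), (1,2), (16,1), (15,1), (0,1), (17,1), (15,1),
   (0,1), (1,1), (0,2), (1,2)]

def p259 : FW :=
  [(0,2), (15,1), (1,1), (17,1), (16,1), (9,1), (17,1), (15,1), (1,1), (15,2), (0,1), (16,2), (9,1), (1,1), (0,1),
   (1,2), (0,2)]

def p260 : FW :=
  [(0,1), (1,1), (9,1), (17,1), (11,1), (15,3), (17,1), (16,1), (15,2), (16,1), (1,1), (15,2), (1,1), (0,1), (1,2),
   (0,2)]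

def p261 : FW :=
  [(15,1), (17,1), (15,3), (16,1), (0,1), (1,1), (9,1), (17,1), (0,1), (16,1), (9,1), (16,1), (1,1), (9,1), (15,1),
   (12,1), (15,1), (0,1), (1,1), (0,2), (1,2)]

def p262 : FW :=
  [(9,1), (15,2), (17,1), (15,1), (0,1), (12,1), (15,1), (16,1), (0,2), (17,1), (15,1), (16,1), (1,1), (9,1), (8,1),
   (0,1), (1,1), (0,2), (1,2)]

def p263 : FW :=
  [(16,1), (9,1), (15,1), (0,1), (15,3), (16,1), (15,1), (17,1), (0,1), (12,1), (15,1), (17,1), (0,1), (16,1)]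

def p264 : FW :=
  [(1,2), (9,1), (16,1), (15,1), (12,1), (15,1), (17,1), (15,1), (12,1), (17,1), (15,2), (17,1), (15,1), (4,1),
   (17,1), (1,1)]

def p265 : FW :=
  [(0,2), (9,1), (16,1), (9,1), (15,1), (0,1), (15,2), (16,1), (0,1), (12,1), (0,1), (15,2), (0,1), (16,1), (9,1),
   (8,1), (0,1), (1,1), (0,2), (1,2)]

def p266 : FW :=
  [(0,1), (9,1), (15,1), (16,1), (1,1), (15,1), (0,1), (16,1), (17,1), (16,1), (9,1), (17,1), (0,1), (15,1), (16,1),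
   (15,1)]

def p267 : FW :=
  [(8,1), (0,1), (15,3), (17,1), (15,2), (1,1), (16,1), (1,1), (17,1), (15,2), (16,1)]

def p268 : FW :=
  [(15,2), (0,2), (15,1), (16,1), (1,1), (12,1), (15,1), (16,2), (9,1), (15,2), (16,1), (15,1), (1,1), (0,1), (1,2),
   (0,2)]

def p269 : FW :=
  [(15,3), (16,1), (17,1), (3,1), (15,1), (16,1), (9,1), (15,1), (17,1), (12,1), (0,1), (15,2), (12,1), (0,1), (15,1),
   (1,1), (0,1), (1,2), (0,2)]

def p270 : FW :=
  [(17,1), (0,1), (15,2), (12,1), (15,2), (0,1), (15,1), (17,1), (16,1), (15,1), (0,1), (1,2), (16,1), (0,1), (15,1),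
   (1,1), (0,1), (1,2), (0,2)]

def p271 : FW :=
  [(0,1), (9,1), (16,1), (0,1), (1,1), (15,1), (16,2), (9,1), (8,1), (17,1), (0,1), (17,1), (15,3), (16,1), (15,1),
   (0,1)]

def p272 : FW :=
  [(0,1), (3,1), (17,1), (0,1), (1,1), (10,1), (9,1), (17,2), (15,2), (1,1), (17,1), (15,3), (1,1), (0,1), (1,2),
   (0,2)]

def p273 : FW :=
  [(0,1), (16,1), (0,1), (12,1), (15,2), (17,1), (15,3), (0,1), (17,1), (15,3), (16,1), (15,1), (1,2)]

def p274 : FW :=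
  [(17,2), (15,2), (17,1), (15,1), (1,1), (16,1), (12,1), (0,1), (15,1), (0,1), (17,1), (12,1), (0,1), (15,1)]

def p275 : FW :=
  [(15,1), (17,1), (12,1), (17,2), (12,1), (1,1), (15,2), (16,1), (15,1), (1,1), (17,1), (0,2), (1,1), (0,1), (1,2),
   (0,2)]

def p276 : FW :=
  [(15,1), (17,1), (15,1), (1,1), (16,1), (17,1), (0,1), (11,1), (16,1), (15,1), (0,1), (15,1), (0,1), (15,1), (0,1),
   (1,1), (0,2), (1,2)]

def p277 : FW :=
  [(9,1), (15,3), (16,1), (0,1), (9,1), (15,2), (0,1), (16,1), (15,1), (0,2), (15,1), (16,1), (9,1), (15,1), (16,1),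
   (9,1), (15,1), (1,1), (0,1), (1,2), (0,2)]

def p278 : FW :=
  [(1,1), (15,1), (17,1), (1,1), (16,1), (0,1), (9,1), (8,1), (1,1), (17,1), (0,1), (15,1), (0,1), (1,1), (0,2),
   (1,2)]

def p279 : FW :=
  [(15,2), (12,1), (1,1), (17,1), (15,2), (1,1), (15,3), (16,1), (15,2), (12,1), (17,1), (1,1), (15,1), (0,1), (0,1),
   (1,1), (0,2), (1,2)]

def p280 : FW :=
  [(9,1), (15,1), (0,1), (16,1), (9,1), (15,1), (16,1), (9,1), (15,1), (0,1), (15,3), (16,1), (1,1), (9,1), (15,3),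
   (16,1), (9,1), (15,1), (0,1)]

def p281 : FW :=
  [(9,1), (15,1), (12,1), (15,1), (16,1), (17,1), (1,1), (15,1), (17,1), (0,1), (12,1), (15,2), (0,1), (1,1), (0,2),
   (1,2)]

def p282 : FW :=
  [(11,1), (15,1), (1,1), (17,1), (15,2), (17,1), (15,2), (16,1), (0,1), (9,1), (15,1), (0,1), (3,1), (16,1)]

def p283 : FW :=
  [(1,1), (9,1), (15,1), (0,1), (15,1), (16,1), (9,1), (15,1), (0,1), (15,1), (16,1), (0,1), (3,1), (16,1), (15,2),
   (16,1), (9,1), (8,1), (1,1), (0,1), (1,2), (0,2)]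

def p284 : FW :=
  [(9,1), (16,1), (1,1), (16,1), (9,1), (17,1), (1,1), (17,1), (12,1), (15,2), (16,1), (9,1), (15,2), (3,1)]

def p285 : FW :=
  [(17,2), (15,1), (17,1), (12,1), (1,1), (15,3), (16,1), (15,1), (17,1)]

def p286 : FW :=
  [(9,1), (15,1), (16,1), (9,1), (8,1), (15,4), (0,1), (15,1), (16,1), (15,1), (17,1), (16,1), (0,2), (17,1), (15,1),
   (0,1), (1,1), (0,2), (1,2)]

def p287 : FW :=
  [(17,1), (12,1), (17,1), (1,1), (15,2), (16,1), (15,1), (17,1), (0,1), (15,3), (17,1), (15,1), (1,1), (0,1), (1,2),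
   (0,2)]

def p288 : FW :=
  [(9,1), (15,1), (1,1), (15,1), (1,1), (15,2), (17,1), (16,1), (9,1), (16,1), (9,1), (8,1), (17,1), (16,1), (15,1),
   (0,2), (15,1), (1,1), (0,1), (1,2), (0,2)]

def p289 : FW :=
  [(0,2), (12,1), (1,1), (15,1), (12,1), (17,1), (16,1), (0,1), (17,1), (0,1), (15,1), (17,1), (1,1), (15,2), (17,1)]

def p290 : FW :=
  [(15,1), (16,1), (1,1), (15,1), (16,1), (17,1), (12,1), (15,1), (0,1), (17,1), (12,1), (15,2), (16,1), (15,1),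
   (0,2)]

def p291 : FW :=
  [(0,1), (16,1), (1,1), (9,1), (15,1), (17,1), (0,1), (17,1), (15,1), (16,1), (9,1), (16,1), (9,1), (8,1), (0,1),
   (15,2), (16,1), (15,1), (1,1), (0,1), (1,2), (0,2)]

def p292 : FW :=
  [(9,1), (15,2), (12,1), (15,1), (17,1), (15,1), (0,1), (1,1), (16,1), (15,1), (12,1), (15,2), (0,1), (17,1), (16,1),
   (0,1), (1,1), (0,2), (1,2)]

def p293 : FW :=
  [(15,1), (16,1), (15,1), (17,1), (0,1), (15,1), (0,1), (15,2), (16,1), (0,1), (15,1), (12,1), (17,1), (15,2), (1,1),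
   (15,1), (0,1), (1,1), (0,2), (1,2)]

def p294 : FW :=
  [(17,1), (0,1), (17,1), (15,1), (16,1), (0,1), (9,1), (15,1), (0,1), (15,1), (3,1), (16,1), (1,1), (9,1), (16,1),
   (0,1), (1,1), (0,2), (1,2)]

def p295 : FW :=
  [(1,1), (8,1), (16,1), (15,1), (0,1), (15,1), (1,1), (16,1), (15,1), (16,1), (0,1), (15,1), (16,1), (15,3), (1,1),
   (0,1), (1,2), (0,2)]

def p296 : FW :=
  [(0,1), (16,1), (15,1), (11,1), (16,1), (1,1), (15,1), (16,1), (9,1), (17,1), (15,1), (0,1), (15,1), (17,1), (0,1),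
   (0,1), (1,1), (0,2), (1,2)]

def p297 : FW :=
  [(3,1), (16,1), (9,1), (16,1), (9,1), (16,1), (0,1), (17,2), (0,1), (15,2), (12,1), (15,1), (16,1), (1,1), (9,1),
   (1,1), (0,1), (1,2), (0,2)]

def p298 : FW :=
  [(9,1), (15,1), (1,1), (17,2), (16,1), (9,1), (15,1), (0,1), (15,3), (16,1), (9,1), (15,2), (12,1), (0,2), (15,1),
   (0,1), (1,1), (0,1), (1,2), (0,2)]

def p299 : FW :=
  [(15,1), (0,1), (17,1), (12,1), (15,2), (12,1), (15,1), (0,1), (16,1), (9,1), (15,1), (3,1), (17,1), (16,1), (9,1),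
   (15,1), (1,1), (0,1), (1,2), (0,2)]

def p300 : FW :=
  [(1,1), (16,1), (9,1), (8,1), (1,1), (15,1), (16,1), (15,4), (17,1), (15,2), (0,1), (15,1), (16,1), (17,1), (1,1),
   (0,1), (1,2), (0,2)]

def p301 : FW :=
  [(17,1), (15,1), (16,1), (0,1), (15,2), (16,1), (1,1), (15,1), (1,1), (12,1), (17,1), (12,1), (17,2), (1,1), (0,1),
   (1,2), (0,2)]

def p302 : FW :=
  [(16,1), (1,1), (9,1), (8,1), (15,1), (16,1), (15,2), (16,1), (17,1), (0,2), (15,1), (16,1), (0,1), (17,1)]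

def p303 : FW :=
  [(17,1), (1,1), (15,1), (16,1), (15,1), (0,1), (15,2), (16,1), (12,1), (15,1), (0,1), (15,1), (17,1), (15,4), (0,1),
   (1,1), (0,2), (1,2)]

def p304 : FW :=
  [(9,1), (17,1), (15,1), (0,1), (16,1), (15,1), (17,1), (15,1), (17,1), (0,1), (17,1), (16,1), (12,1), (0,2), (15,1),
   (1,1), (0,1), (1,2), (0,2)]

def p305 : FW :=
  [(4,1), (9,1), (8,1), (0,1), (15,1), (12,1), (4,1), (15,1), (17,2), (15,1), (0,1), (1,1), (0,2), (1,2)]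

def p306 : FW :=
  [(0,1), (9,1), (16,1), (0,1), (12,1), (15,4), (0,2), (15,1), (16,1), (9,1), (15,2), (0,1), (17,2), (16,1), (9,1),
   (8,1)]

def p307 : FW :=
  [(0,1), (16,1), (0,1), (15,1), (0,1), (12,1), (17,1), (16,1), (15,5), (17,1), (12,1), (15,4), (0,1), (1,1), (0,2),
   (1,2)]

def p308 : FW :=
  [(3,1), (16,1), (12,1), (15,2), (0,1), (15,1), (17,1), (15,2), (16,1), (9,1), (16,1), (0,1), (9,1), (15,1), (17,1),
   (0,1), (0,1), (1,1), (0,2), (1,2)]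

def p309 : FW :=
  [(9,1), (16,1), (0,1), (15,1), (1,1), (15,2), (16,1), (15,1), (1,1), (12,1), (0,1), (17,2), (12,1), (15,2)]

def p310 : FW :=
  [(9,1), (17,2), (0,1), (12,1), (17,1), (0,1), (16,1), (0,1), (12,1), (17,1), (0,1), (17,1), (15,1), (17,1), (15,1),
   (0,1), (1,1), (0,2), (1,2)]

def p311 : FW :=
  [(1,1), (16,1), (17,1), (0,2), (1,1), (16,1), (9,1), (11,1), (15,1), (17,1), (1,1), (15,2), (1,1), (0,1), (1,2),
   (0,2)]

def p312 : FW :=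
  [(9,1), (15,4), (17,1), (15,2), (1,1), (15,3), (16,1), (7,1), (9,1), (16,1), (17,1), (1,1), (0,1), (1,2), (0,2)]

def p313 : FW :=
  [(9,1), (15,3), (1,1), (15,1), (0,1), (17,1), (15,4), (16,1), (2,1), (9,1), (8,1), (16,1), (0,1), (17,1)]

def p314 : FW :=
  [(15,3), (0,2), (12,1), (15,1), (16,1), (9,1), (15,2), (16,1), (9,1), (15,1), (17,2), (16,1), (1,1)]

def p315 : FW :=
  [(9,1), (16,1), (0,1), (17,1), (1,1), (16,1), (15,1), (0,1), (15,1), (17,1), (15,1), (12,1), (15,2), (16,1), (0,1),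
   (1,1), (0,2), (1,2)]

def p316 : FW :=
  [(16,1), (15,2), (1,1), (12,1), (0,1), (15,1), (16,1), (9,1), (15,2), (16,1), (0,1), (16,1), (9,1), (15,1), (0,1),
   (1,1), (0,2), (1,2)]

def p317 : FW :=
  [(15,1), (1,1), (12,1), (17,1), (15,2), (16,1), (0,1), (16,1), (9,1), (16,1), (1,2), (17,1), (15,1), (0,1), (1,1),
   (0,2), (1,2)]

def p318 : FW :=
  [(0,1), (9,1), (15,1), (17,1), (15,2), (3,1), (16,1), (9,1), (17,1), (1,1), (15,1), (12,1), (16,1), (15,3), (1,1),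
   (0,1), (1,2), (0,2)]

def p319 : FW :=
  [(0,1), (1,1), (17,1), (15,1), (17,1), (15,3), (16,1), (0,2), (1,1), (16,1), (17,1), (0,1), (17,1), (0,1)]

def p320 : FW :=
  [(9,1), (15,2), (0,2), (15,1), (16,1), (9,1), (15,2), (1,1), (15,3), (16,1), (15,2), (16,1), (9,1), (8,1), (15,1),
   (0,1)]

def p321 : FW :=
  [(16,1), (15,1), (1,1), (15,3), (17,1), (0,1), (15,2), (17,1), (16,1), (15,1), (12,1), (15,2)]

def p322 : FW :=
  [(0,1), (9,1), (16,3), (12,1), (15,1), (17,1), (0,1), (17,1), (15,1), (16,1), (0,2), (9,1), (15,1), (0,2)]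

def p323 : FW :=
  [(15,1), (17,1), (16,1), (9,1), (16,1), (15,3), (1,1), (17,1), (16,1), (0,1), (9,1), (15,1), (12,1), (1,1), (0,1),
   (1,2), (0,2)]

def p324 : FW :=
  [(0,1), (15,1), (12,1), (15,1), (0,1), (17,1), (12,1), (15,3), (16,1), (0,1), (15,1), (0,1), (17,1), (16,1), (9,1),
   (15,2), (0,1), (1,1), (0,2), (1,2)]

def p325 : FW :=
  [(0,1), (17,1), (12,1), (15,1), (12,1), (15,1), (17,1), (16,1), (0,1), (15,2), (17,1), (15,3), (17,1), (1,1), (1,1),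
   (0,1), (1,2), (0,2)]

def p326 : FW :=
  [(0,1), (12,1), (15,2), (0,1), (15,3), (17,1), (15,1), (16,1), (15,1), (0,1), (12,1), (0,1), (16,1), (0,1), (15,1),
   (17,1), (1,1), (0,1), (1,2), (0,2)]

def p327 : FW :=
  [(0,1), (15,2), (0,1), (15,1), (16,1), (9,1), (15,1), (1,1), (17,2), (15,1), (17,1), (15,2), (17,1), (15,1)]

def p328 : FW :=
  [(16,1), (15,2), (16,1), (9,1), (15,3), (16,1), (0,1), (15,1), (1,1), (16,1), (1,1), (15,1), (16,1), (9,1), (1,1),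
   (0,1), (1,2), (0,2)]

def p329 : FW :=
  [(0,1), (9,1), (15,4), (17,1), (15,2), (17,1), (1,1), (15,3), (16,1), (1,1), (9,1), (15,2), (0,1), (12,1), (1,1),
   (1,1), (0,1), (1,2), (0,2)]

def p330 : FW :=
  [(15,2), (17,1), (16,1), (0,1), (12,1), (16,1), (0,1), (1,1), (16,1), (17,1), (0,1), (15,1), (12,1), (15,4)]

def p331 : FW :=
  [(9,1), (15,1), (17,1), (1,1), (16,1), (0,1), (12,1), (17,1), (15,2), (17,1), (15,1), (17,1), (16,1), (0,1), (15,1),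
   (0,1), (1,1), (0,1), (1,2), (0,2)]

def p332 : FW :=
  [(15,1), (12,1), (15,1), (0,1), (17,1), (16,1), (0,1), (12,1), (16,2), (17,1), (15,1), (0,1), (15,3), (0,1)]

def p333 : FW :=
  [(11,1), (15,1), (0,1), (16,1), (15,1), (0,1), (15,2), (16,1), (15,1), (16,1), (15,4), (0,1), (16,1), (0,1), (1,1),
   (0,1), (1,2), (0,2)]

def p334 : FW :=
  [(8,1), (0,1), (3,1), (16,1), (3,1), (15,1), (17,2), (11,1), (16,1), (1,1), (0,1), (1,2), (0,2)]

def p335 : FW :=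
  [(16,1), (0,2), (9,1), (15,1), (0,1), (16,1), (9,1), (17,1), (16,1), (0,1), (9,1), (16,1), (9,1), (17,1)]

def p336 : FW :=
  [(15,1), (12,1), (0,1), (16,1), (15,1), (17,1), (0,1), (15,4), (17,1), (16,1), (0,1), (9,1), (15,1), (1,1), (0,1),
   (1,1), (0,2), (1,2)]

def p337 : FW :=
  [(1,1), (15,1), (16,1), (9,1), (15,1), (17,1), (15,2), (0,1), (16,1), (9,1), (8,1), (0,1), (16,1), (17,1), (1,1),
   (15,1), (1,1), (0,1), (1,2), (0,2)]

def p338 : FW :=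
  [(15,2), (17,1), (0,1), (15,3), (1,1), (15,1), (16,1), (15,2), (16,1), (9,1), (8,1), (1,1), (17,1), (15,1), (0,1),
   (0,1), (1,1), (0,2), (1,2)]

def p339 : FW :=
  [(9,1), (15,3), (17,1), (0,1), (15,1), (16,1), (0,1), (9,1), (8,1), (1,1), (16,1), (15,1), (16,1), (0,1), (17,1),
   (15,1), (0,2)]

def p340 : FW :=
  [(9,1), (15,2), (16,1), (1,1), (16,1), (15,1), (17,1), (0,1), (15,3), (17,1), (12,1), (15,1), (16,1), (15,2), (0,1)]

def p341 : FW :=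
  [(9,1), (15,1), (16,1), (9,1), (15,1), (17,1), (15,1), (12,1), (15,2), (0,1), (16,1), (15,1), (0,1), (16,1), (9,1),
   (17,1), (0,2), (15,1), (1,1), (0,1), (1,2), (0,2)]

def p342 : FW :=
  [(9,1), (16,1), (9,1), (15,1), (17,1), (15,3), (17,1), (15,3), (16,1), (0,1), (9,1), (15,2), (12,1), (0,1), (15,2),
   (0,1), (1,1), (0,2), (1,2)]

def p343 : FW :=
  [(9,1), (16,1), (9,1), (16,1), (15,1), (16,1), (9,1), (16,1), (15,2), (0,1), (17,1), (1,1), (15,1), (16,1), (0,1),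
   (9,1), (17,1), (0,2), (0,1), (1,1), (0,2), (1,2)]

def p344 : FW :=
  [(9,1), (15,1), (1,1), (15,3), (16,1), (9,1), (17,1), (0,1), (15,1), (1,1), (16,1), (17,1), (12,1), (1,1), (1,1),
   (0,1), (1,2), (0,2)]

def p345 : FW :=
  [(9,1), (15,2), (0,1), (16,1), (17,1), (1,1), (15,2), (16,1), (12,1), (15,2), (0,1), (15,2), (17,1), (1,1), (1,1),
   (0,1), (1,2), (0,2)]

def p346 : FW :=
  [(9,1), (15,4), (17,1), (16,1), (9,1), (16,1), (0,2), (17,1), (16,1), (1,1), (9,1), (15,1), (11,1), (15,2), (0,1),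
   (1,1), (0,1), (1,2), (0,2)]

def p347 : FW :=
  [(0,1), (15,3), (16,1), (9,1), (17,1), (16,1), (15,2), (0,1), (16,1), (15,2), (0,1), (17,1), (0,1), (1,1), (0,2),
   (1,2)]

def p348 : FW :=
  [(9,1), (15,1), (17,1), (15,1), (1,1), (12,1), (15,1), (17,2), (0,1), (15,1), (16,1), (0,1), (9,1), (17,1), (1,1),
   (1,1), (0,1), (1,2), (0,2)]

def p349 : FW :=
  [(9,1), (15,1), (0,2), (16,1), (12,1), (15,1), (0,2), (16,1), (9,1), (17,1), (1,1), (16,1), (9,1), (17,1)]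

def p350 : FW :=
  [(0,1), (1,1), (16,1), (1,1), (9,1), (15,1), (17,1), (15,1), (16,1), (15,2), (12,1), (17,1), (0,1), (15,2), (16,1)]

def p351 : FW :=
  [(0,1), (9,1), (8,1), (16,1), (15,2), (0,1), (15,1), (0,1), (15,1), (16,1), (15,1), (16,1), (15,1), (0,1), (15,1),
   (16,1), (15,5), (0,1), (1,1), (0,2), (1,2)]

def p352 : FW :=
  [(0,2), (9,1), (15,1), (17,1), (15,1), (16,1), (0,1), (1,1), (15,1), (16,1), (9,1), (15,1), (0,1), (16,1), (12,1),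
   (15,1), (17,1)]

def p353 : FW :=
  [(15,2), (12,1), (0,1), (16,1), (1,1), (15,2), (17,1), (16,1), (15,1), (12,1), (15,2), (0,2), (15,1), (17,1), (1,1),
   (0,1), (1,2), (0,2)]

def p354 : FW :=
  [(16,1), (0,1), (1,1), (12,1), (17,1), (15,1), (16,1), (15,1), (1,1), (15,1), (12,1), (17,1), (15,3)]

def p355 : FW :=
  [(1,1), (9,1), (15,1), (16,1), (9,1), (15,1), (17,1), (15,2), (17,1), (1,1), (16,1), (15,1), (0,1), (15,2), (16,1),
   (9,1), (8,1), (0,1), (1,1), (0,2), (1,2)]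

def p356 : FW :=
  [(9,1), (12,1), (15,1), (17,2), (0,1), (17,1), (16,1), (0,2), (1,1), (16,1), (9,1), (15,1), (0,1), (15,1), (0,1),
   (17,1), (15,2), (1,1), (0,1), (1,2), (0,2)]

def p357 : FW :=
  [(0,1), (15,1), (0,1), (15,1), (12,1), (17,1), (16,1), (0,1), (9,1), (15,1), (0,1), (15,1), (17,1), (0,1), (15,1),
   (16,1), (15,1), (16,1), (1,1), (0,1), (1,2), (0,2)]

def p358 : FW :=
  [(0,2), (12,1), (15,1), (17,1), (15,1), (0,1), (16,1), (9,1), (8,1), (16,1), (15,1), (17,1), (16,1), (1,1), (16,1),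
   (0,1), (1,1), (0,2), (1,2)]

def KP0 : List (Fin 2 × FW) :=
  [(0,p0), (0,p1), (0,p2), (0,p3), (0,p4), (0,p5), (0,p6), (0,p7), (0,p8), (0,p9)]

def KP1 : List (Fin 2 × FW) :=
  [(0,p10), (0,p11), (0,p12), (0,p13), (0,p14), (0,p15), (0,p16), (0,p17), (0,p18), (0,p19)]

def KP2 : List (Fin 2 × FW) :=
  [(0,p20), (0,p21), (0,p22), (0,p23), (0,p24), (0,p25), (0,p26), (0,p27), (0,p28), (0,p29)]

def KP3 : List (Fin 2 × FW) :=
  [(0,p30), (0,p31), (0,p32), (0,p33), (0,p34), (0,p35), (0,p36), (0,p37), (0,p38), (0,p39)]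

def KP4 : List (Fin 2 × FW) :=
  [(0,p40), (0,p41), (0,p42), (0,p43), (0,p44), (0,p45), (0,p46), (0,p47), (0,p48), (0,p49)]

def KP5 : List (Fin 2 × FW) :=
  [(0,p50), (0,p51), (0,p52), (0,p53), (0,p54), (0,p55), (0,p56), (0,p57), (0,p58), (0,p59)]

def KP6 : List (Fin 2 × FW) :=
  [(0,p60), (0,p61), (0,p62), (0,p63), (0,p64), (0,p65), (0,p66), (0,p67), (0,p68), (0,p69)]

def KP7 : List (Fin 2 × FW) :=
  [(0,p70), (0,p71), (0,p72), (0,p73), (0,p74), (0,p75), (0,p76), (0,p77), (0,p78), (0,p79)]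

def KP8 : List (Fin 2 × FW) :=
  [(0,p80), (0,p81), (0,p82), (0,p83), (0,p84), (0,p85), (0,p86), (0,p87), (0,p88), (0,p89)]

def KP9 : List (Fin 2 × FW) :=
  [(0,p90), (0,p91), (0,p92), (0,p93), (0,p94), (0,p95), (0,p96), (0,p97), (0,p98), (0,p99)]

def KP10 : List (Fin 2 × FW) :=
  [(0,p100), (0,p101), (0,p102), (0,p103), (0,p104), (0,p105), (0,p106), (0,p107), (0,p108), (0,p109)]

def KP11 : List (Fin 2 × FW) :=
  [(0,p110), (0,p111), (0,p112), (0,p113), (0,p114), (0,p115), (0,p116), (0,p117), (0,p118), (0,p119)]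

def KP12 : List (Fin 2 × FW) :=
  [(0,p120), (0,p121), (0,p122), (0,p123), (0,p124), (0,p125), (0,p126), (0,p127), (0,p128), (0,p129)]

def KP13 : List (Fin 2 × FW) :=
  [(0,p130), (0,p131), (0,p132), (0,p133), (0,p134), (0,p135), (0,p136), (0,p137), (0,p138), (0,p139)]

def KP14 : List (Fin 2 × FW) :=
  [(0,p140), (0,p141), (0,p142), (0,p143), (0,p144), (0,p145), (0,p146), (0,p147), (0,p148), (0,p149)]

def KP15 : List (Fin 2 × FW) :=
  [(0,p150), (0,p151), (0,p152), (0,p153), (0,p154), (0,p155), (0,p156), (0,p157), (0,p158), (0,p159)]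

def KP16 : List (Fin 2 × FW) :=
  [(0,p160), (0,p161), (0,p162), (0,p163), (0,p164), (0,p165), (0,p166), (0,p167), (0,p168), (0,p169)]

def KP17 : List (Fin 2 × FW) :=
  [(0,p170), (0,p171), (0,p172), (0,p173), (0,p174), (0,p175), (0,p176), (0,p177), (0,p178), (0,p179)]

def KP18 : List (Fin 2 × FW) :=
  [(0,p180), (0,p181), (0,p182), (0,p183), (0,p184), (0,p185), (0,p186), (0,p187), (0,p188), (0,p189)]

def KP19 : List (Fin 2 × FW) :=
  [(0,p190), (0,p191), (0,p192), (0,p193), (0,p194), (0,p195), (0,p196), (0,p197), (0,p198), (0,p199)]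

def KP20 : List (Fin 2 × FW) :=
  [(0,p200), (0,p201), (0,p202), (0,p203), (0,p204), (0,p205), (0,p206), (0,p207), (0,p208), (0,p209)]

def KP21 : List (Fin 2 × FW) :=
  [(0,p210), (0,p211), (0,p212), (0,p213), (0,p214), (0,p215), (0,p216), (0,p217), (0,p218), (0,p219)]

def KP22 : List (Fin 2 × FW) :=
  [(0,p220), (0,p221), (0,p222), (0,p223), (0,p224), (0,p225), (0,p226), (0,p227), (0,p228), (0,p229)]

def KP23 : List (Fin 2 × FW) :=
  [(0,p230), (0,p231), (0,p232), (0,p233), (0,p234), (0,p235), (0,p236), (0,p237), (0,p238), (0,p239)]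

def KP24 : List (Fin 2 × FW) :=
  [(0,p240), (0,p241), (0,p242), (0,p243), (0,p244), (0,p245), (0,p246), (0,p247), (0,p248), (0,p249)]

def KP25 : List (Fin 2 × FW) :=
  [(0,p250), (0,p251), (0,p252), (0,p253), (0,p254), (0,p255), (0,p256), (0,p257), (0,p258), (0,p259)]

def KP26 : List (Fin 2 × FW) :=
  [(0,p260), (0,p261), (0,p262), (0,p263), (0,p264), (0,p265), (0,p266), (0,p267), (0,p268), (0,p269)]

def KP27 : List (Fin 2 × FW) :=
  [(0,p270), (0,p271), (0,p272), (0,p273), (0,p274), (0,p275), (0,p276), (0,p277), (0,p278), (0,p279)]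

def KP28 : List (Fin 2 × FW) :=
  [(0,p280), (0,p281), (0,p282), (0,p283), (0,p284), (0,p285), (0,p286), (0,p287), (0,p288), (0,p289)]

def KP29 : List (Fin 2 × FW) :=
  [(0,p290), (0,p291), (0,p292), (0,p293), (0,p294), (1,p295), (1,p296), (1,p297), (1,p298), (1,p299)]

def KP30 : List (Fin 2 × FW) :=
  [(1,p300), (1,p301), (1,p302), (1,p303), (1,p304), (1,p305), (1,p306), (1,p307), (1,p308), (1,p309)]

def KP31 : List (Fin 2 × FW) :=
  [(1,p310), (1,p311), (1,p312), (1,p313), (1,p314), (1,p315), (1,p316), (1,p317), (1,p318), (1,p319)]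

def KP32 : List (Fin 2 × FW) :=
  [(1,p320), (1,p321), (1,p322), (1,p323), (1,p324), (1,p325), (1,p326), (1,p327), (1,p328), (1,p329)]

def KP33 : List (Fin 2 × FW) :=
  [(1,p330), (1,p331), (1,p332), (1,p333), (1,p334), (1,p335), (1,p336), (1,p337), (1,p338), (1,p339)]

def KP34 : List (Fin 2 × FW) :=
  [(1,p340), (1,p341), (1,p342), (1,p343), (1,p344), (1,p345), (1,p346), (1,p347), (1,p348), (1,p349)]

def KP35 : List (Fin 2 × FW) :=
  [(1,p350), (1,p351), (1,p352), (1,p353), (1,p354), (1,p355), (1,p356), (1,p357), (1,p358)]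

/-- the representatives -/
def KP : List (Fin 2 × FW) :=
  KP0 ++ (KP1 ++ (KP2 ++ (KP3 ++ (KP4 ++ (KP5 ++ (KP6 ++ (KP7 ++ (KP8 ++ (KP9 ++ (KP10 ++ (KP11 ++ (KP12 ++ (KP13 ++
   (KP14 ++ (KP15 ++ (KP16 ++ (KP17 ++ (KP18 ++ (KP19 ++ (KP20 ++ (KP21 ++ (KP22 ++ (KP23 ++ (KP24 ++ (KP25 ++ (KP26
   ++ (KP27 ++ (KP28 ++ (KP29 ++ (KP30 ++ (KP31 ++ (KP32 ++ (KP33 ++ (KP34 ++ (KP35)))))))))))))))))))))))))))))))))))

end Cfsg.Agent.BX.No33.Bk
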