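import Cfsg.Agent.BX.No33.CovSP
import Cfsg.Agent.BX.No33.KP
set_option linter.all false
set_option Elab.async false

/-!
# The cover in the case P (helper18)
-/

set_option autoImplicit false
set_option maxRecDepth 100000

namespace Cfsg.Agent.BX.No33.Cv

open Cfsg.Agent.BX.Cov Cfsg.Agent.BX.Frame.Fr3 Cfsg.Agent.Lib.PackMat Cfsg.Agent.Lib.PackMatMul
open Cfsg.Agent.Lib.PackMatOrbit (getO)

/-- for each orbit the number of the representative and of an element of the subgroup -/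
noncomputable def NP : Tr :=
 (.node (.node (.node (.node (.node (.node (.node (.node (.node .nil (nat_lit 0) (nat_lit 311) (nat_lit 11) (nat_lit 0) .nil) (nat_lit 1) (nat_lit 268) (nat_lit 0) (nat_lit 0) .nil) (nat_lit 2) (nat_lit 308) (nat_lit 11) (nat_lit 0) (.node (.node .nil (nat_lit 3) (nat_lit 275) (nat_lit 21) (nat_lit 0) .nil) (nat_lit 4) (nat_lit 348) (nat_lit 21) (nat_lit 0) .nil)) (nat_lit 5) (nat_lit 292) (nat_lit 84) (nat_lit 0) (.node (.node (.node .nil (nat_lit 6) (nat_lit 294) (nat_lit 0) (nat_lit 0) .nil) (nat_lit 7) (nat_lit 36) (nat_lit 11) (nat_lit 0) .nil) (nat_lit 8) (nat_lit 274) (nat_lit 85) (nat_lit 0) (.node (.node .nil (nat_lit 9) (nat_lit 50) (nat_lit 21) (nat_lit 0) .nil) (nat_lit 10) (nat_lit 199) (nat_lit 0) (nat_lit 0) .nil))) (nat_lit 11) (nat_lit 343) (nat_lit 3) (nat_lit 0) (.node (.node (.node (.node .nil (nat_lit 12) (nat_lit 291) (nat_lit 11) (nat_lit 0) .nil) (nat_lit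 13) (nat_lit 175) (nat_lit 24) (nat_lit 0) .nil) (nat_lit 14) (nat_lit 271) (nat_lit 11) (nat_lit 0) (.node (.node .nil (nat_lit 15) (nat_lit 290) (nat_lit 25) (nat_lit 0) .nil) (nat_lit 16) (nat_lit 326) (nat_lit 94) (nat_lit 0) .nil)) (nat_lit 17) (nat_lit 328) (nat_lit 21) (nat_lit 0) (.node (.node (.node .nil (nat_lit 18) (nat_lit 336) (nat_lit 2) (nat_lit 0) .nil) (nat_lit 19) (nat_lit 283) (nat_lit 0) (nat_lit 0) .nil) (nat_lit 20) (nat_lit 350) (nat_lit 11) (nat_lit 0) (.node .nil (nat_lit 21) (nat_lit 79) (nat_lit 73) (nat_lit 0) .nil)))) (nat_lit 22) (nat_lit 267) (nat_lit 46) (nat_lit 0) (.node (.node (.node (.node (.node .nil (nat_lit 23) (nat_lit 52) (nat_lit 45) (nat_lit 0) .nil) (nat_lit 24) (nat_lit 160) (nat_lit 24) (nat_lit 0) .nil) (nat_lit 25) (nat_lit 142) (nat_lit 26) (nat_lit 0) (.node (.node .nil (nat_lit 26) (nat_lit 253) (nat_lit 11) (nat_lit 0) .nil) (nat_lit 27) (nat_lit 327) (nat_lit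 44) (nat_lit 0) .nil)) (nat_lit 28) (nat_lit 339) (nat_lit 47) (nat_lit 0) (.node (.node (.node .nil (nat_lit 29) (nat_lit 302) (nat_lit 65) (nat_lit 0) .nil) (nat_lit 30) (nat_lit 80) (nat_lit 85) (nat_lit 0) .nil) (nat_lit 31) (nat_lit 11) (nat_lit 86) (nat_lit 0) (.node .nil (nat_lit 32) (nat_lit 8) (nat_lit 69) (nat_lit 0) .nil))) (nat_lit 33) (nat_lit 43) (nat_lit 90) (nat_lit 0) (.node (.node (.node (.node .nil (nat_lit 34) (nat_lit 342) (nat_lit 86) (nat_lit 0) .nil) (nat_lit 35) (nat_lit 53) (nat_lit 49) (nat_lit 0) .nil) (nat_lit 36) (nat_lit 305) (nat_lit 7) (nat_lit 0) (.node (.node .nil (nat_lit 37) (nat_lit 285) (nat_lit 0) (nat_lit 0) .nil) (nat_lit 38) (nat_lit 237) (nat_lit 3) (nat_lit 0) .nil)) (nat_lit 39) (nat_lit 94) (nat_lit 86) (nat_lit 0) (.node (.node (.node .nil (nat_lit 40) (nat_lit 287) (nat_lit 7) (nat_lit 0) .nil) (nat_lit 41) (nat_lit 247) (nat_lit 7) (nat_lit 0) .nil) (nat_lit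 42) (nat_lit 258) (nat_lit 11) (nat_lit 0) (.node .nil (nat_lit 43) (nat_lit 216) (nat_lit 10) (nat_lit 0) .nil))))) (nat_lit 44) (nat_lit 217) (nat_lit 69) (nat_lit 0) (.node (.node (.node (.node (.node (.node .nil (nat_lit 45) (nat_lit 128) (nat_lit 18) (nat_lit 0) .nil) (nat_lit 46) (nat_lit 227) (nat_lit 40) (nat_lit 0) .nil) (nat_lit 47) (nat_lit 101) (nat_lit 26) (nat_lit 0) (.node (.node .nil (nat_lit 48) (nat_lit 155) (nat_lit 0) (nat_lit 0) .nil) (nat_lit 49) (nat_lit 299) (nat_lit 40) (nat_lit 0) .nil)) (nat_lit 50) (nat_lit 76) (nat_lit 0) (nat_lit 0) (.node (.node (.node .nil (nat_lit 51) (nat_lit 225) (nat_lit 10) (nat_lit 0) .nil) (nat_lit 52) (nat_lit 189) (nat_lit 0) (nat_lit 0) .nil) (nat_lit 53) (nat_lit 135) (nat_lit 49) (nat_lit 0) (.node (.node .nil (nat_lit 54) (nat_lit 117) (nat_lit 73) (nat_lit 0) .nil) (nat_lit 55) (nat_lit 95) (nat_lit 25) (nat_lit 0) .nil))) (nat_lit 56) (nat_lit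 92) (nat_lit 69) (nat_lit 0) (.node (.node (.node (.node .nil (nat_lit 57) (nat_lit 309) (nat_lit 11) (nat_lit 0) .nil) (nat_lit 58) (nat_lit 181) (nat_lit 2) (nat_lit 0) .nil) (nat_lit 59) (nat_lit 229) (nat_lit 0) (nat_lit 0) (.node (.node .nil (nat_lit 60) (nat_lit 314) (nat_lit 24) (nat_lit 0) .nil) (nat_lit 61) (nat_lit 171) (nat_lit 10) (nat_lit 0) .nil)) (nat_lit 62) (nat_lit 306) (nat_lit 19) (nat_lit 0) (.node (.node (.node .nil (nat_lit 63) (nat_lit 346) (nat_lit 49) (nat_lit 0) .nil) (nat_lit 64) (nat_lit 300) (nat_lit 40) (nat_lit 0) .nil) (nat_lit 65) (nat_lit 254) (nat_lit 67) (nat_lit 0) (.node .nil (nat_lit 66) (nat_lit 252) (nat_lit 0) (nat_lit 0) .nil)))) (nat_lit 67) (nat_lit 156) (nat_lit 20) (nat_lit 0) (.node (.node (.node (.node (.node .nil (nat_lit 68) (nat_lit 105) (nat_lit 73) (nat_lit 0) .nil) (nat_lit 69) (nat_lit 257) (nat_lit 11) (nat_lit 0) .nil) (nat_lit 70) (nat_lit 20) (nat_lit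 94) (nat_lit 0) (.node (.node .nil (nat_lit 71) (nat_lit 286) (nat_lit 2) (nat_lit 0) .nil) (nat_lit 72) (nat_lit 345) (nat_lit 0) (nat_lit 0) .nil)) (nat_lit 73) (nat_lit 204) (nat_lit 0) (nat_lit 0) (.node (.node (.node .nil (nat_lit 74) (nat_lit 278) (nat_lit 11) (nat_lit 0) .nil) (nat_lit 75) (nat_lit 332) (nat_lit 24) (nat_lit 0) .nil) (nat_lit 76) (nat_lit 81) (nat_lit 87) (nat_lit 0) (.node .nil (nat_lit 77) (nat_lit 54) (nat_lit 2) (nat_lit 0) .nil))) (nat_lit 78) (nat_lit 288) (nat_lit 0) (nat_lit 0) (.node (.node (.node (.node .nil (nat_lit 79) (nat_lit 244) (nat_lit 65) (nat_lit 0) .nil) (nat_lit 80) (nat_lit 337) (nat_lit 40) (nat_lit 0) .nil) (nat_lit 81) (nat_lit 230) (nat_lit 0) (nat_lit 0) (.node (.node .nil (nat_lit 82) (nat_lit 331) (nat_lit 85) (nat_lit 0) .nil) (nat_lit 83) (nat_lit 246) (nat_lit 94) (nat_lit 0) .nil)) (nat_lit 84) (nat_lit 234) (nat_lit 10) (nat_lit 0) (.node (.node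 (.node .nil (nat_lit 85) (nat_lit 213) (nat_lit 49) (nat_lit 0) .nil) (nat_lit 86) (nat_lit 239) (nat_lit 46) (nat_lit 0) .nil) (nat_lit 87) (nat_lit 194) (nat_lit 73) (nat_lit 0) (.node .nil (nat_lit 88) (nat_lit 235) (nat_lit 49) (nat_lit 0) .nil)))))) (nat_lit 89) (nat_lit 153) (nat_lit 24) (nat_lit 0) (.node (.node (.node (.node (.node (.node (.node .nil (nat_lit 90) (nat_lit 206) (nat_lit 11) (nat_lit 0) .nil) (nat_lit 91) (nat_lit 163) (nat_lit 40) (nat_lit 0) .nil) (nat_lit 92) (nat_lit 126) (nat_lit 46) (nat_lit 0) (.node (.node .nil (nat_lit 93) (nat_lit 296) (nat_lit 38) (nat_lit 0) .nil) (nat_lit 94) (nat_lit 297) (nat_lit 73) (nat_lit 0) .nil)) (nat_lit 95) (nat_lit 0) (nat_lit 49) (nat_lit 0) (.node (.node (.node .nil (nat_lit 96) (nat_lit 295) (nat_lit 73) (nat_lit 0) .nil) (nat_lit 97) (nat_lit 298) (nat_lit 11) (nat_lit 0) .nil) (nat_lit 98) (nat_lit 1) (nat_lit 73) (nat_lit 0) (.node (.node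 .nil (nat_lit 99) (nat_lit 245) (nat_lit 73) (nat_lit 0) .nil) (nat_lit 100) (nat_lit 9) (nat_lit 84) (nat_lit 0) .nil))) (nat_lit 101) (nat_lit 26) (nat_lit 70) (nat_lit 0) (.node (.node (.node (.node .nil (nat_lit 102) (nat_lit 335) (nat_lit 67) (nat_lit 0) .nil) (nat_lit 103) (nat_lit 340) (nat_lit 38) (nat_lit 0) .nil) (nat_lit 104) (nat_lit 16) (nat_lit 49) (nat_lit 0) (.node (.node .nil (nat_lit 105) (nat_lit 77) (nat_lit 40) (nat_lit 0) .nil) (nat_lit 106) (nat_lit 40) (nat_lit 39) (nat_lit 0) .nil)) (nat_lit 107) (nat_lit 33) (nat_lit 10) (nat_lit 0) (.node (.node (.node .nil (nat_lit 108) (nat_lit 347) (nat_lit 65) (nat_lit 0) .nil) (nat_lit 109) (nat_lit 349) (nat_lit 21) (nat_lit 0) .nil) (nat_lit 110) (nat_lit 329) (nat_lit 67) (nat_lit 0) (.node .nil (nat_lit 111) (nat_lit 109) (nat_lit 70) (nat_lit 0) .nil)))) (nat_lit 112) (nat_lit 255) (nat_lit 46) (nat_lit 0) (.node (.node (.node (.node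 (.node .nil (nat_lit 113) (nat_lit 196) (nat_lit 65) (nat_lit 0) .nil) (nat_lit 114) (nat_lit 224) (nat_lit 10) (nat_lit 0) .nil) (nat_lit 115) (nat_lit 102) (nat_lit 65) (nat_lit 0) (.node (.node .nil (nat_lit 116) (nat_lit 165) (nat_lit 18) (nat_lit 0) .nil) (nat_lit 117) (nat_lit 137) (nat_lit 46) (nat_lit 0) .nil)) (nat_lit 118) (nat_lit 284) (nat_lit 2) (nat_lit 0) (.node (.node (.node .nil (nat_lit 119) (nat_lit 322) (nat_lit 90) (nat_lit 0) .nil) (nat_lit 120) (nat_lit 319) (nat_lit 70) (nat_lit 0) .nil) (nat_lit 121) (nat_lit 304) (nat_lit 8) (nat_lit 0) (.node .nil (nat_lit 122) (nat_lit 75) (nat_lit 10) (nat_lit 0) .nil))) (nat_lit 123) (nat_lit 148) (nat_lit 21) (nat_lit 0) (.node (.node (.node (.node .nil (nat_lit 124) (nat_lit 282) (nat_lit 11) (nat_lit 0) .nil) (nat_lit 125) (nat_lit 104) (nat_lit 11) (nat_lit 0) .nil) (nat_lit 126) (nat_lit 129) (nat_lit 39) (nat_lit 0) (.node (.node .nil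 (nat_lit 127) (nat_lit 277) (nat_lit 3) (nat_lit 0) .nil) (nat_lit 128) (nat_lit 273) (nat_lit 70) (nat_lit 0) .nil)) (nat_lit 129) (nat_lit 127) (nat_lit 49) (nat_lit 0) (.node (.node (.node .nil (nat_lit 130) (nat_lit 133) (nat_lit 11) (nat_lit 0) .nil) (nat_lit 131) (nat_lit 115) (nat_lit 10) (nat_lit 0) .nil) (nat_lit 132) (nat_lit 119) (nat_lit 11) (nat_lit 0) (.node .nil (nat_lit 133) (nat_lit 154) (nat_lit 85) (nat_lit 0) .nil))))) (nat_lit 134) (nat_lit 151) (nat_lit 10) (nat_lit 0) (.node (.node (.node (.node (.node (.node .nil (nat_lit 135) (nat_lit 91) (nat_lit 49) (nat_lit 0) .nil) (nat_lit 136) (nat_lit 222) (nat_lit 2) (nat_lit 0) .nil) (nat_lit 137) (nat_lit 249) (nat_lit 10) (nat_lit 0) (.node (.node .nil (nat_lit 138) (nat_lit 323) (nat_lit 46) (nat_lit 0) .nil) (nat_lit 139) (nat_lit 190) (nat_lit 73) (nat_lit 0) .nil)) (nat_lit 140) (nat_lit 219) (nat_lit 49) (nat_lit 0) (.node (.node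 (.node .nil (nat_lit 141) (nat_lit 250) (nat_lit 49) (nat_lit 0) .nil) (nat_lit 142) (nat_lit 145) (nat_lit 2) (nat_lit 0) .nil) (nat_lit 143) (nat_lit 280) (nat_lit 2) (nat_lit 0) (.node (.node .nil (nat_lit 144) (nat_lit 141) (nat_lit 10) (nat_lit 0) .nil) (nat_lit 145) (nat_lit 318) (nat_lit 25) (nat_lit 0) .nil))) (nat_lit 146) (nat_lit 132) (nat_lit 39) (nat_lit 0) (.node (.node (.node (.node .nil (nat_lit 147) (nat_lit 143) (nat_lit 10) (nat_lit 0) .nil) (nat_lit 148) (nat_lit 112) (nat_lit 11) (nat_lit 0) .nil) (nat_lit 149) (nat_lit 149) (nat_lit 67) (nat_lit 0) (.node (.node .nil (nat_lit 150) (nat_lit 281) (nat_lit 0) (nat_lit 0) .nil) (nat_lit 151) (nat_lit 146) (nat_lit 25) (nat_lit 0) .nil)) (nat_lit 152) (nat_lit 69) (nat_lit 11) (nat_lit 0) (.node (.node (.node .nil (nat_lit 153) (nat_lit 180) (nat_lit 3) (nat_lit 0) .nil) (nat_lit 154) (nat_lit 259) (nat_lit 11) (nat_lit 0) .nil) (nat_lit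 155) (nat_lit 198) (nat_lit 69) (nat_lit 0) (.node .nil (nat_lit 156) (nat_lit 187) (nat_lit 25) (nat_lit 0) .nil)))) (nat_lit 157) (nat_lit 334) (nat_lit 20) (nat_lit 0) (.node (.node (.node (.node (.node .nil (nat_lit 158) (nat_lit 46) (nat_lit 67) (nat_lit 0) .nil) (nat_lit 159) (nat_lit 32) (nat_lit 40) (nat_lit 0) .nil) (nat_lit 160) (nat_lit 51) (nat_lit 49) (nat_lit 0) (.node (.node .nil (nat_lit 161) (nat_lit 4) (nat_lit 21) (nat_lit 0) .nil) (nat_lit 162) (nat_lit 41) (nat_lit 49) (nat_lit 0) .nil)) (nat_lit 163) (nat_lit 57) (nat_lit 11) (nat_lit 0) (.node (.node (.node .nil (nat_lit 164) (nat_lit 14) (nat_lit 49) (nat_lit 0) .nil) (nat_lit 165) (nat_lit 37) (nat_lit 3) (nat_lit 0) .nil) (nat_lit 166) (nat_lit 58) (nat_lit 11) (nat_lit 0) (.node .nil (nat_lit 167) (nat_lit 19) (nat_lit 49) (nat_lit 0) .nil))) (nat_lit 168) (nat_lit 166) (nat_lit 95) (nat_lit 0) (.node (.node (.node (.node .nil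 (nat_lit 169) (nat_lit 157) (nat_lit 89) (nat_lit 0) .nil) (nat_lit 170) (nat_lit 45) (nat_lit 94) (nat_lit 0) .nil) (nat_lit 171) (nat_lit 88) (nat_lit 95) (nat_lit 0) (.node (.node .nil (nat_lit 172) (nat_lit 320) (nat_lit 25) (nat_lit 0) .nil) (nat_lit 173) (nat_lit 324) (nat_lit 40) (nat_lit 0) .nil)) (nat_lit 174) (nat_lit 107) (nat_lit 11) (nat_lit 0) (.node (.node (.node .nil (nat_lit 175) (nat_lit 240) (nat_lit 41) (nat_lit 0) .nil) (nat_lit 176) (nat_lit 243) (nat_lit 69) (nat_lit 0) .nil) (nat_lit 177) (nat_lit 55) (nat_lit 45) (nat_lit 0) (.node .nil (nat_lit 178) (nat_lit 167) (nat_lit 0) (nat_lit 0) .nil))))))) (nat_lit 179) (nat_lit 56) (nat_lit 88) (nat_lit 0) (.node (.node (.node (.node (.node (.node (.node (.node .nil (nat_lit 180) (nat_lit 90) (nat_lit 23) (nat_lit 0) .nil) (nat_lit 181) (nat_lit 313) (nat_lit 46) (nat_lit 0) .nil) (nat_lit 182) (nat_lit 310) (nat_lit 18) (nat_lit 0) (.node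 (.node .nil (nat_lit 183) (nat_lit 186) (nat_lit 10) (nat_lit 0) .nil) (nat_lit 184) (nat_lit 64) (nat_lit 44) (nat_lit 0) .nil)) (nat_lit 185) (nat_lit 205) (nat_lit 0) (nat_lit 0) (.node (.node (.node .nil (nat_lit 186) (nat_lit 330) (nat_lit 70) (nat_lit 0) .nil) (nat_lit 187) (nat_lit 333) (nat_lit 67) (nat_lit 0) .nil) (nat_lit 188) (nat_lit 123) (nat_lit 40) (nat_lit 0) (.node (.node .nil (nat_lit 189) (nat_lit 176) (nat_lit 18) (nat_lit 0) .nil) (nat_lit 190) (nat_lit 193) (nat_lit 24) (nat_lit 0) .nil))) (nat_lit 191) (nat_lit 209) (nat_lit 68) (nat_lit 0) (.node (.node (.node (.node .nil (nat_lit 192) (nat_lit 188) (nat_lit 49) (nat_lit 0) .nil) (nat_lit 193) (nat_lit 150) (nat_lit 49) (nat_lit 0) .nil) (nat_lit 194) (nat_lit 317) (nat_lit 65) (nat_lit 0) (.node (.node .nil (nat_lit 195) (nat_lit 231) (nat_lit 87) (nat_lit 0) .nil) (nat_lit 196) (nat_lit 341) (nat_lit 2) (nat_lit 0) .nil)) (nat_lit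 197) (nat_lit 233) (nat_lit 65) (nat_lit 0) (.node (.node (.node .nil (nat_lit 198) (nat_lit 276) (nat_lit 2) (nat_lit 0) .nil) (nat_lit 199) (nat_lit 312) (nat_lit 47) (nat_lit 0) .nil) (nat_lit 200) (nat_lit 325) (nat_lit 21) (nat_lit 0) (.node .nil (nat_lit 201) (nat_lit 22) (nat_lit 38) (nat_lit 0) .nil)))) (nat_lit 202) (nat_lit 203) (nat_lit 84) (nat_lit 0) (.node (.node (.node (.node (.node .nil (nat_lit 203) (nat_lit 321) (nat_lit 68) (nat_lit 0) .nil) (nat_lit 204) (nat_lit 218) (nat_lit 46) (nat_lit 0) .nil) (nat_lit 205) (nat_lit 5) (nat_lit 94) (nat_lit 0) (.node (.node .nil (nat_lit 206) (nat_lit 130) (nat_lit 24) (nat_lit 0) .nil) (nat_lit 207) (nat_lit 70) (nat_lit 23) (nat_lit 0) .nil)) (nat_lit 208) (nat_lit 99) (nat_lit 87) (nat_lit 0) (.node (.node (.node .nil (nat_lit 209) (nat_lit 93) (nat_lit 84) (nat_lit 0) .nil) (nat_lit 210) (nat_lit 120) (nat_lit 7) (nat_lit 0) .nil) (nat_lit 211)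 (nat_lit 108) (nat_lit 49) (nat_lit 0) (.node .nil (nat_lit 212) (nat_lit 100) (nat_lit 86) (nat_lit 0) .nil))) (nat_lit 213) (nat_lit 110) (nat_lit 24) (nat_lit 0) (.node (.node (.node (.node .nil (nat_lit 214) (nat_lit 138) (nat_lit 2) (nat_lit 0) .nil) (nat_lit 215) (nat_lit 83) (nat_lit 10) (nat_lit 0) .nil) (nat_lit 216) (nat_lit 147) (nat_lit 41) (nat_lit 0) (.node (.node .nil (nat_lit 217) (nat_lit 39) (nat_lit 25) (nat_lit 0) .nil) (nat_lit 218) (nat_lit 136) (nat_lit 38) (nat_lit 0) .nil)) (nat_lit 219) (nat_lit 164) (nat_lit 11) (nat_lit 0) (.node (.node (.node .nil (nat_lit 220) (nat_lit 170) (nat_lit 49) (nat_lit 0) .nil) (nat_lit 221) (nat_lit 351) (nat_lit 24) (nat_lit 0) .nil) (nat_lit 222) (nat_lit 232) (nat_lit 20) (nat_lit 0) (.node .nil (nat_lit 223) (nat_lit 256) (nat_lit 11) (nat_lit 0) .nil))))) (nat_lit 224) (nat_lit 125) (nat_lit 11) (nat_lit 0) (.node (.node (.node (.node (.node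 (.node .nil (nat_lit 225) (nat_lit 162) (nat_lit 69) (nat_lit 0) .nil) (nat_lit 226) (nat_lit 191) (nat_lit 0) (nat_lit 0) .nil) (nat_lit 227) (nat_lit 214) (nat_lit 11) (nat_lit 0) (.node (.node .nil (nat_lit 228) (nat_lit 315) (nat_lit 21) (nat_lit 0) .nil) (nat_lit 229) (nat_lit 353) (nat_lit 24) (nat_lit 0) .nil)) (nat_lit 230) (nat_lit 178) (nat_lit 7) (nat_lit 0) (.node (.node (.node .nil (nat_lit 231) (nat_lit 192) (nat_lit 24) (nat_lit 0) .nil) (nat_lit 232) (nat_lit 355) (nat_lit 21) (nat_lit 0) .nil) (nat_lit 233) (nat_lit 238) (nat_lit 24) (nat_lit 0) (.node (.node .nil (nat_lit 234) (nat_lit 248) (nat_lit 11) (nat_lit 0) .nil) (nat_lit 235) (nat_lit 197) (nat_lit 25) (nat_lit 0) .nil))) (nat_lit 236) (nat_lit 182) (nat_lit 21) (nat_lit 0) (.node (.node (.node (.node .nil (nat_lit 237) (nat_lit 195) (nat_lit 73) (nat_lit 0) .nil) (nat_lit 238) (nat_lit 207) (nat_lit 11) (nat_lit 0) .nil) (nat_lit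 239) (nat_lit 352) (nat_lit 25) (nat_lit 0) (.node (.node .nil (nat_lit 240) (nat_lit 307) (nat_lit 73) (nat_lit 0) .nil) (nat_lit 241) (nat_lit 236) (nat_lit 7) (nat_lit 0) .nil)) (nat_lit 242) (nat_lit 251) (nat_lit 40) (nat_lit 0) (.node (.node (.node .nil (nat_lit 243) (nat_lit 215) (nat_lit 11) (nat_lit 0) .nil) (nat_lit 244) (nat_lit 223) (nat_lit 11) (nat_lit 0) .nil) (nat_lit 245) (nat_lit 3) (nat_lit 11) (nat_lit 0) (.node .nil (nat_lit 246) (nat_lit 270) (nat_lit 18) (nat_lit 0) .nil)))) (nat_lit 247) (nat_lit 264) (nat_lit 20) (nat_lit 0) (.node (.node (.node (.node (.node .nil (nat_lit 248) (nat_lit 10) (nat_lit 11) (nat_lit 0) .nil) (nat_lit 249) (nat_lit 29) (nat_lit 73) (nat_lit 0) .nil) (nat_lit 250) (nat_lit 6) (nat_lit 25) (nat_lit 0) (.node (.node .nil (nat_lit 251) (nat_lit 354) (nat_lit 18) (nat_lit 0) .nil) (nat_lit 252) (nat_lit 356) (nat_lit 0) (nat_lit 0) .nil)) (nat_lit 253) (nat_lit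 265) (nat_lit 0) (nat_lit 0) (.node (.node (.node .nil (nat_lit 254) (nat_lit 242) (nat_lit 24) (nat_lit 0) .nil) (nat_lit 255) (nat_lit 261) (nat_lit 0) (nat_lit 0) .nil) (nat_lit 256) (nat_lit 272) (nat_lit 70) (nat_lit 0) (.node .nil (nat_lit 257) (nat_lit 266) (nat_lit 24) (nat_lit 0) .nil))) (nat_lit 258) (nat_lit 263) (nat_lit 70) (nat_lit 0) (.node (.node (.node (.node .nil (nat_lit 259) (nat_lit 2) (nat_lit 11) (nat_lit 0) .nil) (nat_lit 260) (nat_lit 269) (nat_lit 69) (nat_lit 0) .nil) (nat_lit 261) (nat_lit 241) (nat_lit 46) (nat_lit 0) (.node (.node .nil (nat_lit 262) (nat_lit 13) (nat_lit 11) (nat_lit 0) .nil) (nat_lit 263) (nat_lit 27) (nat_lit 46) (nat_lit 0) .nil)) (nat_lit 264) (nat_lit 7) (nat_lit 86) (nat_lit 0) (.node (.node (.node .nil (nat_lit 265) (nat_lit 185) (nat_lit 47) (nat_lit 0) .nil) (nat_lit 266) (nat_lit 74) (nat_lit 18) (nat_lit 0) .nil) (nat_lit 267) (nat_lit 131) (nat_lit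 48) (nat_lit 0) (.node .nil (nat_lit 268) (nat_lit 87) (nat_lit 86) (nat_lit 0) .nil)))))) (nat_lit 269) (nat_lit 35) (nat_lit 44) (nat_lit 0) (.node (.node (.node (.node (.node (.node (.node .nil (nat_lit 270) (nat_lit 62) (nat_lit 42) (nat_lit 0) .nil) (nat_lit 271) (nat_lit 97) (nat_lit 45) (nat_lit 0) .nil) (nat_lit 272) (nat_lit 78) (nat_lit 68) (nat_lit 0) (.node (.node .nil (nat_lit 273) (nat_lit 86) (nat_lit 11) (nat_lit 0) .nil) (nat_lit 274) (nat_lit 73) (nat_lit 68) (nat_lit 0) .nil)) (nat_lit 275) (nat_lit 228) (nat_lit 40) (nat_lit 0) (.node (.node (.node .nil (nat_lit 276) (nat_lit 28) (nat_lit 49) (nat_lit 0) .nil) (nat_lit 277) (nat_lit 23) (nat_lit 10) (nat_lit 0) .nil) (nat_lit 278) (nat_lit 183) (nat_lit 40) (nat_lit 0) (.node (.node .nil (nat_lit 279) (nat_lit 169) (nat_lit 20) (nat_lit 0) .nil) (nat_lit 280) (nat_lit 173) (nat_lit 48) (nat_lit 0) .nil))) (nat_lit 281) (nat_lit 208) (nat_lit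 39) (nat_lit 0) (.node (.node (.node (.node .nil (nat_lit 282) (nat_lit 121) (nat_lit 7) (nat_lit 0) .nil) (nat_lit 283) (nat_lit 201) (nat_lit 65) (nat_lit 0) .nil) (nat_lit 284) (nat_lit 202) (nat_lit 87) (nat_lit 0) (.node (.node .nil (nat_lit 285) (nat_lit 49) (nat_lit 68) (nat_lit 0) .nil) (nat_lit 286) (nat_lit 61) (nat_lit 89) (nat_lit 0) .nil)) (nat_lit 287) (nat_lit 139) (nat_lit 68) (nat_lit 0) (.node (.node (.node .nil (nat_lit 288) (nat_lit 161) (nat_lit 0) (nat_lit 0) .nil) (nat_lit 289) (nat_lit 85) (nat_lit 40) (nat_lit 0) .nil) (nat_lit 290) (nat_lit 24) (nat_lit 46) (nat_lit 0) (.node .nil (nat_lit 291) (nat_lit 89) (nat_lit 71) (nat_lit 0) .nil)))) (nat_lit 292) (nat_lit 68) (nat_lit 18) (nat_lit 0) (.node (.node (.node (.node (.node .nil (nat_lit 293) (nat_lit 174) (nat_lit 2) (nat_lit 0) .nil) (nat_lit 294) (nat_lit 159) (nat_lit 65) (nat_lit 0) .nil) (nat_lit 295) (nat_lit 172) (nat_lit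 70) (nat_lit 0) (.node (.node .nil (nat_lit 296) (nat_lit 158) (nat_lit 71) (nat_lit 0) .nil) (nat_lit 297) (nat_lit 66) (nat_lit 44) (nat_lit 0) .nil)) (nat_lit 298) (nat_lit 48) (nat_lit 90) (nat_lit 0) (.node (.node (.node .nil (nat_lit 299) (nat_lit 179) (nat_lit 26) (nat_lit 0) .nil) (nat_lit 300) (nat_lit 262) (nat_lit 3) (nat_lit 0) .nil) (nat_lit 301) (nat_lit 118) (nat_lit 10) (nat_lit 0) (.node .nil (nat_lit 302) (nat_lit 114) (nat_lit 26) (nat_lit 0) .nil))) (nat_lit 303) (nat_lit 260) (nat_lit 21) (nat_lit 0) (.node (.node (.node (.node .nil (nat_lit 304) (nat_lit 358) (nat_lit 70) (nat_lit 0) .nil) (nat_lit 305) (nat_lit 357) (nat_lit 11) (nat_lit 0) .nil) (nat_lit 306) (nat_lit 113) (nat_lit 46) (nat_lit 0) (.node (.node .nil (nat_lit 307) (nat_lit 116) (nat_lit 38) (nat_lit 0) .nil) (nat_lit 308) (nat_lit 84) (nat_lit 67) (nat_lit 0) .nil)) (nat_lit 309) (nat_lit 103) (nat_lit 86) (nat_lit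 0) (.node (.node (.node .nil (nat_lit 310) (nat_lit 124) (nat_lit 44) (nat_lit 0) .nil) (nat_lit 311) (nat_lit 220) (nat_lit 68) (nat_lit 0) .nil) (nat_lit 312) (nat_lit 15) (nat_lit 0) (nat_lit 0) (.node .nil (nat_lit 313) (nat_lit 184) (nat_lit 70) (nat_lit 0) .nil))))) (nat_lit 314) (nat_lit 144) (nat_lit 70) (nat_lit 0) (.node (.node (.node (.node (.node (.node .nil (nat_lit 315) (nat_lit 122) (nat_lit 70) (nat_lit 0) .nil) (nat_lit 316) (nat_lit 200) (nat_lit 67) (nat_lit 0) .nil) (nat_lit 317) (nat_lit 168) (nat_lit 48) (nat_lit 0) (.node (.node .nil (nat_lit 318) (nat_lit 25) (nat_lit 25) (nat_lit 0) .nil) (nat_lit 319) (nat_lit 65) (nat_lit 87) (nat_lit 0) .nil)) (nat_lit 320) (nat_lit 59) (nat_lit 85) (nat_lit 0) (.node (.node (.node .nil (nat_lit 321) (nat_lit 211) (nat_lit 19) (nat_lit 0) .nil) (nat_lit 322) (nat_lit 12) (nat_lit 67) (nat_lit 0) .nil) (nat_lit 323) (nat_lit 338) (nat_lit 7) (nat_lit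 0) (.node (.node .nil (nat_lit 324) (nat_lit 221) (nat_lit 38) (nat_lit 0) .nil) (nat_lit 325) (nat_lit 71) (nat_lit 86) (nat_lit 0) .nil))) (nat_lit 326) (nat_lit 316) (nat_lit 25) (nat_lit 0) (.node (.node (.node (.node .nil (nat_lit 327) (nat_lit 279) (nat_lit 0) (nat_lit 0) .nil) (nat_lit 328) (nat_lit 42) (nat_lit 22) (nat_lit 0) .nil) (nat_lit 329) (nat_lit 344) (nat_lit 7) (nat_lit 0) (.node (.node .nil (nat_lit 330) (nat_lit 226) (nat_lit 86) (nat_lit 0) .nil) (nat_lit 331) (nat_lit 30) (nat_lit 48) (nat_lit 0) .nil)) (nat_lit 332) (nat_lit 21) (nat_lit 84) (nat_lit 0) (.node (.node (.node .nil (nat_lit 333) (nat_lit 111) (nat_lit 48) (nat_lit 0) .nil) (nat_lit 334) (nat_lit 17) (nat_lit 40) (nat_lit 0) .nil) (nat_lit 335) (nat_lit 134) (nat_lit 88) (nat_lit 0) (.node .nil (nat_lit 336) (nat_lit 98) (nat_lit 24) (nat_lit 0) .nil)))) (nat_lit 337) (nat_lit 63) (nat_lit 49) (nat_lit 0) (.node (.node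 (.node (.node (.node .nil (nat_lit 338) (nat_lit 140) (nat_lit 85) (nat_lit 0) .nil) (nat_lit 339) (nat_lit 38) (nat_lit 66) (nat_lit 0) .nil) (nat_lit 340) (nat_lit 18) (nat_lit 10) (nat_lit 0) (.node (.node .nil (nat_lit 341) (nat_lit 106) (nat_lit 11) (nat_lit 0) .nil) (nat_lit 342) (nat_lit 31) (nat_lit 69) (nat_lit 0) .nil)) (nat_lit 343) (nat_lit 82) (nat_lit 85) (nat_lit 0) (.node (.node (.node .nil (nat_lit 344) (nat_lit 44) (nat_lit 23) (nat_lit 0) .nil) (nat_lit 345) (nat_lit 34) (nat_lit 49) (nat_lit 0) .nil) (nat_lit 346) (nat_lit 47) (nat_lit 22) (nat_lit 0) (.node .nil (nat_lit 347) (nat_lit 72) (nat_lit 70) (nat_lit 0) .nil))) (nat_lit 348) (nat_lit 60) (nat_lit 40) (nat_lit 0) (.node (.node (.node (.node .nil (nat_lit 349) (nat_lit 210) (nat_lit 69) (nat_lit 0) .nil) (nat_lit 350) (nat_lit 96) (nat_lit 94) (nat_lit 0) .nil) (nat_lit 351) (nat_lit 152) (nat_lit 11) (nat_lit 0) (.node (.node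 .nil (nat_lit 352) (nat_lit 303) (nat_lit 7) (nat_lit 0) .nil) (nat_lit 353) (nat_lit 301) (nat_lit 2) (nat_lit 0) .nil)) (nat_lit 354) (nat_lit 289) (nat_lit 25) (nat_lit 0) (.node (.node (.node .nil (nat_lit 355) (nat_lit 67) (nat_lit 44) (nat_lit 0) .nil) (nat_lit 356) (nat_lit 177) (nat_lit 39) (nat_lit 0) .nil) (nat_lit 357) (nat_lit 293) (nat_lit 0) (nat_lit 0) (.node .nil (nat_lit 358) (nat_lit 212) (nat_lit 67) (nat_lit 0) .nil))))))))

/-- **The cover.** -/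
theorem coverP : CoverM Base.fSp Bk.KP Base.fc Base.fe := coverP_of (N := NP) (by decide +kernel)

end Cfsg.Agent.BX.No33.Cv
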