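import Cfsg.Agent.BMx.FastV
set_option linter.all false
open scoped Cfsg.Agent.FastGrp

/-!
# Inner products of packed vectors (helper8)

`RegV x f` : the number `x` stores the short vector `f`.  `dt x (rv y)` is the inner product modulo `2 ^ 17`:
`rv` doubles the lanes of weight 2 and reverses the order of the lanes, `dt` reads the middle digit of three products.
-/

set_option autoImplicit false
set_option maxHeartbeats 200000

namespace Cfsg.Agent.BX.No33

open Cfsg.Agent.Lib.PermNet Cfsg.Agent.Monster.VecEngine Cfsg.Agent.Monster.VecSpace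
  Cfsg.Agent.BabyM.Conc Cfsg.Agent.BMx.Fast Cfsg.Agent.BMx.FastV

/-! ### The middle digit of a product -/

theorem fld_corr {W n B : ℕ} (a b : ℕ → ℕ) (ha : ∀ i, a i ≤ B) (hb : ∀ i, b i ≤ B) (h : (n + 1) * (B * B) < 2 ^ W) :
    fld W (enc W a (n + 1) * enc W b (n + 1)) n = ∑ i ∈ Finset.range (n + 1), a i * b (n - i) := by
  have h1 : enc W a (n + 1) * enc W b (n + 1) = enc W (fun k => ∑ i ∈ Finset.range (n + 1),
      ∑ j ∈ Finset.range (n + 1), if i + j = k then a i * b j else 0) (2 * n + 2) := by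
    unfold enc
    rw [Finset.sum_mul_sum]
    simp only [Finset.sum_mul]
    rw [Finset.sum_comm (s := Finset.range (2 * n + 2))]
    refine Finset.sum_congr rfl fun i hi => ?_
    rw [Finset.sum_comm (s := Finset.range (2 * n + 2))]
    refine Finset.sum_congr rfl fun j hj => ?_
    rw [Finset.mem_range] at hi hj
    rw [Finset.sum_eq_single (i + j)]
    · rw [if_pos rfl, Nat.mul_add, pow_add]
      ring
    · intro k _ hk
      rw [if_neg (Ne.symm hk), Nat.zero_mul]
    · intro hk
      exact absurd (Finset.mem_range.2 (by omega)) hk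
  have h2 : ∀ i k, (∑ j ∈ Finset.range (n + 1), if i + j = k then a i * b j else 0) ≤ B * B := by
    intro i k
    calc _ ≤ ∑ j ∈ Finset.range (n + 1), if j = k - i then B * B else 0 := by
          refine Finset.sum_le_sum fun j _ => ?_
          split_ifs with h3 h4
          · exact Nat.mul_le_mul (ha _) (hb _)
          · omega
          · exact Nat.zero_le _
          · exact le_rfl
      _ ≤ B * B := by
          rw [Finset.sum_ite_eq']
          split_ifs
          · exact le_rfl
          · exact Nat.zero_le _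
  rw [h1, fld_enc W _ _ (fun k _ => lt_of_le_of_lt ?_ h), if_pos (by omega)]
  · refine Finset.sum_congr rfl fun i hi => ?_
    rw [Finset.mem_range] at hi
    rw [Finset.sum_eq_single (n - i)]
    · rw [if_pos (by omega)]
    · intro j _ hj
      rw [if_neg (by omega)]
    · intro hk
      exact absurd (Finset.mem_range.2 (by omega)) hk
  · have h3 := Finset.sum_le_card_nsmul (Finset.range (n + 1)) _ (B * B) fun i _ => h2 i k
    rwa [Finset.card_range, smul_eq_mul] at h3

/-- every third lane -/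
noncomputable def m54 : ℕ := Nat.mul (ones 54 2048) 262143

theorem fld_m54' (S : ℕ) (hS : ∀ i, fld 54 S i = if i < 2048 then 1 else 0) (i : ℕ) :
    fld 54 (Nat.mul S 262143) i = if i < 2048 then 262143 else 0 := by
  show fld 54 (S * 262143) i = _
  rw [fld_mul (by norm_num) _ _ (fun j => by rw [hS]; split_ifs <;> norm_num), hS]
  split_ifs <;> norm_num

theorem fld_m54 (i : ℕ) : fld 54 m54 i = if i < 2048 then 262143 else 0 := by
  unfold m54
  exact fld_m54' _ (fld_ones (by norm_num) 2048) i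

attribute [irreducible] m54

/-- the lanes `3 i + r` -/
noncomputable def ex (x r : ℕ) : ℕ := Nat.land (Nat.shiftRight x (Nat.mul 18 r)) m54

theorem ex_eq (x r : ℕ) : ex x r = enc 54 (fun i => fld 18 x (3 * i + r)) (2047 + 1) := by
  apply fld_ext (W := 54) (by norm_num)
  intro i
  rw [fld_enc 54 _ _ (fun j _ => (fld_lt 18 x _).trans (by norm_num))]
  show fld 54 ((x >>> (18 * r)) &&& m54) i = _
  rw [fld_and, fld_m54]
  split_ifs with hi
  · apply Nat.eq_of_testBit_eq
    intro j
    rw [Nat.testBit_and, testBit_fld, testBit_fld, Nat.testBit_shiftRight,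
      show (262143 : ℕ) = 2 ^ 18 - 1 by norm_num, Nat.testBit_two_pow_sub_one,
      show 18 * r + (54 * i + j) = 18 * (3 * i + r) + j by ring]
    by_cases hj : j < 18
    · have : j < 54 := by omega
      simp [hj, this]
    · simp [hj]
  · exact Nat.and_zero _

/-- the middle digit modulo `2 ^ 17` -/
noncomputable def lo (x y r s : ℕ) : ℕ := Nat.land (Nat.shiftRight (Nat.mul (ex x r) (ex y s)) 110538) 131071

theorem lo_eq (x y r s : ℕ) :
    lo x y r s = (∑ i ∈ Finset.range 2048, fld 18 x (3 * i + r) * fld 18 y (3 * (2047 - i) + s)) % 131072 := by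
  have h := fld_corr (W := 54) (n := 2047) (B := 262144) (fun i => fld 18 x (3 * i + r)) (fun i => fld 18 y (3 * i + s))
    (fun i => (fld_lt' x _).le) (fun i => (fld_lt' y _).le) (by norm_num)
  rw [← ex_eq, ← ex_eq] at h
  show ((ex x r * ex y s) >>> 110538) &&& (2 ^ 17 - 1) = _
  rw [Nat.and_two_pow_sub_one_eq_mod, Nat.shiftRight_eq_div_pow]
  generalize ex x r * ex y s = P at h
  have h1 : P / 2 ^ 110538 % 2 ^ 54 = ∑ i ∈ Finset.range 2048, fld 18 x (3 * i + r) * fld 18 y (3 * (2047 - i) + s) := h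
  rw [← h1]
  generalize P / 2 ^ 110538 = Q
  omega

/-- the sum of the products of lane `i` of `x` and lane `6143 - i` of `y`, modulo `2 ^ 17` -/
noncomputable def dt (x y : ℕ) : ℕ := Nat.land (Nat.add (Nat.add (lo x y 0 2) (lo x y 1 1)) (lo x y 2 0)) 131071

theorem sum_three (f : ℕ → ℕ) (n : ℕ) : ∑ i ∈ Finset.range (3 * n), f i =
    ∑ i ∈ Finset.range n, f (3 * i + 0) + ∑ i ∈ Finset.range n, f (3 * i + 1) + ∑ i ∈ Finset.range n, f (3 * i + 2) := by
  induction n with
  | zero => rfl
  | succ n ih =>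
    rw [show 3 * (n + 1) = 3 * n + 1 + 1 + 1 by ring, Finset.sum_range_succ, Finset.sum_range_succ,
      Finset.sum_range_succ, ih, Finset.sum_range_succ, Finset.sum_range_succ, Finset.sum_range_succ]
    simp only [Nat.add_zero, Nat.add_assoc]
    omega

theorem dt_eq (x y : ℕ) : dt x y = (∑ i ∈ Finset.range 6144, fld 18 x i * fld 18 y (6143 - i)) % 131072 := by
  have h := sum_three (fun i => fld 18 x i * fld 18 y (6143 - i)) 2048
  have e : ∀ r s, r + s = 2 → ∑ i ∈ Finset.range 2048, fld 18 x (3 * i + r) * fld 18 y (6143 - (3 * i + r)) =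
      ∑ i ∈ Finset.range 2048, fld 18 x (3 * i + r) * fld 18 y (3 * (2047 - i) + s) := fun r s hrs =>
    Finset.sum_congr rfl fun i hi => by
      rw [Finset.mem_range] at hi
      rw [show 6143 - (3 * i + r) = 3 * (2047 - i) + s by omega]
  rw [e 0 2 rfl, e 1 1 rfl, e 2 0 rfl] at h
  show (lo x y 0 2 + lo x y 1 1 + lo x y 2 0) &&& (2 ^ 17 - 1) = _
  rw [Nat.and_two_pow_sub_one_eq_mod, lo_eq, lo_eq, lo_eq, show 6144 = 3 * 2048 from rfl, h]
  omega

/-! ### Reversal of the lanes -/

/-- the lanes with bit `k` equal to `0` -/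
noncomputable def mR (k : ℕ) : ℕ :=
  Nat.mul (ones (Nat.pow 2 (Nat.succ k)) (Nat.mul 3 (Nat.pow 2 (Nat.sub 10 k)))) (Nat.sub (Nat.pow 2 (Nat.pow 2 k)) 1)

/-- the network of the reversal -/
noncomputable def revN : Net :=
  .cons (mR 0) 1 (.cons (mR 1) 2 (.cons (mR 2) 4 (.cons (mR 3) 8 (.cons (mR 4) 16 (.cons (mR 5) 32 (.cons (mR 6) 64
    (.cons (mR 7) 128 (.cons (mR 8) 256 (.cons (mR 9) 512 (.cons (mR 10) 1024
      (.cons (Nat.sub (Nat.pow 2 2048) 1) 4096 .nil)))))))))))

theorem revN_ok : revN.ok 6144 = true := by decide +kernel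

/-- lane `i < n` holds `i` -/
noncomputable def idN (n : ℕ) : ℕ :=
  Nat.rec (motive := fun _ => ℕ) 0 (fun i ih => Nat.add ih (Nat.shiftLeft i (Nat.mul 18 i))) n

theorem idN_eq (n : ℕ) : idN n = enc 18 (fun i => i) n := by
  induction n with
  | zero => rfl
  | succ n ih =>
    show idN n + n <<< (18 * n) = _
    unfold enc at ih ⊢
    rw [Finset.sum_range_succ, ih, Nat.shiftLeft_eq]

theorem rev_id : seqB (idN 6144) (fun x => Nat.beq (Nat.add (netF 77 revN 0 x) x) (Nat.mul one 6143)) = true := by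
  decide +kernel

theorem perm_of {N : Net} (hN : N.ok 6144 = true) {x : ℕ} (h1 : ∀ j, fld 18 x j = if j < 6144 then j else 0)
    (h0 : seqB x (fun x => Nat.beq (Nat.add (netF 77 N 0 x) x) (Nat.mul one 6143)) = true) {i : ℕ} (hi : i < 6144) :
    N.perm i = 6143 - i := by
  rw [seqB_eq] at h0
  have h : netF 77 N 0 x + x = Nat.mul one 6143 := Nat.eq_of_beq_eq_true h0
  have h2 : fld 18 (netF 77 N 0 x + x) i = fld 18 (Nat.mul one 6143) i := by rw [h]
  rw [fld_mul_of one 6143 (by norm_num) fld_one, if_pos hi, fld_add h18 _ _ (fun j => by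
    rw [fld_netF 77 hN, h1, h1]
    split_ifs <;> omega), fld_netF 77 hN, h1, h1, if_pos hi, if_pos (perm_lt hN hi)] at h2
  omega

theorem fld_idN (n : ℕ) (hn : n ≤ 6144) (j : ℕ) : fld 18 (idN n) j = if j < n then j else 0 := by
  rw [idN_eq, fld_enc 18 _ _ (fun k hk => by omega)]

theorem revN_perm {i : ℕ} (hi : i < 6144) : revN.perm i = 6143 - i :=
  perm_of revN_ok (fld_idN 6144 le_rfl) rev_id hi

attribute [irreducible] revN

/-- the lanes of weight 2 -/
noncomputable def sw : ℕ := sgnP wt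

theorem wt_eq : wt = .sgn sw := by
  delta sw wt sgnP
  exact Eq.refl _

theorem sw_sml : sml sw = true := by decide +kernel

attribute [irreducible] sw

/-- double the lanes of weight 2 and reverse -/
noncomputable def rv (x : ℕ) : ℕ := netF 77 revN 0 (dblF (spr 78 0 sw) x)

/-! ### Registers of arbitrary short vectors -/

/-- `x` stores the short vector `f` -/
structure RegV (x : ℕ) (f : V) : Prop where
  rep : Rep x (ext ℚ U f)
  len : dotW ℚ U wt f f < 1073741824

theorem RegV.short {x : ℕ} {f : V} (h : RegV x f) : Short U wt (ext ℚ U f) where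
  supp := ind_ext ℚ U _
  len := by
    rw [wform_eq, res_ext]
    exact h.len

theorem RegV.step {x : ℕ} {f : V} (hx : RegV x f) (l : Ltr) (k : ℕ → Bool) (h : step l x k = true) :
    ∃ y, RegV y (E l f) ∧ k y = true := by
  obtain ⟨n, hn⟩ := step_eq l
  rw [hn] at h
  obtain ⟨y, hy, hk⟩ := runP_sound n l.prog (saf_prog l) hx.short hx.rep 0 k h
  refine ⟨y, ⟨?_, ?_⟩, hk⟩
  · rw [E_apply, ← sem_ext ℚ (good_prog l).pres]
    exact hy
  · exact lt_of_eq_of_lt (dotW_semE ℚ two_ne_zero (good_prog l) f f) hx.len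

theorem RegV.run {x : ℕ} {f : V} (hx : RegV x f) (w : List Ltr) (k : ℕ → Bool) (h : runW w x k = true) :
    ∃ y, RegV y (W w f) ∧ k y = true := by
  induction w generalizing x f with
  | nil => exact ⟨x, hx, h⟩
  | cons l w ih =>
    have h' : Cfsg.Agent.BMx.Fast.step l x (fun y => runW w y k) = true := h
    obtain ⟨y, hy, hk⟩ := hx.step l _ h'
    obtain ⟨z, hz, hk'⟩ := ih hy hk
    exact ⟨z, by rwa [W_cons, LinearEquiv.mul_apply], hk'⟩

theorem RegV.inj {x : ℕ} {f f' : V} (h : RegV x f) (h' : RegV x f') : f = f' := by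
  funext i
  have h2 := (h.rep i.1).symm.trans (h'.rep i.1)
  have h3 := sml_sound U_sml i.1 i.2
  rw [if_pos h3, if_pos h3, ext_coe, ext_coe] at h2
  linarith

theorem regV_of_okV {p : Pl} {n : ℕ} (h : okV p n = true) : RegV (ofPl p) (vecU ℚ U p) := by
  obtain ⟨hs, hc⟩ := sim_of_okV h
  refine ⟨?_, ?_⟩
  · rw [vecU_eq, ext_res, hs.supp]
    exact hs.rep
  · have h1 := hs.len
    rw [wform_eq] at h1
    exact h1.trans_lt (by exact_mod_cast hc)

theorem weight_eq (i : ℕ) : (2 : ℚ) ^ (-(val wt i)) = if sw.testBit i then 2 else 1 := by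
  rw [wt_eq, val_sgn, neg_neg]
  unfold bt
  split_ifs <;> norm_num

theorem sq_le_dotW {U : ℕ} {w : Pl} (f : Lane U → ℚ) (i : Lane U) :
    (2 : ℚ) ^ (-(val w i.1)) * (f i * f i) ≤ dotW ℚ U w f f :=
  Finset.single_le_sum (f := fun j : Lane U => (2 : ℚ) ^ (-(val w j.1)) * (f j * f j))
    (fun j _ => mul_nonneg (by positivity) (mul_self_nonneg _)) (Finset.mem_univ i)

theorem dotW_range {U n : ℕ} (hU : U < 2 ^ n) (w : Pl) (f f' : Lane U → ℚ) : dotW ℚ U w f f' =
    ∑ i ∈ Finset.range n, if U.testBit i then (2 : ℚ) ^ (-(val w i)) * (ext ℚ U f i * ext ℚ U f' i) else 0 := by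
  rw [← sum_lane hU (fun i => (2 : ℚ) ^ (-(val w i)) * (ext ℚ U f i * ext ℚ U f' i))]
  exact Finset.sum_congr rfl fun i _ => by rw [ext_coe, ext_coe]

theorem RegV.bd {x : ℕ} {f : V} (h : RegV x f) : Bd (ldbl ℚ sw (ext ℚ U f)) := by
  intro i
  show -131072 < (if sw.testBit i then 2 * ext ℚ U f i else ext ℚ U f i) ∧
    (if sw.testBit i then 2 * ext ℚ U f i else ext ℚ U f i) < 131072
  by_cases hi : U.testBit i = true
  · rw [ext_apply_of_true ℚ hi]
    have h1 := sq_le_dotW (w := wt) f ⟨i, hi⟩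
    rw [weight_eq] at h1
    have h2 := h.len
    generalize dotW ℚ U wt f f = D at h1 h2
    generalize f ⟨i, hi⟩ = t at h1 ⊢
    have h3 : t * t < 32768 * 32768 := by
      have := mul_self_nonneg t
      split_ifs at h1 <;> linarith
    have h4 : -32768 < t ∧ t < 32768 := abs_lt_of_sq_lt_sq' (by rw [pow_two, pow_two]; exact h3) (by norm_num)
    split_ifs <;> constructor <;> linarith [h4.1, h4.2]
  · rw [ext_apply_of_not ℚ hi]
    split_ifs <;> norm_num

theorem U_lt' : U < 2 ^ 6144 := by decide +kernel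

/-- **The inner product modulo `2 ^ 17`.** -/
theorem dt_sound {x y : ℕ} {f f' : V} (hx : RegV x f) (hy : RegV y f') :
    ∃ z : ℤ, dotW ℚ U wt f f' = z ∧ (dt x (rv y) : ℤ) = z % 131072 := by
  have hd : Rep (dblF (spr 78 0 sw) y) (ldbl ℚ sw (ext ℚ U f')) :=
    rep_dbl (sp_spr 78 0 (sml_sound sw_sml)) (sml_sound sw_sml) hy.rep hy.bd
  have h1 : dt x (rv y) = (∑ i ∈ Finset.range 6144, fld 18 x i * fld 18 (dblF (spr 78 0 sw) y) i) % 131072 := by
    rw [dt_eq]
    refine congrArg (· % 131072) (Finset.sum_congr rfl fun i hi => ?_)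
    rw [Finset.mem_range] at hi
    unfold rv
    rw [fld_netF 77 revN_ok, revN_perm (by omega), show 6143 - (6143 - i) = i by omega]
  generalize dblF (spr 78 0 sw) y = y' at hd h1
  refine ⟨∑ i ∈ Finset.range 6144, ((fld 18 x i : ℤ) - 131072) * ((fld 18 y' i : ℤ) - 131072), ?_, ?_⟩
  · rw [dotW_range U_lt', Int.cast_sum]
    refine Finset.sum_congr rfl fun i hi => ?_
    rw [Finset.mem_range] at hi
    have h3 := hx.rep i
    have h4 : (fld 18 y' i : ℚ) =
        if i < 6144 then (if sw.testBit i then 2 * ext ℚ U f' i else ext ℚ U f' i) + 131072 else 0 := hd i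
    rw [if_pos hi] at h3 h4
    push_cast
    rw [h3, h4, weight_eq]
    by_cases h5 : U.testBit i = true
    · rw [if_pos h5]
      split_ifs <;> ring
    · rw [if_neg h5, ext_apply_of_not ℚ h5]
      ring
  · rw [h1, Int.natCast_mod, Nat.cast_sum]
    refine Int.ModEq.sum fun i _ => ?_
    rw [Nat.cast_mul]
    exact Int.ModEq.symm (Int.modEq_iff_dvd.2 ⟨(fld 18 x i : ℤ) + fld 18 y' i - 131072, by push_cast; ring⟩)

/-- different digits give different inner products -/
theorem dot_ne {x y x' y' : ℕ} {f g f' g' : V} (hx : RegV x f) (hy : RegV y g) (hx' : RegV x' f') (hy' : RegV y' g')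
    (h : dt x (rv y) ≠ dt x' (rv y')) : dotW ℚ U wt f g ≠ dotW ℚ U wt f' g' := by
  obtain ⟨z, h1, h2⟩ := dt_sound hx hy
  obtain ⟨z', h3, h4⟩ := dt_sound hx' hy'
  intro h5
  rw [h1, h3, Int.cast_inj] at h5
  rw [h5, ← h4] at h2
  exact h (by exact_mod_cast h2)

end Cfsg.Agent.BX.No33
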