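import Cfsg.Agent.BX.No33.KD
set_option linter.all false

/-!
# The blocks with their exceptions, diagonal case (helper5; generated)
-/

set_option autoImplicit false
set_option maxRecDepth 100000

namespace Cfsg.Agent.BX.No33.Bk

def LD0 : List ((Fin 2 × FW) × List ℕ) :=
  [((0,d0),[2]), ((0,d1),[]), ((0,d2),[]), ((0,d3),[]), ((0,d4),[]), ((0,d5),[]), ((0,d6),[]), ((0,d7),[]),
   ((0,d8),[]), ((0,d9),[])]

def LD1 : List ((Fin 2 × FW) × List ℕ) :=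
  [((0,d10),[]), ((0,d11),[]), ((0,d12),[]), ((0,d13),[]), ((0,d14),[]), ((0,d15),[]), ((0,d16),[]), ((0,d17),[]),
   ((0,d18),[]), ((0,d19),[])]

def LD2 : List ((Fin 2 × FW) × List ℕ) :=
  [((0,d20),[]), ((0,d21),[]), ((0,d22),[]), ((0,d23),[]), ((0,d24),[]), ((0,d25),[]), ((0,d26),[]), ((0,d27),[]),
   ((0,d28),[]), ((0,d29),[])]

def LD3 : List ((Fin 2 × FW) × List ℕ) :=
  [((0,d30),[]), ((0,d31),[]), ((0,d32),[]), ((0,d33),[]), ((0,d34),[]), ((0,d35),[]), ((0,d36),[]), ((0,d37),[]),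
   ((0,d38),[]), ((0,d39),[])]

def LD4 : List ((Fin 2 × FW) × List ℕ) :=
  [((0,d40),[]), ((0,d41),[]), ((0,d42),[]), ((0,d43),[]), ((0,d44),[]), ((0,d45),[]), ((0,d46),[]), ((0,d47),[]),
   ((0,d48),[]), ((0,d49),[])]

def LD5 : List ((Fin 2 × FW) × List ℕ) :=
  [((0,d50),[]), ((0,d51),[]), ((0,d52),[]), ((0,d53),[]), ((0,d54),[]), ((0,d55),[]), ((0,d56),[]), ((0,d57),[]),
   ((0,d58),[]), ((0,d59),[])]

def LD6 : List ((Fin 2 × FW) × List ℕ) :=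
  [((0,d60),[3]), ((0,d61),[]), ((0,d62),[]), ((0,d63),[]), ((0,d64),[]), ((0,d65),[]), ((0,d66),[]), ((0,d67),[]),
   ((0,d68),[]), ((0,d69),[])]

def LD7 : List ((Fin 2 × FW) × List ℕ) :=
  [((0,d70),[]), ((0,d71),[]), ((0,d72),[]), ((0,d73),[]), ((0,d74),[]), ((0,d75),[]), ((0,d76),[]), ((0,d77),[]),
   ((0,d78),[]), ((0,d79),[])]

def LD8 : List ((Fin 2 × FW) × List ℕ) :=
  [((0,d80),[]), ((0,d81),[]), ((0,d82),[]), ((0,d83),[]), ((0,d84),[]), ((0,d85),[]), ((0,d86),[]), ((0,d87),[]),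
   ((0,d88),[]), ((0,d89),[])]

def LD9 : List ((Fin 2 × FW) × List ℕ) :=
  [((0,d90),[]), ((0,d91),[]), ((0,d92),[]), ((0,d93),[]), ((0,d94),[]), ((0,d95),[]), ((0,d96),[]), ((0,d97),[]),
   ((0,d98),[79]), ((0,d99),[])]

def LD10 : List ((Fin 2 × FW) × List ℕ) :=
  [((0,d100),[]), ((0,d101),[]), ((0,d102),[]), ((0,d103),[]), ((0,d104),[]), ((0,d105),[]), ((0,d106),[]),
   ((0,d107),[]), ((0,d108),[]), ((0,d109),[])]

def LD11 : List ((Fin 2 × FW) × List ℕ) :=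
  [((0,d110),[]), ((0,d111),[]), ((0,d112),[]), ((0,d113),[]), ((0,d114),[]), ((0,d115),[]), ((0,d116),[]),
   ((0,d117),[]), ((0,d118),[]), ((0,d119),[])]

def LD12 : List ((Fin 2 × FW) × List ℕ) :=
  [((0,d120),[]), ((0,d121),[]), ((0,d122),[]), ((0,d123),[]), ((0,d124),[]), ((0,d125),[]), ((0,d126),[]),
   ((0,d127),[]), ((0,d128),[]), ((0,d129),[])]

def LD13 : List ((Fin 2 × FW) × List ℕ) :=
  [((0,d130),[]), ((0,d131),[]), ((0,d132),[]), ((0,d133),[]), ((0,d134),[]), ((0,d135),[]), ((0,d136),[]),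
   ((0,d137),[]), ((0,d138),[]), ((0,d139),[])]

def LD14 : List ((Fin 2 × FW) × List ℕ) :=
  [((0,d140),[]), ((0,d141),[]), ((0,d142),[]), ((0,d143),[]), ((0,d144),[]), ((0,d145),[]), ((0,d146),[]),
   ((0,d147),[]), ((0,d148),[]), ((0,d149),[])]

def LD15 : List ((Fin 2 × FW) × List ℕ) :=
  [((0,d150),[]), ((0,d151),[]), ((0,d152),[]), ((0,d153),[]), ((0,d154),[]), ((0,d155),[]), ((0,d156),[]),
   ((0,d157),[]), ((0,d158),[]), ((0,d159),[])]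

def LD16 : List ((Fin 2 × FW) × List ℕ) :=
  [((0,d160),[]), ((0,d161),[]), ((0,d162),[]), ((0,d163),[]), ((0,d164),[]), ((0,d165),[]), ((0,d166),[]),
   ((0,d167),[]), ((0,d168),[]), ((0,d169),[])]

def LD17 : List ((Fin 2 × FW) × List ℕ) :=
  [((0,d170),[]), ((0,d171),[]), ((0,d172),[]), ((0,d173),[]), ((0,d174),[]), ((0,d175),[]), ((0,d176),[0]),
   ((0,d177),[]), ((0,d178),[]), ((0,d179),[])]

def LD18 : List ((Fin 2 × FW) × List ℕ) :=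
  [((0,d180),[]), ((0,d181),[]), ((0,d182),[]), ((0,d183),[]), ((0,d184),[]), ((0,d185),[]), ((0,d186),[]),
   ((0,d187),[]), ((0,d188),[]), ((0,d189),[])]

def LD19 : List ((Fin 2 × FW) × List ℕ) :=
  [((0,d190),[]), ((0,d191),[]), ((0,d192),[]), ((0,d193),[]), ((0,d194),[]), ((0,d195),[]), ((0,d196),[]),
   ((0,d197),[]), ((0,d198),[]), ((0,d199),[])]

def LD20 : List ((Fin 2 × FW) × List ℕ) :=
  [((0,d200),[]), ((0,d201),[]), ((0,d202),[]), ((0,d203),[]), ((0,d204),[]), ((0,d205),[]), ((0,d206),[]),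
   ((0,d207),[]), ((0,d208),[]), ((0,d209),[])]

def LD21 : List ((Fin 2 × FW) × List ℕ) :=
  [((0,d210),[]), ((0,d211),[]), ((0,d212),[]), ((0,d213),[]), ((0,d214),[]), ((0,d215),[]), ((0,d216),[]),
   ((0,d217),[]), ((0,d218),[]), ((0,d219),[])]

def LD22 : List ((Fin 2 × FW) × List ℕ) :=
  [((0,d220),[]), ((0,d221),[]), ((0,d222),[]), ((0,d223),[]), ((0,d224),[]), ((0,d225),[]), ((0,d226),[]),
   ((0,d227),[]), ((0,d228),[]), ((0,d229),[])]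

def LD23 : List ((Fin 2 × FW) × List ℕ) :=
  [((0,d230),[]), ((0,d231),[]), ((0,d232),[]), ((0,d233),[]), ((0,d234),[]), ((0,d235),[]), ((0,d236),[]),
   ((0,d237),[]), ((0,d238),[]), ((0,d239),[])]

def LD24 : List ((Fin 2 × FW) × List ℕ) :=
  [((0,d240),[]), ((0,d241),[]), ((0,d242),[]), ((0,d243),[]), ((0,d244),[]), ((0,d245),[]), ((0,d246),[]),
   ((0,d247),[]), ((0,d248),[]), ((0,d249),[])]

def LD25 : List ((Fin 2 × FW) × List ℕ) :=
  [((0,d250),[]), ((0,d251),[]), ((0,d252),[]), ((0,d253),[]), ((0,d254),[]), ((0,d255),[]), ((0,d256),[]),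
   ((0,d257),[]), ((0,d258),[]), ((0,d259),[])]

def LD26 : List ((Fin 2 × FW) × List ℕ) :=
  [((0,d260),[]), ((0,d261),[]), ((0,d262),[]), ((0,d263),[]), ((0,d264),[]), ((0,d265),[]), ((0,d266),[]),
   ((0,d267),[]), ((0,d268),[]), ((0,d269),[])]

def LD27 : List ((Fin 2 × FW) × List ℕ) :=
  [((0,d270),[]), ((0,d271),[]), ((0,d272),[]), ((0,d273),[]), ((0,d274),[]), ((0,d275),[]), ((0,d276),[]),
   ((0,d277),[]), ((0,d278),[]), ((0,d279),[])]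

def LD28 : List ((Fin 2 × FW) × List ℕ) :=
  [((0,d280),[]), ((0,d281),[]), ((0,d282),[]), ((0,d283),[]), ((0,d284),[]), ((0,d285),[]), ((0,d286),[]),
   ((0,d287),[]), ((0,d288),[]), ((0,d289),[])]

def LD29 : List ((Fin 2 × FW) × List ℕ) :=
  [((0,d290),[]), ((0,d291),[]), ((0,d292),[]), ((0,d293),[]), ((0,d294),[]), ((0,d295),[]), ((0,d296),[]),
   ((0,d297),[]), ((0,d298),[]), ((0,d299),[])]

def LD30 : List ((Fin 2 × FW) × List ℕ) :=
  [((0,d300),[]), ((0,d301),[]), ((0,d302),[]), ((0,d303),[]), ((0,d304),[]), ((0,d305),[]), ((0,d306),[]),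
   ((0,d307),[]), ((0,d308),[]), ((0,d309),[])]

def LD31 : List ((Fin 2 × FW) × List ℕ) :=
  [((0,d310),[]), ((0,d311),[]), ((0,d312),[]), ((0,d313),[]), ((0,d314),[]), ((0,d315),[]), ((0,d316),[]),
   ((0,d317),[]), ((0,d318),[]), ((0,d319),[])]

def LD32 : List ((Fin 2 × FW) × List ℕ) :=
  [((0,d320),[]), ((0,d321),[]), ((0,d322),[]), ((0,d323),[]), ((0,d324),[]), ((0,d325),[]), ((0,d326),[]),
   ((0,d327),[]), ((0,d328),[]), ((0,d329),[])]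

def LD33 : List ((Fin 2 × FW) × List ℕ) :=
  [((0,d330),[]), ((0,d331),[]), ((0,d332),[]), ((0,d333),[]), ((0,d334),[]), ((0,d335),[]), ((0,d336),[]),
   ((0,d337),[]), ((0,d338),[]), ((0,d339),[])]

def LD34 : List ((Fin 2 × FW) × List ℕ) :=
  [((0,d340),[]), ((0,d341),[]), ((0,d342),[]), ((0,d343),[]), ((0,d344),[]), ((0,d345),[]), ((0,d346),[]),
   ((0,d347),[]), ((0,d348),[]), ((0,d349),[])]

def LD35 : List ((Fin 2 × FW) × List ℕ) :=
  [((0,d350),[]), ((0,d351),[]), ((0,d352),[]), ((0,d353),[]), ((0,d354),[]), ((0,d355),[]), ((0,d356),[]),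
   ((0,d357),[]), ((0,d358),[]), ((0,d359),[])]

def LD36 : List ((Fin 2 × FW) × List ℕ) :=
  [((0,d360),[]), ((0,d361),[]), ((0,d362),[]), ((0,d363),[]), ((0,d364),[]), ((0,d365),[]), ((0,d366),[]),
   ((0,d367),[]), ((0,d368),[]), ((0,d369),[])]

def LD37 : List ((Fin 2 × FW) × List ℕ) :=
  [((0,d370),[]), ((0,d371),[]), ((0,d372),[]), ((0,d373),[]), ((0,d374),[]), ((0,d375),[]), ((0,d376),[]),
   ((0,d377),[]), ((0,d378),[]), ((0,d379),[])]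

def LD38 : List ((Fin 2 × FW) × List ℕ) :=
  [((0,d380),[]), ((0,d381),[]), ((0,d382),[]), ((0,d383),[]), ((0,d384),[]), ((0,d385),[]), ((0,d386),[]),
   ((0,d387),[]), ((0,d388),[]), ((0,d389),[])]

def LD39 : List ((Fin 2 × FW) × List ℕ) :=
  [((0,d390),[]), ((0,d391),[]), ((0,d392),[]), ((0,d393),[]), ((0,d394),[]), ((0,d395),[]), ((0,d396),[]),
   ((0,d397),[]), ((0,d398),[]), ((0,d399),[])]

def LD40 : List ((Fin 2 × FW) × List ℕ) :=
  [((0,d400),[]), ((0,d401),[]), ((0,d402),[]), ((0,d403),[]), ((0,d404),[]), ((0,d405),[]), ((0,d406),[]),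
   ((0,d407),[]), ((0,d408),[]), ((0,d409),[])]

def LD41 : List ((Fin 2 × FW) × List ℕ) :=
  [((0,d410),[]), ((0,d411),[]), ((0,d412),[]), ((0,d413),[]), ((0,d414),[]), ((0,d415),[]), ((0,d416),[]),
   ((0,d417),[]), ((0,d418),[]), ((0,d419),[])]

def LD42 : List ((Fin 2 × FW) × List ℕ) :=
  [((0,d420),[]), ((0,d421),[]), ((0,d422),[]), ((0,d423),[]), ((0,d424),[]), ((0,d425),[]), ((0,d426),[]),
   ((0,d427),[]), ((0,d428),[]), ((0,d429),[])]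

def LD43 : List ((Fin 2 × FW) × List ℕ) :=
  [((0,d430),[]), ((0,d431),[]), ((0,d432),[]), ((0,d433),[]), ((0,d434),[]), ((0,d435),[]), ((0,d436),[]),
   ((0,d437),[]), ((0,d438),[]), ((0,d439),[])]

def LD44 : List ((Fin 2 × FW) × List ℕ) :=
  [((0,d440),[]), ((0,d441),[]), ((0,d442),[]), ((0,d443),[]), ((0,d444),[]), ((0,d445),[]), ((0,d446),[]),
   ((0,d447),[]), ((0,d448),[]), ((0,d449),[])]

def LD45 : List ((Fin 2 × FW) × List ℕ) :=
  [((0,d450),[]), ((0,d451),[]), ((0,d452),[]), ((0,d453),[]), ((0,d454),[]), ((0,d455),[]), ((0,d456),[]),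
   ((0,d457),[]), ((0,d458),[]), ((0,d459),[])]

def LD46 : List ((Fin 2 × FW) × List ℕ) :=
  [((0,d460),[]), ((0,d461),[]), ((0,d462),[]), ((0,d463),[]), ((0,d464),[]), ((0,d465),[]), ((0,d466),[]),
   ((0,d467),[]), ((0,d468),[]), ((0,d469),[])]

def LD47 : List ((Fin 2 × FW) × List ℕ) :=
  [((0,d470),[]), ((0,d471),[]), ((0,d472),[]), ((0,d473),[]), ((0,d474),[]), ((0,d475),[]), ((0,d476),[]),
   ((0,d477),[]), ((0,d478),[]), ((0,d479),[])]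

def LD48 : List ((Fin 2 × FW) × List ℕ) :=
  [((0,d480),[]), ((0,d481),[]), ((0,d482),[]), ((0,d483),[]), ((0,d484),[]), ((0,d485),[]), ((0,d486),[]),
   ((0,d487),[]), ((0,d488),[]), ((0,d489),[])]

def LD49 : List ((Fin 2 × FW) × List ℕ) :=
  [((0,d490),[]), ((0,d491),[]), ((0,d492),[]), ((0,d493),[]), ((0,d494),[]), ((0,d495),[]), ((0,d496),[]),
   ((0,d497),[]), ((0,d498),[]), ((0,d499),[])]

def LD50 : List ((Fin 2 × FW) × List ℕ) :=
  [((0,d500),[]), ((0,d501),[]), ((0,d502),[]), ((0,d503),[]), ((0,d504),[]), ((0,d505),[]), ((0,d506),[]),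
   ((0,d507),[]), ((0,d508),[]), ((0,d509),[])]

def LD51 : List ((Fin 2 × FW) × List ℕ) :=
  [((0,d510),[]), ((0,d511),[]), ((0,d512),[]), ((0,d513),[]), ((0,d514),[]), ((0,d515),[]), ((0,d516),[]),
   ((0,d517),[]), ((0,d518),[]), ((0,d519),[])]

def LD52 : List ((Fin 2 × FW) × List ℕ) :=
  [((0,d520),[]), ((0,d521),[]), ((0,d522),[]), ((0,d523),[]), ((0,d524),[]), ((0,d525),[]), ((0,d526),[]),
   ((0,d527),[]), ((0,d528),[]), ((0,d529),[])]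

def LD53 : List ((Fin 2 × FW) × List ℕ) :=
  [((0,d530),[]), ((0,d531),[]), ((0,d532),[]), ((0,d533),[]), ((0,d534),[]), ((0,d535),[]), ((0,d536),[]),
   ((0,d537),[]), ((0,d538),[]), ((0,d539),[])]

def LD54 : List ((Fin 2 × FW) × List ℕ) :=
  [((0,d540),[]), ((0,d541),[]), ((0,d542),[]), ((0,d543),[]), ((0,d544),[]), ((0,d545),[]), ((0,d546),[]),
   ((0,d547),[]), ((0,d548),[]), ((0,d549),[])]

def LD55 : List ((Fin 2 × FW) × List ℕ) :=
  [((0,d550),[]), ((0,d551),[]), ((0,d552),[]), ((0,d553),[]), ((0,d554),[]), ((0,d555),[]), ((0,d556),[]),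
   ((0,d557),[]), ((0,d558),[]), ((0,d559),[])]

def LD56 : List ((Fin 2 × FW) × List ℕ) :=
  [((0,d560),[]), ((0,d561),[]), ((0,d562),[]), ((0,d563),[]), ((0,d564),[]), ((0,d565),[]), ((0,d566),[]),
   ((0,d567),[]), ((0,d568),[]), ((0,d569),[])]

def LD57 : List ((Fin 2 × FW) × List ℕ) :=
  [((0,d570),[]), ((0,d571),[]), ((0,d572),[]), ((0,d573),[]), ((0,d574),[]), ((0,d575),[]), ((0,d576),[]),
   ((0,d577),[]), ((0,d578),[]), ((0,d579),[])]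

def LD58 : List ((Fin 2 × FW) × List ℕ) :=
  [((0,d580),[]), ((0,d581),[]), ((0,d582),[]), ((0,d583),[]), ((0,d584),[]), ((0,d585),[]), ((0,d586),[24]),
   ((0,d587),[]), ((0,d588),[]), ((0,d589),[])]

def LD59 : List ((Fin 2 × FW) × List ℕ) :=
  [((0,d590),[]), ((0,d591),[44]), ((0,d592),[]), ((0,d593),[]), ((0,d594),[]), ((0,d595),[]), ((0,d596),[]),
   ((0,d597),[]), ((0,d598),[]), ((0,d599),[])]

def LD60 : List ((Fin 2 × FW) × List ℕ) :=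
  [((0,d600),[]), ((0,d601),[]), ((0,d602),[]), ((0,d603),[]), ((0,d604),[]), ((0,d605),[]), ((0,d606),[]),
   ((0,d607),[]), ((0,d608),[]), ((0,d609),[])]

def LD61 : List ((Fin 2 × FW) × List ℕ) :=
  [((0,d610),[]), ((0,d611),[]), ((0,d612),[]), ((0,d613),[]), ((0,d614),[]), ((0,d615),[]), ((0,d616),[]),
   ((0,d617),[]), ((0,d618),[]), ((0,d619),[])]

def LD62 : List ((Fin 2 × FW) × List ℕ) :=
  [((0,d620),[]), ((0,d621),[]), ((0,d622),[]), ((0,d623),[]), ((0,d624),[]), ((0,d625),[]), ((0,d626),[]),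
   ((0,d627),[]), ((0,d628),[]), ((0,d629),[])]

def LD63 : List ((Fin 2 × FW) × List ℕ) :=
  [((0,d630),[]), ((0,d631),[]), ((0,d632),[]), ((0,d633),[]), ((0,d634),[]), ((0,d635),[]), ((0,d636),[]),
   ((0,d637),[]), ((0,d638),[]), ((0,d639),[])]

def LD64 : List ((Fin 2 × FW) × List ℕ) :=
  [((0,d640),[]), ((0,d641),[]), ((0,d642),[]), ((0,d643),[]), ((0,d644),[]), ((0,d645),[]), ((0,d646),[]),
   ((0,d647),[]), ((0,d648),[]), ((0,d649),[])]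

def LD65 : List ((Fin 2 × FW) × List ℕ) :=
  [((0,d650),[]), ((0,d651),[]), ((0,d652),[]), ((0,d653),[]), ((0,d654),[]), ((0,d655),[]), ((0,d656),[]),
   ((0,d657),[]), ((0,d658),[]), ((0,d659),[])]

def LD66 : List ((Fin 2 × FW) × List ℕ) :=
  [((0,d660),[]), ((0,d661),[]), ((0,d662),[]), ((0,d663),[]), ((0,d664),[]), ((0,d665),[]), ((0,d666),[]),
   ((0,d667),[]), ((0,d668),[]), ((0,d669),[])]

def LD67 : List ((Fin 2 × FW) × List ℕ) :=
  [((0,d670),[]), ((0,d671),[]), ((0,d672),[]), ((0,d673),[]), ((0,d674),[]), ((0,d675),[]), ((0,d676),[]),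
   ((0,d677),[]), ((0,d678),[]), ((0,d679),[])]

def LD68 : List ((Fin 2 × FW) × List ℕ) :=
  [((0,d680),[]), ((0,d681),[]), ((0,d682),[]), ((0,d683),[]), ((0,d684),[]), ((0,d685),[]), ((0,d686),[]),
   ((0,d687),[]), ((0,d688),[]), ((0,d689),[])]

def LD69 : List ((Fin 2 × FW) × List ℕ) :=
  [((0,d690),[]), ((0,d691),[]), ((0,d692),[]), ((0,d693),[]), ((0,d694),[]), ((0,d695),[]), ((0,d696),[]),
   ((0,d697),[]), ((0,d698),[]), ((0,d699),[])]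

def LD70 : List ((Fin 2 × FW) × List ℕ) :=
  [((0,d700),[]), ((0,d701),[]), ((0,d702),[]), ((0,d703),[]), ((0,d704),[28]), ((0,d705),[]), ((0,d706),[]),
   ((0,d707),[]), ((0,d708),[]), ((0,d709),[])]

def LD71 : List ((Fin 2 × FW) × List ℕ) :=
  [((0,d710),[]), ((0,d711),[]), ((0,d712),[]), ((0,d713),[]), ((0,d714),[]), ((0,d715),[]), ((0,d716),[]),
   ((0,d717),[]), ((0,d718),[]), ((0,d719),[])]

def LD72 : List ((Fin 2 × FW) × List ℕ) :=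
  [((0,d720),[]), ((0,d721),[]), ((0,d722),[]), ((0,d723),[]), ((0,d724),[]), ((0,d725),[]), ((0,d726),[]),
   ((0,d727),[]), ((0,d728),[]), ((0,d729),[])]

def LD73 : List ((Fin 2 × FW) × List ℕ) :=
  [((0,d730),[]), ((0,d731),[]), ((0,d732),[]), ((0,d733),[]), ((0,d734),[]), ((0,d735),[]), ((0,d736),[]),
   ((0,d737),[]), ((0,d738),[6,46,68]), ((0,d739),[])]

def LD74 : List ((Fin 2 × FW) × List ℕ) :=
  [((0,d740),[]), ((0,d741),[]), ((0,d742),[]), ((0,d743),[]), ((0,d744),[]), ((0,d745),[]), ((0,d746),[]),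
   ((0,d747),[]), ((0,d748),[]), ((0,d749),[])]

def LD75 : List ((Fin 2 × FW) × List ℕ) :=
  [((0,d750),[]), ((0,d751),[]), ((0,d752),[]), ((0,d753),[]), ((0,d754),[]), ((0,d755),[]), ((0,d756),[]),
   ((0,d757),[]), ((0,d758),[]), ((0,d759),[])]

def LD76 : List ((Fin 2 × FW) × List ℕ) :=
  [((0,d760),[]), ((0,d761),[]), ((0,d762),[]), ((0,d763),[]), ((0,d764),[]), ((0,d765),[]), ((0,d766),[]),
   ((0,d767),[]), ((0,d768),[]), ((0,d769),[])]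

def LD77 : List ((Fin 2 × FW) × List ℕ) :=
  [((0,d770),[]), ((0,d771),[]), ((0,d772),[]), ((0,d773),[]), ((0,d774),[]), ((0,d775),[]), ((0,d776),[]),
   ((0,d777),[]), ((0,d778),[]), ((0,d779),[])]

def LD78 : List ((Fin 2 × FW) × List ℕ) :=
  [((0,d780),[]), ((0,d781),[]), ((0,d782),[]), ((0,d783),[]), ((1,d784),[]), ((1,d785),[]), ((1,d786),[]),
   ((1,d787),[]), ((1,d788),[]), ((1,d789),[])]

def LD79 : List ((Fin 2 × FW) × List ℕ) :=
  [((1,d790),[]), ((1,d791),[]), ((1,d792),[]), ((1,d793),[]), ((1,d794),[]), ((1,d795),[]), ((1,d796),[]),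
   ((1,d797),[]), ((1,d798),[]), ((1,d799),[])]

def LD80 : List ((Fin 2 × FW) × List ℕ) :=
  [((1,d800),[]), ((1,d801),[]), ((1,d802),[]), ((1,d803),[]), ((1,d804),[]), ((1,d805),[]), ((1,d806),[]),
   ((1,d807),[]), ((1,d808),[]), ((1,d809),[])]

def LD81 : List ((Fin 2 × FW) × List ℕ) :=
  [((1,d810),[]), ((1,d811),[]), ((1,d812),[]), ((1,d813),[]), ((1,d814),[]), ((1,d815),[]), ((1,d816),[]),
   ((1,d817),[]), ((1,d818),[]), ((1,d819),[])]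

def LD82 : List ((Fin 2 × FW) × List ℕ) :=
  [((1,d820),[]), ((1,d821),[]), ((1,d822),[]), ((1,d823),[]), ((1,d824),[]), ((1,d825),[]), ((1,d826),[]),
   ((1,d827),[]), ((1,d828),[]), ((1,d829),[])]

def LD83 : List ((Fin 2 × FW) × List ℕ) :=
  [((1,d830),[]), ((1,d831),[]), ((1,d832),[]), ((1,d833),[]), ((1,d834),[]), ((1,d835),[]), ((1,d836),[]),
   ((1,d837),[]), ((1,d838),[]), ((1,d839),[])]

def LD84 : List ((Fin 2 × FW) × List ℕ) :=
  [((1,d840),[]), ((1,d841),[]), ((1,d842),[]), ((1,d843),[]), ((1,d844),[]), ((1,d845),[]), ((1,d846),[]),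
   ((1,d847),[]), ((1,d848),[]), ((1,d849),[])]

def LD85 : List ((Fin 2 × FW) × List ℕ) :=
  [((1,d850),[]), ((1,d851),[]), ((1,d852),[]), ((1,d853),[]), ((1,d854),[]), ((1,d855),[]), ((1,d856),[]),
   ((1,d857),[]), ((1,d858),[]), ((1,d859),[])]

def LD86 : List ((Fin 2 × FW) × List ℕ) :=
  [((1,d860),[]), ((1,d861),[]), ((1,d862),[]), ((1,d863),[]), ((1,d864),[]), ((1,d865),[]), ((1,d866),[]),
   ((1,d867),[]), ((1,d868),[]), ((1,d869),[])]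

def LD87 : List ((Fin 2 × FW) × List ℕ) :=
  [((1,d870),[]), ((1,d871),[]), ((1,d872),[]), ((1,d873),[]), ((1,d874),[]), ((1,d875),[]), ((1,d876),[]),
   ((1,d877),[]), ((1,d878),[]), ((1,d879),[])]

def LD88 : List ((Fin 2 × FW) × List ℕ) :=
  [((1,d880),[]), ((1,d881),[]), ((1,d882),[]), ((1,d883),[]), ((1,d884),[]), ((1,d885),[]), ((1,d886),[]),
   ((1,d887),[]), ((1,d888),[]), ((1,d889),[])]

def LD89 : List ((Fin 2 × FW) × List ℕ) :=
  [((1,d890),[]), ((1,d891),[]), ((1,d892),[]), ((1,d893),[]), ((1,d894),[]), ((1,d895),[]), ((1,d896),[]),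
   ((1,d897),[]), ((1,d898),[]), ((1,d899),[])]

def LD90 : List ((Fin 2 × FW) × List ℕ) :=
  [((1,d900),[]), ((1,d901),[]), ((1,d902),[]), ((1,d903),[]), ((1,d904),[]), ((1,d905),[]), ((1,d906),[]),
   ((1,d907),[]), ((1,d908),[]), ((1,d909),[])]

def LD91 : List ((Fin 2 × FW) × List ℕ) :=
  [((1,d910),[]), ((1,d911),[]), ((1,d912),[]), ((1,d913),[]), ((1,d914),[]), ((1,d915),[]), ((1,d916),[]),
   ((1,d917),[]), ((1,d918),[]), ((1,d919),[])]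

/-- the blocks -/
def LD : List ((Fin 2 × FW) × List ℕ) :=
  LD0 ++ (LD1 ++ (LD2 ++ (LD3 ++ (LD4 ++ (LD5 ++ (LD6 ++ (LD7 ++ (LD8 ++ (LD9 ++ (LD10 ++ (LD11 ++ (LD12 ++ (LD13 ++
   (LD14 ++ (LD15 ++ (LD16 ++ (LD17 ++ (LD18 ++ (LD19 ++ (LD20 ++ (LD21 ++ (LD22 ++ (LD23 ++ (LD24 ++ (LD25 ++ (LD26
   ++ (LD27 ++ (LD28 ++ (LD29 ++ (LD30 ++ (LD31 ++ (LD32 ++ (LD33 ++ (LD34 ++ (LD35 ++ (LD36 ++ (LD37 ++ (LD38 ++
   (LD39 ++ (LD40 ++ (LD41 ++ (LD42 ++ (LD43 ++ (LD44 ++ (LD45 ++ (LD46 ++ (LD47 ++ (LD48 ++ (LD49 ++ (LD50 ++ (LD51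
   ++ (LD52 ++ (LD53 ++ (LD54 ++ (LD55 ++ (LD56 ++ (LD57 ++ (LD58 ++ (LD59 ++ (LD60 ++ (LD61 ++ (LD62 ++ (LD63 ++
   (LD64 ++ (LD65 ++ (LD66 ++ (LD67 ++ (LD68 ++ (LD69 ++ (LD70 ++ (LD71 ++ (LD72 ++ (LD73 ++ (LD74 ++ (LD75 ++ (LD76
   ++ (LD77 ++ (LD78 ++ (LD79 ++ (LD80 ++ (LD81 ++ (LD82 ++ (LD83 ++ (LD84 ++ (LD85 ++ (LD86 ++ (LD87 ++ (LD88 ++
   (LD89 ++ (LD90 ++ (LD91)))))))))))))))))))))))))))))))))))))))))))))))))))))))))))))))))))))))))))))))))))))))))))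

theorem LD_fst : LD.map Prod.fst = KD := by decide +kernel

end Cfsg.Agent.BX.No33.Bk
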