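import Cfsg.Agent.BX.No33.KP
set_option linter.all false

/-!
# The blocks with their exceptions, pure case (helper5; generated)
-/

set_option autoImplicit false
set_option maxRecDepth 100000

namespace Cfsg.Agent.BX.No33.Bk

def LP0 : List ((Fin 2 × FW) × List ℕ) :=
  [((0,p0),[]), ((0,p1),[]), ((0,p2),[]), ((0,p3),[]), ((0,p4),[]), ((0,p5),[]), ((0,p6),[]), ((0,p7),[]),
   ((0,p8),[]), ((0,p9),[])]

def LP1 : List ((Fin 2 × FW) × List ℕ) :=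
  [((0,p10),[]), ((0,p11),[]), ((0,p12),[]), ((0,p13),[]), ((0,p14),[]), ((0,p15),[]), ((0,p16),[]), ((0,p17),[]),
   ((0,p18),[]), ((0,p19),[])]

def LP2 : List ((Fin 2 × FW) × List ℕ) :=
  [((0,p20),[]), ((0,p21),[]), ((0,p22),[]), ((0,p23),[]), ((0,p24),[]), ((0,p25),[]), ((0,p26),[]), ((0,p27),[]),
   ((0,p28),[]), ((0,p29),[])]

def LP3 : List ((Fin 2 × FW) × List ℕ) :=
  [((0,p30),[]), ((0,p31),[]), ((0,p32),[]), ((0,p33),[]), ((0,p34),[]), ((0,p35),[]), ((0,p36),[]), ((0,p37),[]),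
   ((0,p38),[]), ((0,p39),[])]

def LP4 : List ((Fin 2 × FW) × List ℕ) :=
  [((0,p40),[]), ((0,p41),[]), ((0,p42),[]), ((0,p43),[]), ((0,p44),[]), ((0,p45),[]), ((0,p46),[]), ((0,p47),[]),
   ((0,p48),[]), ((0,p49),[])]

def LP5 : List ((Fin 2 × FW) × List ℕ) :=
  [((0,p50),[]), ((0,p51),[]), ((0,p52),[]), ((0,p53),[]), ((0,p54),[]), ((0,p55),[]), ((0,p56),[]), ((0,p57),[]),
   ((0,p58),[]), ((0,p59),[])]

def LP6 : List ((Fin 2 × FW) × List ℕ) :=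
  [((0,p60),[]), ((0,p61),[]), ((0,p62),[]), ((0,p63),[]), ((0,p64),[]), ((0,p65),[]), ((0,p66),[]), ((0,p67),[]),
   ((0,p68),[]), ((0,p69),[])]

def LP7 : List ((Fin 2 × FW) × List ℕ) :=
  [((0,p70),[]), ((0,p71),[]), ((0,p72),[]), ((0,p73),[]), ((0,p74),[]), ((0,p75),[]), ((0,p76),[]), ((0,p77),[]),
   ((0,p78),[]), ((0,p79),[])]

def LP8 : List ((Fin 2 × FW) × List ℕ) :=
  [((0,p80),[]), ((0,p81),[]), ((0,p82),[]), ((0,p83),[]), ((0,p84),[]), ((0,p85),[]), ((0,p86),[]), ((0,p87),[]),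
   ((0,p88),[]), ((0,p89),[])]

def LP9 : List ((Fin 2 × FW) × List ℕ) :=
  [((0,p90),[]), ((0,p91),[]), ((0,p92),[]), ((0,p93),[]), ((0,p94),[]), ((0,p95),[]), ((0,p96),[]), ((0,p97),[]),
   ((0,p98),[]), ((0,p99),[])]

def LP10 : List ((Fin 2 × FW) × List ℕ) :=
  [((0,p100),[]), ((0,p101),[]), ((0,p102),[]), ((0,p103),[]), ((0,p104),[]), ((0,p105),[55,57,62]), ((0,p106),[]),
   ((0,p107),[]), ((0,p108),[]), ((0,p109),[])]

def LP11 : List ((Fin 2 × FW) × List ℕ) :=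
  [((0,p110),[]), ((0,p111),[]), ((0,p112),[]), ((0,p113),[]), ((0,p114),[]), ((0,p115),[]), ((0,p116),[]),
   ((0,p117),[]), ((0,p118),[]), ((0,p119),[])]

def LP12 : List ((Fin 2 × FW) × List ℕ) :=
  [((0,p120),[]), ((0,p121),[]), ((0,p122),[]), ((0,p123),[]), ((0,p124),[]), ((0,p125),[]), ((0,p126),[]),
   ((0,p127),[]), ((0,p128),[]), ((0,p129),[])]

def LP13 : List ((Fin 2 × FW) × List ℕ) :=
  [((0,p130),[]), ((0,p131),[]), ((0,p132),[]), ((0,p133),[9,35,76]), ((0,p134),[]), ((0,p135),[]), ((0,p136),[]),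
   ((0,p137),[]), ((0,p138),[]), ((0,p139),[])]

def LP14 : List ((Fin 2 × FW) × List ℕ) :=
  [((0,p140),[]), ((0,p141),[]), ((0,p142),[]), ((0,p143),[]), ((0,p144),[]), ((0,p145),[]), ((0,p146),[]),
   ((0,p147),[]), ((0,p148),[]), ((0,p149),[])]

def LP15 : List ((Fin 2 × FW) × List ℕ) :=
  [((0,p150),[]), ((0,p151),[]), ((0,p152),[]), ((0,p153),[]), ((0,p154),[]), ((0,p155),[]), ((0,p156),[]),
   ((0,p157),[]), ((0,p158),[]), ((0,p159),[])]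

def LP16 : List ((Fin 2 × FW) × List ℕ) :=
  [((0,p160),[]), ((0,p161),[]), ((0,p162),[]), ((0,p163),[]), ((0,p164),[]), ((0,p165),[]), ((0,p166),[]),
   ((0,p167),[]), ((0,p168),[]), ((0,p169),[])]

def LP17 : List ((Fin 2 × FW) × List ℕ) :=
  [((0,p170),[]), ((0,p171),[]), ((0,p172),[]), ((0,p173),[]), ((0,p174),[]), ((0,p175),[]), ((0,p176),[]),
   ((0,p177),[]), ((0,p178),[]), ((0,p179),[])]

def LP18 : List ((Fin 2 × FW) × List ℕ) :=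
  [((0,p180),[]), ((0,p181),[]), ((0,p182),[]), ((0,p183),[]), ((0,p184),[]), ((0,p185),[]), ((0,p186),[]),
   ((0,p187),[]), ((0,p188),[]), ((0,p189),[])]

def LP19 : List ((Fin 2 × FW) × List ℕ) :=
  [((0,p190),[]), ((0,p191),[]), ((0,p192),[35]), ((0,p193),[]), ((0,p194),[]), ((0,p195),[]), ((0,p196),[]),
   ((0,p197),[]), ((0,p198),[]), ((0,p199),[])]

def LP20 : List ((Fin 2 × FW) × List ℕ) :=
  [((0,p200),[]), ((0,p201),[]), ((0,p202),[]), ((0,p203),[]), ((0,p204),[]), ((0,p205),[]), ((0,p206),[]),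
   ((0,p207),[]), ((0,p208),[]), ((0,p209),[])]

def LP21 : List ((Fin 2 × FW) × List ℕ) :=
  [((0,p210),[]), ((0,p211),[]), ((0,p212),[]), ((0,p213),[]), ((0,p214),[]), ((0,p215),[51]), ((0,p216),[37]),
   ((0,p217),[]), ((0,p218),[]), ((0,p219),[])]

def LP22 : List ((Fin 2 × FW) × List ℕ) :=
  [((0,p220),[]), ((0,p221),[]), ((0,p222),[39]), ((0,p223),[]), ((0,p224),[]), ((0,p225),[]), ((0,p226),[]),
   ((0,p227),[]), ((0,p228),[]), ((0,p229),[])]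

def LP23 : List ((Fin 2 × FW) × List ℕ) :=
  [((0,p230),[]), ((0,p231),[]), ((0,p232),[]), ((0,p233),[]), ((0,p234),[]), ((0,p235),[]), ((0,p236),[]),
   ((0,p237),[]), ((0,p238),[]), ((0,p239),[14])]

def LP24 : List ((Fin 2 × FW) × List ℕ) :=
  [((0,p240),[]), ((0,p241),[]), ((0,p242),[]), ((0,p243),[]), ((0,p244),[]), ((0,p245),[]), ((0,p246),[]),
   ((0,p247),[]), ((0,p248),[]), ((0,p249),[])]

def LP25 : List ((Fin 2 × FW) × List ℕ) :=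
  [((0,p250),[]), ((0,p251),[]), ((0,p252),[25,43,61]), ((0,p253),[]), ((0,p254),[0,53,67]), ((0,p255),[6]),
   ((0,p256),[67]), ((0,p257),[]), ((0,p258),[]), ((0,p259),[])]

def LP26 : List ((Fin 2 × FW) × List ℕ) :=
  [((0,p260),[]), ((0,p261),[]), ((0,p262),[]), ((0,p263),[]), ((0,p264),[]), ((0,p265),[]), ((0,p266),[]),
   ((0,p267),[]), ((0,p268),[]), ((0,p269),[])]

def LP27 : List ((Fin 2 × FW) × List ℕ) :=
  [((0,p270),[]), ((0,p271),[19,52,76]), ((0,p272),[]), ((0,p273),[]), ((0,p274),[]), ((0,p275),[]), ((0,p276),[]),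
   ((0,p277),[]), ((0,p278),[]), ((0,p279),[])]

def LP28 : List ((Fin 2 × FW) × List ℕ) :=
  [((0,p280),[]), ((0,p281),[]), ((0,p282),[20,22,24]), ((0,p283),[]), ((0,p284),[]), ((0,p285),[]), ((0,p286),[]),
   ((0,p287),[]), ((0,p288),[]), ((0,p289),[])]

def LP29 : List ((Fin 2 × FW) × List ℕ) :=
  [((0,p290),[]), ((0,p291),[]), ((0,p292),[]), ((0,p293),[6,13,20]), ((0,p294),[10,12,17,32,38,68,74]),
   ((1,p295),[]), ((1,p296),[]), ((1,p297),[]), ((1,p298),[]), ((1,p299),[])]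

def LP30 : List ((Fin 2 × FW) × List ℕ) :=
  [((1,p300),[]), ((1,p301),[]), ((1,p302),[]), ((1,p303),[]), ((1,p304),[]), ((1,p305),[]), ((1,p306),[]),
   ((1,p307),[]), ((1,p308),[]), ((1,p309),[])]

def LP31 : List ((Fin 2 × FW) × List ℕ) :=
  [((1,p310),[]), ((1,p311),[]), ((1,p312),[]), ((1,p313),[]), ((1,p314),[]), ((1,p315),[]), ((1,p316),[]),
   ((1,p317),[]), ((1,p318),[]), ((1,p319),[])]

def LP32 : List ((Fin 2 × FW) × List ℕ) :=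
  [((1,p320),[]), ((1,p321),[]), ((1,p322),[]), ((1,p323),[]), ((1,p324),[]), ((1,p325),[]), ((1,p326),[]),
   ((1,p327),[]), ((1,p328),[]), ((1,p329),[])]

def LP33 : List ((Fin 2 × FW) × List ℕ) :=
  [((1,p330),[]), ((1,p331),[]), ((1,p332),[]), ((1,p333),[]), ((1,p334),[]), ((1,p335),[]), ((1,p336),[]),
   ((1,p337),[]), ((1,p338),[8,50,51,52,65,69,70]), ((1,p339),[])]

def LP34 : List ((Fin 2 × FW) × List ℕ) :=
  [((1,p340),[]), ((1,p341),[]), ((1,p342),[]), ((1,p343),[]), ((1,p344),[]), ((1,p345),[26,33,70]), ((1,p346),[]),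
   ((1,p347),[]), ((1,p348),[]), ((1,p349),[])]

def LP35 : List ((Fin 2 × FW) × List ℕ) :=
  [((1,p350),[]), ((1,p351),[]), ((1,p352),[]), ((1,p353),[]), ((1,p354),[]), ((1,p355),[]), ((1,p356),[75]),
   ((1,p357),[]), ((1,p358),[])]

/-- the blocks -/
def LP : List ((Fin 2 × FW) × List ℕ) :=
  LP0 ++ (LP1 ++ (LP2 ++ (LP3 ++ (LP4 ++ (LP5 ++ (LP6 ++ (LP7 ++ (LP8 ++ (LP9 ++ (LP10 ++ (LP11 ++ (LP12 ++ (LP13 ++
   (LP14 ++ (LP15 ++ (LP16 ++ (LP17 ++ (LP18 ++ (LP19 ++ (LP20 ++ (LP21 ++ (LP22 ++ (LP23 ++ (LP24 ++ (LP25 ++ (LP26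
   ++ (LP27 ++ (LP28 ++ (LP29 ++ (LP30 ++ (LP31 ++ (LP32 ++ (LP33 ++ (LP34 ++ (LP35)))))))))))))))))))))))))))))))))))

theorem LP_fst : LP.map Prod.fst = KP := by decide +kernel

end Cfsg.Agent.BX.No33.Bk
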