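import Cfsg.Agent.BX.No33.Glue
import Cfsg.Agent.BX.No33.BaseD
import Cfsg.Agent.BX.No33.Front
set_option linter.all false

/-!
# The exceptions of the tests, case D, part 0 (helper21)
-/

set_option autoImplicit false
set_option Elab.async false
set_option maxRecDepth 100000

namespace Cfsg.Agent.BX.No33.SvD0

open Cfsg.Agent.BabyM.Conc (Ltr)

/-- an exception -/
def r0 : SvD :=
  ⟨(0, [(0, 1), (9, 1), (15, 3), (17, 1), (12, 1), (0, 1), (15, 1), (17, 1), (16, 1), (15, 1), (0, 1), (15, 1), (0,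
    1), (15, 1), (0, 1), (15, 1), (0, 1), (1, 1), (0, 2), (1, 2)]), 2, [.z, .Z9, .Z8, .Z6, .Z5, .Z4, .Z3, .Z0, .X9,
    .X8, .X7, .X5, .X4, .X3, .X1, .y10, .y9, .y8, .y4, .y1, .hi, .p5, .hi, .p8, .hi, .p7, .hi, .p7, .hi, .p3, .hi,
    .p3, .xii, .p10, .xii, .y5, .p5, .hi, .p5, .tau, .y1, .xii, .p10, .xii, .p10, .y7, .xii, .y4, .tau, .p5, .xii,
    .y5, .p3, .hi, .xii, .p3, .y5, .tau, .xii, .p9, .xii, .p6, .y1, .y7, .xii, .y9, .tau, .xii, .y2, .p7, .xii],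
    [.z, .Z3, .Z0, .X10, .X9, .X8, .X4, .X3, .X2, .X1, .y10, .y9, .y8, .y6, .y2, .y1, .p, .hi, .p4, .hi, .p4, .hi,
    .p4, .hi, .p7, .hi, .p2, .hi, .xii, .p, .xii, .y1, .y10, .hi, .xii, .y5, .tau, .xii, .p, .xii, .y2, .hi, .xii,
    .y5, .y8, .tau, .y1, .xii, .y1, .hi, .xii, .p10, .xii, .y8, .tau, .X0, .p9, .xii, .y2, .hi, .xii, .y8, .tau,
    .xii, .p6, .xii, .p2, .xii, .y4, .y8, .taui, .xii, .y2, .hi, .p], .ord [0, 2, 0, 2] [.Z10, .Z7, .Z6, .Z2, .Z0,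
    .X10, .X8, .X7, .X4, .X1, .X0, .y10, .y3, .hi, .p, .hi, .p3, .hi, .p5, .hi, .p4, .hi, .p4, .hi, .p10, .xii, .p,
    .xii, .y2, .p, .xii, .y3, .tau, .y1, .xii, .p10, .xii, .y5, .p10, .xii, .y4, .y9, .taui, .X0, .p7, .xii, .p4,
    .xii, .y8, .p3, .y5, .hi, .p, .taui, .xii, .y2, .p5, .xii, .p2, .y10, .tau, .xii, .y2, .p4, .hi, .p9] 7⟩

theorem a0 : svA r0 = true := by decide +kernel
theorem b0 : svB' Base.wg Base.wc Base.we r0 = true := by decide +kernel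
theorem c0 : svC Front.wAd r0 = true := by decide +kernel

/-- an exception -/
def r1 : SvD :=
  ⟨(0, [(0, 1), (9, 1), (15, 1), (16, 1), (15, 2), (0, 1), (15, 1), (0, 1), (15, 2), (0, 1), (16, 1), (9, 1), (15,
    2), (17, 1), (0, 1), (15, 1), (17, 1), (15, 1)]), 3, [.z, .Z5, .Z2, .Z1, .X10, .X9, .X6, .X3, .X2, .y10, .y9,
    .y8, .y7, .y5, .y2, .p10, .hi, .p, .hi, .p7, .hi, .p, .hi, .p7, .hi, .p2, .hi, .xii, .p5, .hi, .p5, .taui, .xii,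
    .p, .xii, .y1, .hi, .xii, .y3, .tau, .xii, .y1, .p2, .xii, .y2, .hi, .xii, .y2, .p5, .taui, .xii, .y2, .p5,
    .xii, .p, .y3, .xii, .y5, .tau, .xii, .y2, .hi, .xii], [.z, .Z8, .Z2, .X7, .X6, .X5, .y8, .y7, .y6, .y4, .y2,
    .y1, .p8, .hi, .p4, .hi, .p6, .hi, .p6, .hi, .p10, .hi, .p9, .hi, .xii, .y2, .p2, .hi, .tau, .xii, .y1, .p,
    .xii, .y4, .p, .xii, .y5, .y10, .taui, .p5, .xii, .p, .xii, .y2, .p4, .hi, .p7, .taui, .xii, .p9, .xii, .y1,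
    .y2, .p9, .xii, .y7, .tau, .xii, .y6, .hi, .xii], .ord [0, 2, 3, 2] [.Z6, .Z5, .Z4, .X9, .X8, .X6, .X4, .y10,
    .y8, .y7, .y5, .y4, .y3, .y1, .p6, .hi, .p5, .hi, .p8, .hi, .p8, .xii, .p, .xii, .y2, .y10, .hi, .xii, .y5,
    .taui, .xii, .p, .xii, .y1, .hi, .xii, .y7, .taui, .xii, .p5, .xii, .p7, .y4, .xii, .p9, .y8, .taui, .xii, .p9,
    .xii, .p2, .hi, .p7, .tau, .xii, .p5, .xii, .y7, .y8] 5⟩

theorem a1 : svA r1 = true := by decide +kernel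
theorem b1 : svB' Base.wg Base.wc Base.we r1 = true := by decide +kernel
theorem c1 : svC Front.wAd r1 = true := by decide +kernel

/-- an exception -/
def r2 : SvD :=
  ⟨(0, [(1, 1), (16, 1), (15, 1), (0, 1), (15, 2), (0, 1), (15, 1), (16, 1), (12, 1), (0, 1), (15, 1), (17, 1), (15,
    3), (17, 1)]), 79, [.z, .Z10, .Z8, .Z5, .X8, .X7, .X6, .X5, .X2, .X1, .X0, .y8, .y7, .y6, .y5, .y4, .y3, .y2,
    .y1, .p8, .hi, .p3, .hi, .p7, .hi, .p5, .hi, .p8, .hi, .p7, .xii, .y2, .p, .xii, .y3, .tau, .y1, .xii, .p10,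
    .xii, .y4, .p10, .xii, .y4, .y8, .taui, .xii, .y6, .p9, .xii, .p, .xii, .y10, .tau, .xii, .p6, .xii, .y2, .p,
    .xii, .y8, .y10, .tau, .xii, .y4, .p2], [.Z7, .Z5, .Z4, .Z1, .Z0, .X9, .X7, .X6, .X5, .X4, .X3, .X2, .X0, .y10,
    .y9, .y8, .y4, .y3, .y1, .p10, .hi, .p4, .hi, .p7, .hi, .p5, .hi, .p8, .hi, .p10, .hi, .p7, .xii, .p10, .xii,
    .p8, .y7, .xii, .y8, .tau, .xii, .p, .xii, .y4, .y10, .hi, .xii, .y7, .tau, .X0, .y1, .p10, .xii, .p10, .xii,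
    .y5, .p4, .taui, .xii, .p7, .xii, .y1, .p7, .xii, .y2, .tau, .xii, .y4, .p9], .ord [0, 0, 2, 1, 3, 2] [.Z10,
    .Z8, .Z4, .X10, .X8, .X7, .X5, .X0, .y10, .y9, .y8, .y7, .y3, .y2, .p9, .hi, .p7, .hi, .p7, .hi, .p7, .hi, .p7,
    .hi, .p2, .hi, .xii, .p, .xii, .y1, .y10, .hi, .xii, .y6, .tau, .xii, .p, .xii, .y2, .hi, .xii, .y3, .y4, .tau,
    .X0, .p4, .xii, .y1, .p9, .xii, .y9, .hi, .p2, .tau, .xii, .p3, .xii, .y7, .p, .xii, .y1, .y2, .taui, .xii, .p9,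
    .xii, .y7] 12⟩

theorem a2 : svA r2 = true := by decide +kernel
theorem b2 : svB' Base.wg Base.wc Base.we r2 = true := by decide +kernel
theorem c2 : svC Front.wAd r2 = true := by decide +kernel

/-- an exception -/
def r3 : SvD :=
  ⟨(0, [(15, 1), (0, 2), (16, 1), (9, 1), (15, 2), (16, 1), (9, 1), (17, 1), (12, 1), (17, 1), (16, 2), (15, 1), (1,
    2)]), 0, [.z, .Z8, .Z7, .Z6, .Z5, .Z4, .Z2, .Z1, .Z0, .X9, .X7, .X6, .X5, .X3, .X2, .X1, .y10, .y8, .y7, .y5,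
    .y4, .y1, .p4, .hi, .p10, .hi, .p2, .hi, .p6, .hi, .p9, .hi, .p, .hi, .xii, .p, .xii, .y2, .p4, .tau, .p10,
    .xii, .y6, .p3, .hi, .xii, .p10, .y8, .taui, .xii, .p2, .xii, .y5, .p7, .xii], [.Z8, .Z7, .Z6, .Z5, .Z1, .Z0,
    .X10, .X8, .X4, .X2, .X1, .y9, .y7, .p10, .hi, .p6, .hi, .p7, .hi, .p10, .hi, .p7, .hi, .p3, .hi, .p5, .xii,
    .y2, .p5, .hi, .p5, .tau, .xii, .p, .xii, .y2, .hi, .xii, .y3, .taui, .X0, .p8, .xii, .y7, .p, .xii, .y1, .p2,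
    .tau, .xii, .p9, .xii, .p4, .y1, .hi, .p9, .tau, .xii, .y2, .hi, .p10], .th [.z, .Z9, .Z7, .Z5, .Z4, .Z1, .X10,
    .X4, .X0, .y9, .hi, .p5, .hi, .p5, .hi, .p5, .hi, .p, .hi, .p4, .hi, .p7, .xii, .y2, .p10, .hi, .p2, .hi, .p10,
    .tau, .xii, .p, .xii, .y4, .hi, .xii, .y5, .tau, .X0, .xii, .y2, .hi, .xii, .y2, .p6, .xii, .p9, .tau, .xii,
    .hi, .xii, .y4, .p10, .xii, .y7, .y8, .tau] 1 2⟩

theorem a3 : svA r3 = true := by decide +kernel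
theorem b3 : svB' Base.wg Base.wc Base.we r3 = true := by decide +kernel
theorem c3 : svC Front.wAd r3 = true := by decide +kernel

/-- an exception -/
def r4 : SvD :=
  ⟨(0, [(1, 1), (16, 1), (1, 1), (9, 1), (17, 1), (15, 2), (0, 1), (16, 1), (15, 2), (17, 1), (15, 2), (16, 1), (0,
    1), (9, 1), (8, 1), (15, 2), (1, 1), (0, 1), (1, 2), (0, 2)]), 24, [.z, .Z10, .Z8, .Z6, .Z5, .Z4, .X10, .X6,
    .X4, .X3, .X2, .X0, .y10, .y9, .y8, .y6, .y5, .y2, .p8, .hi, .p10, .hi, .p10, .hi, .p8, .hi, .p7, .hi, .p7, .hi,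
    .xii, .p3, .hi, .xii, .y8, .y9, .tau, .xii, .p, .xii, .y4, .hi, .xii, .y5, .y9, .taui, .xii, .y2, .p, .xii, .y4,
    .hi, .xii, .y7, .y10, .tau, .p9, .xii, .y10, .p, .xii, .taui, .xii, .p4, .xii, .p8, .y10, .xii, .y5, .taui,
    .xii, .y6, .hi, .p], [.z, .Z9, .Z8, .Z5, .Z4, .Z2, .Z0, .X10, .X9, .X8, .X7, .X6, .X4, .X3, .X2, .X0, .y8, .y6,
    .y5, .y4, .y3, .y2, .hi, .p7, .hi, .p5, .hi, .p10, .hi, .p4, .hi, .p3, .hi, .p9, .hi, .xii, .y2, .p2, .hi, .tau,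
    .y1, .xii, .y1, .hi, .xii, .p10, .xii, .y3, .y5, .taui, .p10, .xii, .hi, .p6, .xii, .p3, .y1, .y8, .taui, .xii,
    .y2, .hi, .p8, .xii, .y2], .ord [0, 2, 1] [.z, .Z7, .Z2, .Z1, .Z0, .X9, .X6, .X5, .y10, .y9, .p, .hi, .p7, .hi,
    .p10, .hi, .p4, .hi, .p3, .hi, .p6, .xii, .hi, .xii, .p10, .y8, .xii, .y9, .tau, .xii, .p, .xii, .y2, .hi, .xii,
    .y7, .y10, .tau, .xii, .y2, .p, .xii, .y2, .hi, .xii, .y4, .y7, .tau, .p4, .xii, .p4, .xii, .y6, .taui, .xii,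
    .p9, .xii, .p5, .y1, .xii, .y5, .tau, .xii, .p10, .xii] 12⟩

theorem a4 : svA r4 = true := by decide +kernel
theorem b4 : svB' Base.wg Base.wc Base.we r4 = true := by decide +kernel
theorem c4 : svC Front.wAd r4 = true := by decide +kernel

/-- an exception -/
def r5 : SvD :=
  ⟨(0, [(0, 1), (17, 1), (15, 1), (0, 1), (16, 1), (1, 1), (15, 3), (17, 1), (15, 5), (16, 1), (1, 1), (12, 1), (15,
    1)]), 44, [.z, .Z10, .Z9, .Z8, .Z6, .Z4, .Z3, .Z2, .Z0, .X10, .X7, .X6, .X5, .X4, .X3, .X2, .y10, .y9, .y7, .y4,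
    .y3, .y2, .hi, .p7, .hi, .p5, .hi, .p6, .hi, .p4, .hi, .p7, .xii, .p3, .hi, .xii, .p3, .hi, .taui, .xii, .y6,
    .p, .xii, .y10, .p, .xii, .y6, .y10, .taui, .xii, .y6, .p, .xii, .p, .xii, .y4, .y7, .taui, .p4, .xii, .p7,
    .xii, .taui, .xii, .p7, .xii, .y9, .p9, .y5, .xii, .taui, .xii, .p, .hi], [.z, .Z9, .Z6, .Z5, .Z3, .Z1, .Z0,
    .X10, .X9, .X7, .X6, .X4, .X3, .y7, .y4, .y3, .y1, .p6, .hi, .p4, .hi, .p8, .hi, .p7, .hi, .p6, .hi, .p5, .xii,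
    .y2, .hi, .p2, .hi, .tau, .xii, .y2, .p, .xii, .y1, .hi, .xii, .y1, .y4, .taui, .X0, .p5, .xii, .y8, .p, .hi,
    .xii, .y7, .p2, .tau, .xii, .p7, .xii, .p5, .y1, .xii, .y9, .taui, .xii, .hi, .xii], .ord [0, 2, 0, 2] [.z, .Z9,
    .Z8, .Z6, .Z4, .Z3, .Z2, .Z1, .Z0, .X8, .X3, .X1, .y10, .y9, .y7, .y1, .hi, .p10, .hi, .p9, .hi, .p8, .hi, .p6,
    .hi, .p7, .xii, .p, .xii, .y4, .hi, .xii, .y5, .tau, .xii, .p, .xii, .y4, .hi, .xii, .y1, .y10, .tau, .p5, .xii,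
    .p7, .xii, .y6, .p, .y5, .hi, .p2, .taui, .xii, .p9, .xii, .y5, .y9, .p, .xii, .taui, .xii, .p7, .xii] 7⟩

theorem a5 : svA r5 = true := by decide +kernel
theorem b5 : svB' Base.wg Base.wc Base.we r5 = true := by decide +kernel
theorem c5 : svC Front.wAd r5 = true := by decide +kernel

/-- an exception -/
def r6 : SvD :=
  ⟨(0, [(0, 1), (15, 3), (0, 1), (17, 1), (12, 1), (15, 1), (16, 1), (15, 3), (0, 1), (15, 2), (17, 1), (0, 1)]),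
    28, [.z, .Z10, .Z6, .Z5, .Z4, .Z3, .X10, .X5, .X2, .X1, .X0, .y8, .y7, .y5, .y3, .y1, .hi, .p4, .hi, .p8, .hi,
    .p9, .hi, .p8, .hi, .p5, .xii, .p10, .xii, .y10, .p9, .xii, .y1, .taui, .y1, .xii, .p10, .xii, .p10, .y7, .xii,
    .y4, .tau, .X0, .y1, .xii, .p6, .xii, .y1, .p4, .xii, .y10, .p4, .tau, .xii, .y2, .p2, .xii, .y10, .p6, .xii,
    .y6, .tau, .xii, .p, .xii, .y10], [.z, .Z10, .Z9, .Z6, .Z4, .Z2, .Z1, .Z0, .X8, .X6, .X5, .X2, .y10, .y9, .y8,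
    .y4, .y1, .p7, .hi, .p8, .hi, .p7, .hi, .p3, .hi, .p6, .hi, .p6, .xii, .p, .xii, .y2, .p7, .xii, .y4, .tau,
    .xii, .p, .xii, .y4, .hi, .xii, .y5, .tau, .xii, .p, .xii, .hi, .y8, .xii, .y3, .y9, .tau, .X0, .y1, .p7, .xii,
    .hi, .xii, .taui, .xii, .p4, .xii, .y8, .p5, .y3, .xii, .y6, .taui, .xii, .p10, .xii, .y4], .ord [0, 2, 3, 2]
    [.z, .Z9, .Z8, .Z6, .Z4, .Z3, .Z2, .Z1, .Z0, .X8, .X3, .X1, .y10, .y9, .y7, .y1, .hi, .p10, .hi, .p9, .hi, .p8,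
    .hi, .p6, .hi, .p7, .xii, .p, .xii, .y4, .hi, .xii, .y5, .tau, .xii, .p, .xii, .y4, .hi, .xii, .y1, .y10, .tau,
    .p5, .xii, .p7, .xii, .y6, .p, .y5, .hi, .p2, .taui, .xii, .p9, .xii, .y5, .y9, .p, .xii, .taui, .xii, .p7,
    .xii] 7⟩

theorem a6 : svA r6 = true := by decide +kernel
theorem b6 : svB' Base.wg Base.wc Base.we r6 = true := by decide +kernel
theorem c6 : svC Front.wAd r6 = true := by decide +kernel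

/-- an exception -/
def r7 : SvD :=
  ⟨(0, [(15, 1), (0, 1), (15, 2), (16, 1), (9, 1), (15, 3), (16, 1), (9, 1), (15, 1), (16, 1), (9, 1), (15, 1), (1,
    2), (16, 1), (9, 1), (15, 1)]), 6, [.z, .Z9, .Z5, .Z4, .X10, .X8, .X7, .X4, .X2, .X1, .y9, .y8, .y7, .y6, .y5,
    .y4, .y3, .y1, .p9, .hi, .p4, .hi, .p7, .hi, .p3, .hi, .p4, .hi, .p6, .xii, .y2, .p, .xii, .p9, .tau, .xii, .y1,
    .p, .xii, .y4, .p, .xii, .y4, .y6, .tau, .xii, .y1, .p, .xii, .y4, .p, .xii, .y3, .y4, .taui, .p8, .xii, .y1,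
    .y5, .p4, .xii, .taui, .xii, .p4, .xii, .y2, .p4, .xii, .y3, .y10, .tau, .xii, .y7, .p10, .xii, .y8], [.z, .Z10,
    .Z8, .Z5, .Z2, .Z1, .X10, .X8, .X7, .X6, .X5, .X4, .X1, .y10, .y9, .y8, .y7, .y4, .y3, .y2, .p10, .hi, .p, .hi,
    .p3, .hi, .p10, .hi, .p4, .hi, .p7, .hi, .xii, .p10, .xii, .p9, .xii, .y5, .taui, .y1, .xii, .p10, .xii, .y1,
    .p10, .xii, .y1, .y7, .tau, .X0, .xii, .p4, .xii, .p4, .xii, .p3, .y8, .tau, .xii, .p2, .xii, .p2, .y6, .xii,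
    .y9, .taui, .xii, .hi, .p10], .ord [0, 2, 3, 1, 2] [.z, .Z10, .Z8, .Z7, .Z2, .Z1, .Z0, .X7, .X5, .X4, .X0, .y10,
    .y3, .y1, .p8, .hi, .p5, .hi, .p10, .hi, .p5, .hi, .p7, .hi, .p5, .hi, .xii, .hi, .xii, .y6, .p9, .xii, .y6,
    .tau, .y1, .xii, .p10, .xii, .y2, .p10, .xii, .y10, .taui, .y1, .xii, .y2, .hi, .xii, .y7, .p10, .xii, .y4,
    .tau, .hi, .xii, .p8, .xii, .y7, .tau, .xii, .p8, .xii, .y1, .p4, .xii, .y4, .y7, .tau, .xii, .y7, .p6] 12⟩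

theorem a7 : svA r7 = true := by decide +kernel
theorem b7 : svB' Base.wg Base.wc Base.we r7 = true := by decide +kernel
theorem c7 : svC Front.wAd r7 = true := by decide +kernel

/-- an exception -/
def r8 : SvD :=
  ⟨(0, [(15, 1), (0, 1), (15, 2), (16, 1), (9, 1), (15, 3), (16, 1), (9, 1), (15, 1), (16, 1), (9, 1), (15, 1), (1,
    2), (16, 1), (9, 1), (15, 1)]), 46, [.z, .Z9, .Z5, .Z4, .X10, .X8, .X7, .X4, .X2, .X1, .y9, .y8, .y7, .y6, .y5,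
    .y4, .y3, .y1, .p9, .hi, .p4, .hi, .p7, .hi, .p3, .hi, .p4, .hi, .p6, .xii, .y2, .p, .xii, .p9, .tau, .xii, .y1,
    .p, .xii, .y4, .p, .xii, .y4, .y6, .tau, .xii, .y1, .p, .xii, .y4, .p, .xii, .y3, .y4, .taui, .p8, .xii, .y1,
    .y5, .p4, .xii, .taui, .xii, .p4, .xii, .y2, .p4, .xii, .y3, .y10, .tau, .xii, .y7, .p10, .xii, .y8], [.z, .Z8,
    .Z7, .Z6, .Z3, .Z0, .X4, .X3, .X2, .X0, .y10, .y9, .y6, .y5, .y4, .p3, .hi, .p5, .hi, .p, .hi, .p, .xii, .hi,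
    .xii, .p8, .y10, .xii, .taui, .xii, .y2, .p, .xii, .y2, .hi, .xii, .y4, .y5, .tau, .xii, .y6, .p, .xii, .y4, .p,
    .xii, .y6, .taui, .p9, .xii, .p, .xii, .y6, .taui, .xii, .y2, .p7, .xii, .p9, .xii, .y4, .y10, .tau, .xii, .y7,
    .p6, .xii, .y8], .ord [0, 2, 3, 2] [.z, .Z8, .Z7, .Z6, .Z2, .Z1, .Z0, .X10, .X8, .X5, .X3, .X2, .X1, .X0, .y10,
    .y6, .y4, .y3, .y1, .hi, .p10, .hi, .p8, .hi, .p6, .hi, .p, .hi, .p, .hi, .p7, .hi, .xii, .p3, .hi, .xii, .y3,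
    .y7, .p6, .tau, .y1, .xii, .p10, .xii, .y5, .p10, .xii, .taui, .xii, .y1, .p, .xii, .y4, .p, .xii, .y3, .y4,
    .taui, .y1, .p4, .xii, .p9, .xii, .y9, .tau, .xii, .y2, .p4, .xii, .p4, .xii, .y3, .taui, .xii, .y7, .p8] 7⟩

theorem a8 : svA r8 = true := by decide +kernel
theorem b8 : svB' Base.wg Base.wc Base.we r8 = true := by decide +kernel
theorem c8 : svC Front.wAd r8 = true := by decide +kernel

/-- an exception -/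
def r9 : SvD :=
  ⟨(0, [(15, 1), (0, 1), (15, 2), (16, 1), (9, 1), (15, 3), (16, 1), (9, 1), (15, 1), (16, 1), (9, 1), (15, 1), (1,
    2), (16, 1), (9, 1), (15, 1)]), 68, [.z, .Z9, .Z5, .Z4, .X10, .X8, .X7, .X4, .X2, .X1, .y9, .y8, .y7, .y6, .y5,
    .y4, .y3, .y1, .p9, .hi, .p4, .hi, .p7, .hi, .p3, .hi, .p4, .hi, .p6, .xii, .y2, .p, .xii, .p9, .tau, .xii, .y1,
    .p, .xii, .y4, .p, .xii, .y4, .y6, .tau, .xii, .y1, .p, .xii, .y4, .p, .xii, .y3, .y4, .taui, .p8, .xii, .y1,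
    .y5, .p4, .xii, .taui, .xii, .p4, .xii, .y2, .p4, .xii, .y3, .y10, .tau, .xii, .y7, .p10, .xii, .y8], [.z, .Z10,
    .Z9, .Z6, .Z5, .Z3, .Z1, .Z0, .X10, .X9, .X8, .X6, .X4, .X1, .X0, .y10, .y8, .y7, .y6, .hi, .p10, .hi, .p2, .hi,
    .p6, .hi, .p, .hi, .p, .xii, .p10, .xii, .y9, .p8, .xii, .y4, .tau, .y1, .xii, .p10, .xii, .y1, .p10, .y9, .xii,
    .taui, .xii, .y6, .p, .xii, .p, .xii, .y1, .y9, .tau, .y1, .p9, .xii, .hi, .xii, .taui, .xii, .p9, .xii, .y3,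
    .p9, .y9, .xii, .y4, .taui, .xii, .p7, .xii], .ord [0, 0, 1, 2] [.z, .Z10, .Z9, .Z5, .Z4, .Z3, .Z2, .Z1, .X10,
    .X5, .X4, .X2, .X0, .y3, .y2, .y1, .p4, .hi, .p10, .hi, .p4, .hi, .p3, .hi, .p, .hi, .p6, .xii, .p10, .xii,
    .y10, .p3, .hi, .taui, .xii, .y1, .p, .xii, .y4, .p, .xii, .y1, .y10, .tau, .xii, .p8, .xii, .p4, .y9, .xii,
    .y2, .y3, .p, .taui, .xii, .p9, .xii, .y2, .p, .xii, .y8, .tau, .xii, .y2, .p6] 12⟩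

theorem a9 : svA r9 = true := by decide +kernel
theorem b9 : svB' Base.wg Base.wc Base.we r9 = true := by decide +kernel
theorem c9 : svC Front.wAd r9 = true := by decide +kernel

/-- the list -/
def S : List SvD :=
  [r0, r1, r2, r3, r4, r5, r6, r7, r8, r9]

theorem ok : ∀ r ∈ S, svA r = true ∧ svB' Base.wg Base.wc Base.we r = true ∧ svC Front.wAd r = true :=
  List.forall_mem_cons.2 ⟨⟨a0, b0, c0⟩,
  List.forall_mem_cons.2 ⟨⟨a1, b1, c1⟩,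
  List.forall_mem_cons.2 ⟨⟨a2, b2, c2⟩,
  List.forall_mem_cons.2 ⟨⟨a3, b3, c3⟩,
  List.forall_mem_cons.2 ⟨⟨a4, b4, c4⟩,
  List.forall_mem_cons.2 ⟨⟨a5, b5, c5⟩,
  List.forall_mem_cons.2 ⟨⟨a6, b6, c6⟩,
  List.forall_mem_cons.2 ⟨⟨a7, b7, c7⟩,
  List.forall_mem_cons.2 ⟨⟨a8, b8, c8⟩,
  List.forall_mem_cons.2 ⟨⟨a9, b9, c9⟩,
  List.forall_mem_nil _⟩⟩⟩⟩⟩⟩⟩⟩⟩⟩

end Cfsg.Agent.BX.No33.SvD0
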