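import Cfsg.Agent.BX.No33.Glue
import Cfsg.Agent.BX.No33.BaseD
import Cfsg.Agent.BX.No33.Front
set_option linter.all false

/-!
# The exceptions of the tests, case P, part 0 (helper21)
-/

set_option autoImplicit false
set_option Elab.async false
set_option maxRecDepth 100000

namespace Cfsg.Agent.BX.No33.SvP0

open Cfsg.Agent.BabyM.Conc (Ltr)

/-- an exception -/
def r0 : SvD :=
  ⟨(0, [(15, 4), (1, 1), (12, 1), (0, 1), (15, 1), (16, 1), (17, 1), (16, 1), (0, 1), (12, 1), (16, 1), (0, 1), (17,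
    1), (1, 1), (0, 1), (1, 2), (0, 2)]), 55, [.Z9, .Z7, .Z6, .Z5, .Z4, .Z3, .Z1, .Z0, .X10, .X9, .X8, .X4, .X3,
    .X2, .X1, .X0, .y10, .y8, .y7, .y6, .y5, .y4, .y1, .hi, .p3, .hi, .p10, .hi, .p4, .hi, .p4, .hi, .p2, .hi, .xii,
    .p10, .xii, .y5, .p6, .xii, .y4, .y7, .tau, .xii, .p, .xii, .hi, .y8, .xii, .y3, .y4, .taui, .X0, .y1, .xii,
    .y2, .p5, .xii, .y2, .p5, .xii, .y7, .tau, .xii, .y2, .p7, .xii, .y4, .p9, .xii, .taui, .xii, .y2, .p], [.Z10,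
    .Z9, .Z7, .Z6, .Z4, .Z3, .Z1, .X10, .X9, .X8, .X6, .X5, .X4, .X3, .X2, .X1, .y10, .y5, .y4, .p10, .hi, .p, .hi,
    .p8, .hi, .p4, .hi, .p3, .hi, .p2, .xii, .hi, .p8, .xii, .y4, .p10, .taui, .y1, .p10, .xii, .p9, .xii, .y4,
    .y10, .taui, .xii, .p2, .xii, .p9, .y5, .tau, .xii, .hi, .p8], .ord [0, 0, 1, 2] [.Z10, .X10, .X7, .X2, .X1,
    .X0, .y10, .y9, .y6, .y5, .y2, .p2, .hi, .p4, .hi, .p10, .hi, .p5, .hi, .p8, .hi, .p4, .hi, .xii, .y2, .hi, .p8,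
    .xii, .y10, .tau, .xii, .y2, .p, .xii, .y1, .hi, .xii, .y3, .tau, .p7, .xii, .p7, .xii, .hi, .y9, .p5, .tau,
    .xii, .p3, .xii, .y1, .p6, .xii, .y1, .tau, .xii, .y8, .p4, .hi, .p4] 12⟩

theorem a0 : svA r0 = true := by decide +kernel
theorem b0 : svB' Base.wg Base.wc Base.we r0 = true := by decide +kernel
theorem c0 : svC Front.wAp r0 = true := by decide +kernel

/-- an exception -/
def r1 : SvD :=
  ⟨(0, [(15, 4), (1, 1), (12, 1), (0, 1), (15, 1), (16, 1), (17, 1), (16, 1), (0, 1), (12, 1), (16, 1), (0, 1), (17,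
    1), (1, 1), (0, 1), (1, 2), (0, 2)]), 57, [.Z9, .Z7, .Z6, .Z5, .Z4, .Z3, .Z1, .Z0, .X10, .X9, .X8, .X4, .X3,
    .X2, .X1, .X0, .y10, .y8, .y7, .y6, .y5, .y4, .y1, .hi, .p3, .hi, .p10, .hi, .p4, .hi, .p4, .hi, .p2, .hi, .xii,
    .p10, .xii, .y5, .p6, .xii, .y4, .y7, .tau, .xii, .p, .xii, .hi, .y8, .xii, .y3, .y4, .taui, .X0, .y1, .xii,
    .y2, .p5, .xii, .y2, .p5, .xii, .y7, .tau, .xii, .y2, .p7, .xii, .y4, .p9, .xii, .taui, .xii, .y2, .p], [.Z10,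
    .Z9, .Z5, .Z4, .Z3, .Z1, .Z0, .X10, .X8, .X5, .X4, .X2, .X0, .y10, .y8, .y4, .y3, .y1, .hi, .p6, .hi, .p5, .hi,
    .p9, .hi, .p4, .hi, .p10, .hi, .p7, .xii, .hi, .xii, .p10, .tau, .y1, .xii, .p10, .xii, .y4, .p10, .xii, .y4,
    .y10, .tau, .xii, .y1, .p, .xii, .y2, .p, .xii, .y6, .taui, .y1, .p10, .xii, .p6, .xii, .y4, .tau, .xii, .y2,
    .p4, .xii, .y6, .p6, .xii, .y1, .tau, .xii, .y6, .p3, .xii, .y8], .ord [1, 3, 2] [.z, .Z7, .Z6, .Z4, .Z3, .Z2,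
    .Z1, .X8, .X7, .X6, .X3, .X2, .X1, .y10, .y8, .y7, .y4, .y3, .y2, .hi, .p10, .hi, .p3, .hi, .p4, .hi, .p5, .hi,
    .p, .hi, .p8, .xii, .y2, .p10, .hi, .p2, .hi, .p10, .tau, .xii, .y1, .p, .xii, .p, .xii, .y3, .tau, .p4, .xii,
    .p7, .xii, .y4, .y5, .y9, .hi, .p7, .taui, .xii, .p9, .xii, .y4, .p8, .xii, .y4, .y6, .tau, .xii, .p5] 12⟩

theorem a1 : svA r1 = true := by decide +kernel
theorem b1 : svB' Base.wg Base.wc Base.we r1 = true := by decide +kernel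
theorem c1 : svC Front.wAp r1 = true := by decide +kernel

/-- an exception -/
def r2 : SvD :=
  ⟨(0, [(15, 4), (1, 1), (12, 1), (0, 1), (15, 1), (16, 1), (17, 1), (16, 1), (0, 1), (12, 1), (16, 1), (0, 1), (17,
    1), (1, 1), (0, 1), (1, 2), (0, 2)]), 62, [.Z9, .Z7, .Z6, .Z5, .Z4, .Z3, .Z1, .Z0, .X10, .X9, .X8, .X4, .X3,
    .X2, .X1, .X0, .y10, .y8, .y7, .y6, .y5, .y4, .y1, .hi, .p3, .hi, .p10, .hi, .p4, .hi, .p4, .hi, .p2, .hi, .xii,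
    .p10, .xii, .y5, .p6, .xii, .y4, .y7, .tau, .xii, .p, .xii, .hi, .y8, .xii, .y3, .y4, .taui, .X0, .y1, .xii,
    .y2, .p5, .xii, .y2, .p5, .xii, .y7, .tau, .xii, .y2, .p7, .xii, .y4, .p9, .xii, .taui, .xii, .y2, .p], [.Z10,
    .Z9, .Z8, .Z7, .Z6, .Z5, .Z3, .Z2, .Z0, .X8, .X5, .y10, .y9, .y6, .y5, .y2, .y1, .p, .hi, .p10, .hi, .p2, .hi,
    .p, .hi, .p8, .hi, .p4, .xii, .p, .xii, .y4, .p8, .xii, .y7, .tau, .xii, .y2, .p, .xii, .y1, .hi, .xii, .y1,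
    .y4, .taui, .y1, .xii, .y1, .p5, .xii, .y7, .y8, .p2, .xii, .y3, .taui, .xii, .p3, .xii, .p2, .y6, .xii, .taui,
    .xii, .y2, .hi, .p], .ord [1, 2, 3] [.z, .Z10, .Z7, .Z6, .Z4, .Z3, .X10, .X9, .X0, .y10, .y9, .y8, .y7, .y6,
    .y5, .y1, .p9, .hi, .p9, .hi, .p3, .hi, .p4, .hi, .p3, .hi, .p10, .hi, .xii, .p, .xii, .p9, .y1, .xii, .tau,
    .xii, .y6, .p, .xii, .p, .xii, .y4, .y7, .y8, .tau, .xii, .p, .xii, .hi, .y8, .xii, .y5, .taui, .X0, .y1, .p10,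
    .xii, .p10, .xii, .y6, .taui, .xii, .p4, .xii, .y4, .p5, .xii, .taui, .xii, .y4, .p10, .xii] 12⟩

theorem a2 : svA r2 = true := by decide +kernel
theorem b2 : svB' Base.wg Base.wc Base.we r2 = true := by decide +kernel
theorem c2 : svC Front.wAp r2 = true := by decide +kernel

/-- an exception -/
def r3 : SvD :=
  ⟨(0, [(0, 1), (9, 1), (15, 1), (0, 1), (15, 2), (0, 1), (16, 1), (15, 1), (16, 2), (0, 1), (15, 2), (12, 1), (15,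
    2), (16, 1), (0, 1)]), 9, [.z, .Z10, .Z9, .Z8, .Z5, .Z4, .Z2, .Z0, .X9, .X7, .X4, .X3, .X0, .y10, .y8, .y7, .y6,
    .y2, .p7, .hi, .p10, .hi, .p2, .hi, .p10, .hi, .p3, .hi, .p, .xii, .p10, .hi, .p2, .hi, .p10, .taui, .y1, .xii,
    .y2, .hi, .xii, .y10, .p10, .xii, .y8, .taui, .xii, .p7, .xii, .p8, .y2, .xii, .y7, .y8, .hi, .tau, .xii, .p9,
    .xii, .y8, .y9, .p6, .xii, .y5, .taui, .xii, .p4, .hi, .p6], [.Z10, .Z4, .X9, .X6, .X5, .X4, .X2, .y10, .y6,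
    .y5, .y4, .y3, .y1, .p10, .hi, .p9, .hi, .p9, .hi, .p9, .hi, .p8, .hi, .p5, .hi, .p2, .xii, .hi, .p10, .tau,
    .X0, .p9, .xii, .y2, .p, .xii, .y8, .hi, .tau, .xii, .y2, .p, .hi, .xii], .ord [0, 2] [.z, .Z10, .Z7, .Z5, .Z4,
    .Z2, .X9, .X8, .X4, .X1, .X0, .y6, .y4, .y1, .p6, .hi, .p10, .hi, .p3, .hi, .p10, .hi, .p6, .hi, .p8, .hi, .tau,
    .xii, .y2, .p, .xii, .y2, .y10, .hi, .xii, .y7, .tau, .X0, .y1, .xii, .p, .xii, .hi, .xii, .y3, .y10, .tau,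
    .xii, .hi, .xii, .p10, .y8, .xii, .taui] 12⟩

theorem a3 : svA r3 = true := by decide +kernel
theorem b3 : svB' Base.wg Base.wc Base.we r3 = true := by decide +kernel
theorem c3 : svC Front.wAp r3 = true := by decide +kernel

/-- an exception -/
def r4 : SvD :=
  ⟨(0, [(0, 1), (9, 1), (15, 1), (0, 1), (15, 2), (0, 1), (16, 1), (15, 1), (16, 2), (0, 1), (15, 2), (12, 1), (15,
    2), (16, 1), (0, 1)]), 35, [.z, .Z10, .Z9, .Z8, .Z5, .Z4, .Z2, .Z0, .X9, .X7, .X4, .X3, .X0, .y10, .y8, .y7,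
    .y6, .y2, .p7, .hi, .p10, .hi, .p2, .hi, .p10, .hi, .p3, .hi, .p, .xii, .p10, .hi, .p2, .hi, .p10, .taui, .y1,
    .xii, .y2, .hi, .xii, .y10, .p10, .xii, .y8, .taui, .xii, .p7, .xii, .p8, .y2, .xii, .y7, .y8, .hi, .tau, .xii,
    .p9, .xii, .y8, .y9, .p6, .xii, .y5, .taui, .xii, .p4, .hi, .p6], [.z, .Z10, .Z7, .Z6, .Z4, .Z1, .Z0, .X10, .X5,
    .X4, .y10, .y8, .y7, .y4, .y1, .p7, .hi, .p4, .hi, .p5, .hi, .p9, .hi, .p5, .hi, .p9, .hi, .xii, .p3, .hi, .p8,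
    .hi, .p6, .taui, .X0, .p9, .xii, .y2, .p2, .hi, .xii, .y2, .p6, .taui, .xii, .p10, .xii, .p6, .xii, .y2], .ord
    [0, 2, 3, 2] [.z, .Z8, .Z7, .Z6, .Z5, .Z4, .Z3, .Z2, .Z0, .X8, .X7, .X6, .X5, .y10, .y8, .y7, .y6, .y5, .y1,
    .hi, .p10, .hi, .p6, .hi, .p9, .hi, .p5, .hi, .p8, .hi, .p9, .xii, .y2, .taui, .y1, .xii, .y2, .p10, .xii, .y1,
    .y7, .tau, .p5, .xii, .y6, .p, .xii, .y1, .tau, .xii, .p10, .xii, .p9, .xii, .y8, .tau] 5⟩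

theorem a4 : svA r4 = true := by decide +kernel
theorem b4 : svB' Base.wg Base.wc Base.we r4 = true := by decide +kernel
theorem c4 : svC Front.wAp r4 = true := by decide +kernel

/-- an exception -/
def r5 : SvD :=
  ⟨(0, [(0, 1), (9, 1), (15, 1), (0, 1), (15, 2), (0, 1), (16, 1), (15, 1), (16, 2), (0, 1), (15, 2), (12, 1), (15,
    2), (16, 1), (0, 1)]), 76, [.z, .Z10, .Z9, .Z8, .Z5, .Z4, .Z2, .Z0, .X9, .X7, .X4, .X3, .X0, .y10, .y8, .y7,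
    .y6, .y2, .p7, .hi, .p10, .hi, .p2, .hi, .p10, .hi, .p3, .hi, .p, .xii, .p10, .hi, .p2, .hi, .p10, .taui, .y1,
    .xii, .y2, .hi, .xii, .y10, .p10, .xii, .y8, .taui, .xii, .p7, .xii, .p8, .y2, .xii, .y7, .y8, .hi, .tau, .xii,
    .p9, .xii, .y8, .y9, .p6, .xii, .y5, .taui, .xii, .p4, .hi, .p6], [.z, .Z9, .Z8, .Z7, .Z5, .Z4, .Z1, .Z0, .X9,
    .X8, .X5, .X3, .X2, .y8, .y7, .y6, .y5, .y1, .hi, .p2, .hi, .p4, .hi, .p8, .hi, .p7, .hi, .p4, .hi, .p4, .xii,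
    .hi, .p10, .tau, .X0, .p10, .xii, .y4, .hi, .xii, .y1, .y5, .tau], .ord [2, 3] [.z, .Z10, .Z7, .Z6, .Z3, .Z2,
    .Z1, .Z0, .X4, .X3, .X0, .y9, .y8, .y7, .y6, .y4, .y3, .y2, .y1, .p9, .hi, .p9, .hi, .p5, .hi, .p6, .hi, .p10,
    .hi, .p6, .xii, .p10, .xii, .taui, .xii, .y2, .p, .xii, .y10, .hi, .p10, .taui, .y1, .p2, .xii, .p7, .xii, .p5,
    .y10, .tau, .xii, .p, .xii, .y3, .p7, .xii, .y6, .tau] 26⟩

theorem a5 : svA r5 = true := by decide +kernel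
theorem b5 : svB' Base.wg Base.wc Base.we r5 = true := by decide +kernel
theorem c5 : svC Front.wAp r5 = true := by decide +kernel

/-- an exception -/
def r6 : SvD :=
  ⟨(0, [(15, 1), (16, 2), (1, 1), (9, 1), (16, 1), (12, 1), (0, 1), (15, 2), (16, 1), (0, 1), (15, 2), (0, 1), (12,
    1), (0, 1), (1, 1), (0, 2), (1, 2)]), 35, [.Z10, .Z9, .Z7, .Z6, .Z5, .Z4, .Z3, .Z2, .X8, .X5, .X4, .X2, .X1,
    .X0, .y10, .y8, .y7, .y6, .y5, .y4, .y3, .p9, .hi, .p4, .hi, .p7, .hi, .p8, .hi, .p10, .hi, .p, .hi, .xii, .p10,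
    .xii, .y2, .taui, .xii, .y1, .p, .xii, .y10, .p, .xii, .y6, .y10, .tau, .X0, .xii, .p5, .xii, .y8, .y10, .p,
    .xii, .y6, .taui, .xii, .p2, .xii, .y3, .p2, .xii, .y9, .taui, .xii, .p9], [.z, .Z10, .Z5, .Z4, .Z2, .Z1, .X10,
    .X5, .X3, .X2, .X1, .y10, .y6, .y4, .y1, .hi, .p7, .hi, .p8, .hi, .p5, .hi, .p8, .hi, .p8, .hi, .p4, .hi, .xii,
    .hi, .p, .hi, .p6, .hi], .ord [2, 3, 2, 3] [.Z10, .Z3, .Z2, .Z0, .X10, .X8, .X7, .X3, .X1, .X0, .y10, .y9, .y8,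
    .y5, .y4, .p5, .hi, .p4, .hi, .p6, .hi, .p9, .hi, .p6, .hi, .xii, .p, .xii, .p8, .y5, .xii, .y1, .tau, .xii, .p,
    .xii, .y4, .hi, .xii, .y5, .tau, .y1, .xii, .p10, .xii, .y2, .p10, .xii, .taui, .X0, .hi, .xii, .p9, .xii, .y7,
    .taui, .xii, .p9, .xii, .y3, .y9, .p5, .xii, .y4, .tau, .xii, .p10, .xii, .y8] 7⟩

theorem a6 : svA r6 = true := by decide +kernel
theorem b6 : svB' Base.wg Base.wc Base.we r6 = true := by decide +kernel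
theorem c6 : svC Front.wAp r6 = true := by decide +kernel

/-- an exception -/
def r7 : SvD :=
  ⟨(0, [(9, 1), (17, 3), (16, 1), (9, 1), (8, 1), (15, 1), (0, 2), (15, 1), (17, 1), (0, 1), (16, 1), (1, 2)]), 51,
    [.Z10, .Z9, .Z7, .Z4, .Z3, .Z2, .Z1, .X7, .X6, .X0, .y9, .y8, .y7, .y3, .y2, .p10, .hi, .p6, .hi, .p3, .hi, .p6,
    .hi, .p, .hi, .p8, .xii, .p3, .hi, .xii, .y8, .tau, .y1, .xii, .p10, .xii, .y5, .p10, .xii, .y8, .taui, .xii,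
    .y6, .p, .xii, .y10, .p, .xii, .y3, .y4, .taui, .y1, .p4, .xii, .hi, .xii, .y4, .tau, .xii, .y2, .p9, .xii, .y7,
    .p, .xii, .tau, .xii, .p7, .xii, .y2], [.z, .Z10, .Z5, .Z1, .Z0, .X10, .X9, .X8, .X7, .X5, .X2, .X1, .X0, .y5,
    .y4, .y2, .hi, .p4, .hi, .p4, .hi, .p6, .hi, .p3, .hi, .p10, .hi, .p9, .hi, .xii, .y2, .p5, .hi, .p5], .ord [2,
    3] [.z, .Z10, .Z8, .Z6, .Z5, .Z2, .Z1, .Z0, .X6, .X0, .y10, .y7, .y6, .y4, .p6, .hi, .p4, .hi, .p10, .hi, .p3,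
    .hi, .p2, .hi, .xii, .hi, .p8, .xii, .y1, .y7, .tau, .xii, .y1, .p3, .hi, .xii, .y8, .p10, .tau, .X0, .p4, .xii,
    .p8, .xii, .p6, .y1, .taui, .xii, .y2, .p, .xii, .y4, .hi, .xii, .y6, .taui] 7⟩

theorem a7 : svA r7 = true := by decide +kernel
theorem b7 : svB' Base.wg Base.wc Base.we r7 = true := by decide +kernel
theorem c7 : svC Front.wAp r7 = true := by decide +kernel

/-- an exception -/
def r8 : SvD :=
  ⟨(0, [(9, 1), (15, 1), (1, 1), (15, 1), (16, 1), (9, 1), (16, 1), (0, 2), (15, 1), (16, 1), (0, 1), (15, 1), (17,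
    2), (12, 1), (1, 1), (0, 1), (1, 2), (0, 2)]), 37, [.z, .Z9, .Z8, .Z7, .Z6, .Z4, .Z3, .Z1, .X10, .X5, .X4, .X3,
    .y9, .y7, .y6, .y5, .p10, .hi, .p4, .hi, .p3, .hi, .p5, .hi, .p, .hi, .p9, .xii, .y2, .hi, .xii, .p10, .xii,
    .y3, .y7, .taui, .xii, .y1, .p, .xii, .p, .xii, .y4, .y5, .tau, .xii, .y6, .p, .xii, .p, .xii, .y5, .y8, .tau,
    .X0, .p6, .xii, .p8, .xii, .y2, .tau, .xii, .p5, .xii, .y1, .p2, .xii, .y4, .tau, .xii, .p3, .xii, .y2], [.Z8,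
    .Z7, .Z5, .Z3, .Z2, .Z1, .Z0, .X10, .X9, .X8, .X6, .X1, .X0, .y10, .y8, .y4, .y3, .y2, .y1, .p2, .hi, .p7, .hi,
    .p7, .hi, .p10, .hi, .p4, .hi, .p5, .xii, .y2, .tau, .xii, .hi, .xii, .y1, .p5, .hi, .p5, .tau], .ord [0, 2, 3,
    2] [.z, .Z10, .Z9, .Z6, .X10, .X8, .X7, .X5, .X1, .X0, .y10, .y9, .y5, .y3, .p7, .hi, .p3, .hi, .p10, .hi, .p3,
    .hi, .p2, .hi, .taui, .xii, .y2, .p, .xii, .y1, .hi, .xii, .y1, .y10, .tau, .xii, .y1, .p2, .xii, .p, .y4, .xii,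
    .tau, .xii, .p10, .xii, .y4, .p2, .xii, .y7, .taui] 7⟩

theorem a8 : svA r8 = true := by decide +kernel
theorem b8 : svB' Base.wg Base.wc Base.we r8 = true := by decide +kernel
theorem c8 : svC Front.wAp r8 = true := by decide +kernel

/-- an exception -/
def r9 : SvD :=
  ⟨(0, [(15, 1), (17, 1), (12, 1), (17, 1), (15, 1), (1, 1), (17, 1), (12, 1), (16, 1), (0, 2), (16, 1), (15, 1),
    (0, 1), (17, 1), (15, 1), (1, 1), (0, 1), (1, 2), (0, 2)]), 39, [.z, .Z10, .Z9, .Z8, .Z6, .Z5, .X10, .X9, .X8,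
    .X5, .X2, .X0, .y10, .y9, .y8, .y7, .y4, .y3, .y2, .hi, .p8, .hi, .p7, .hi, .p3, .hi, .p7, .hi, .p5, .hi, .p2,
    .xii, .p10, .xii, .y6, .p3, .hi, .p2, .taui, .y1, .xii, .p10, .xii, .y1, .y9, .p10, .xii, .y4, .taui, .y1, .xii,
    .p10, .xii, .p10, .y7, .xii, .y8, .y10, .taui, .X0, .p9, .xii, .y9, .p3, .xii, .y7, .tau, .xii, .p8, .xii, .p2,
    .y10, .xii, .y6, .y10, .taui, .xii, .y2, .hi, .xii, .y1], [.z, .Z10, .Z8, .Z5, .Z1, .X9, .X8, .X7, .X6, .X3,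
    .X2, .X1, .y10, .y9, .y8, .y7, .y2, .p10, .hi, .p9, .hi, .p10, .hi, .p7, .hi, .p10, .hi, .p, .xii, .y2, .hi,
    .p10, .hi, .p8, .tau, .xii, .p8, .xii, .p4, .y9, .xii, .y4, .p6, .taui, .xii, .p5, .hi, .p10, .xii, .y8, .tau,
    .xii, .y2, .p2], .ord [0, 2, 3, 2] [.Z10, .Z9, .Z7, .Z4, .Z1, .Z0, .X10, .X9, .X5, .X2, .X0, .y9, .y6, .y5, .y4,
    .y1, .hi, .p3, .hi, .p10, .hi, .p3, .hi, .p3, .hi, .p10, .hi, .p8, .xii, .p, .xii, .y2, .p7, .xii, .y4, .taui,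
    .xii, .y6, .p, .xii, .y2, .p, .xii, .y5, .y10, .tau, .xii, .y1, .p, .xii, .p, .y7, .xii, .y5, .y10, .tau, .X0,
    .p5, .xii, .y9, .p, .xii, .taui, .xii, .p6, .xii, .y4, .y5, .p2, .xii, .y7, .taui, .xii, .p3, .xii, .y2] 7⟩

theorem a9 : svA r9 = true := by decide +kernel
theorem b9 : svB' Base.wg Base.wc Base.we r9 = true := by decide +kernel
theorem c9 : svC Front.wAp r9 = true := by decide +kernel

/-- an exception -/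
def r10 : SvD :=
  ⟨(0, [(9, 1), (17, 2), (0, 2), (15, 1), (0, 1), (16, 1), (0, 1), (15, 1), (0, 1), (16, 1), (9, 1), (16, 1), (1,
    1)]), 14, [.z, .Z6, .Z4, .Z3, .Z2, .Z1, .Z0, .X8, .X3, .y10, .y8, .y6, .y4, .y1, .hi, .p6, .hi, .p4, .hi, .p3,
    .hi, .p, .xii, .y2, .p3, .hi, .xii, .p6, .taui, .xii, .y1, .p, .xii, .y4, .p, .xii, .y6, .y10, .tau, .y1, .xii,
    .y1, .p9, .xii, .y7, .p9, .xii, .y5, .y7, .y10, .taui, .xii, .p9, .xii, .y7, .p6, .xii, .y2, .tau, .xii, .p6,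
    .xii, .y4], [.z, .Z10, .Z9, .Z8, .Z6, .Z2, .Z1, .Z0, .X10, .X9, .X8, .X7, .X5, .X2, .y5, .y4, .y2, .y1, .hi,
    .p9, .hi, .p6, .hi, .p7, .hi, .p7, .hi, .p, .hi, .p6, .hi, .tau, .X0, .xii, .y2, .p10, .xii, .y1, .y9, .tau],
    .ord [0, 2] [.Z10, .Z8, .Z6, .Z5, .Z2, .Z1, .X10, .X8, .X7, .X2, .X1, .X0, .y10, .y2, .hi, .p10, .hi, .p2, .hi,
    .p8, .hi, .p10, .hi, .p9, .hi, .p10, .xii, .p10, .hi, .p2, .hi, .p10, .taui, .xii, .y1, .p3, .hi, .xii, .y1,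
    .p10, .tau, .X0, .hi, .xii, .p10, .xii, .y2, .y8, .p7, .taui, .xii, .hi, .xii, .p6, .y7, .xii] 7⟩

theorem a10 : svA r10 = true := by decide +kernel
theorem b10 : svB' Base.wg Base.wc Base.we r10 = true := by decide +kernel
theorem c10 : svC Front.wAp r10 = true := by decide +kernel

/-- an exception -/
def r11 : SvD :=
  ⟨(0, [(0, 1), (16, 2), (3, 1), (15, 2), (16, 1), (15, 2), (16, 2), (15, 1), (16, 1), (0, 1), (0, 1), (1, 1), (0,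
    2), (1, 2)]), 25, [.z, .Z9, .Z5, .Z3, .Z0, .X10, .X8, .X6, .X5, .X2, .X1, .y10, .y7, .y4, .y3, .y2, .y1, .p2,
    .hi, .p10, .hi, .p5, .hi, .p, .hi, .xii, .p, .xii, .p7, .xii, .y4, .tau, .y1, .xii, .p10, .xii, .y8, .p10, .xii,
    .y3, .y7, .tau, .y1, .xii, .p10, .xii, .y8, .p10, .xii, .y2, .taui, .X0, .p2, .xii, .p8, .xii, .y4, .taui, .xii,
    .p7, .xii, .y2, .p9, .xii, .y2, .y7, .taui, .xii, .y2, .p10, .xii], [.Z10, .Z9, .Z7, .Z5, .Z2, .Z1, .X8, .X5,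
    .X3, .X2, .y7, .p4, .hi, .p6, .hi, .p, .hi, .p, .hi, .p6, .hi, .p2, .hi, .xii, .y2, .hi, .p10, .tau, .X0, .y1,
    .p5, .xii, .p10, .xii, .p3, .hi, .p6, .taui, .xii, .y2, .p10, .xii, .y1, .p9, .xii, .y9], .ord [0, 2, 1] [.z,
    .Z10, .Z9, .Z8, .Z5, .Z0, .X8, .X7, .X6, .X5, .X4, .X3, .X2, .y7, .y6, .y5, .y1, .hi, .p6, .hi, .p10, .hi, .p9,
    .hi, .p4, .hi, .p, .tau, .xii, .y2, .p, .xii, .y4, .hi, .xii, .y2, .y7, .taui, .y1, .xii, .y1, .p2, .xii, .p10,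
    .xii, .y3, .tau, .xii, .y2, .hi, .xii, .p3, .hi, .p5] 12⟩

theorem a11 : svA r11 = true := by decide +kernel
theorem b11 : svB' Base.wg Base.wc Base.we r11 = true := by decide +kernel
theorem c11 : svC Front.wAp r11 = true := by decide +kernel

/-- an exception -/
def r12 : SvD :=
  ⟨(0, [(0, 1), (16, 2), (3, 1), (15, 2), (16, 1), (15, 2), (16, 2), (15, 1), (16, 1), (0, 1), (0, 1), (1, 1), (0,
    2), (1, 2)]), 43, [.z, .Z9, .Z5, .Z3, .Z0, .X10, .X8, .X6, .X5, .X2, .X1, .y10, .y7, .y4, .y3, .y2, .y1, .p2,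
    .hi, .p10, .hi, .p5, .hi, .p, .hi, .xii, .p, .xii, .p7, .xii, .y4, .tau, .y1, .xii, .p10, .xii, .y8, .p10, .xii,
    .y3, .y7, .tau, .y1, .xii, .p10, .xii, .y8, .p10, .xii, .y2, .taui, .X0, .p2, .xii, .p8, .xii, .y4, .taui, .xii,
    .p7, .xii, .y2, .p9, .xii, .y2, .y7, .taui, .xii, .y2, .p10, .xii], [.z, .Z10, .Z8, .Z6, .Z5, .Z4, .Z3, .Z1,
    .X9, .X8, .X5, .X4, .X3, .y10, .y8, .y6, .y3, .y1, .p7, .hi, .p10, .hi, .p3, .hi, .p10, .hi, .p6, .hi, .p10,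
    .hi, .p4, .hi, .xii, .y2, .p2, .hi, .p3, .hi, .taui, .X0, .p9, .xii, .p, .xii, .hi, .y9, .p8, .taui, .xii, .y2,
    .hi, .xii, .p5, .xii, .y1], .ord [1, 2, 3] [.z, .Z7, .Z6, .Z3, .Z2, .Z0, .X10, .X7, .X3, .X2, .X0, .y9, .y6,
    .y4, .y2, .y1, .p6, .hi, .p7, .hi, .p6, .hi, .p10, .hi, .p3, .hi, .p7, .hi, .taui, .xii, .p, .xii, .y4, .y10,
    .hi, .xii, .y5, .y10, .taui, .xii, .p5, .xii, .y1, .y3, .p, .xii, .y5, .taui, .xii, .p10, .xii, .y9, .p6, .xii,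
    .y4, .y8] 12⟩

theorem a12 : svA r12 = true := by decide +kernel
theorem b12 : svB' Base.wg Base.wc Base.we r12 = true := by decide +kernel
theorem c12 : svC Front.wAp r12 = true := by decide +kernel

/-- an exception -/
def r13 : SvD :=
  ⟨(0, [(0, 1), (16, 2), (3, 1), (15, 2), (16, 1), (15, 2), (16, 2), (15, 1), (16, 1), (0, 1), (0, 1), (1, 1), (0,
    2), (1, 2)]), 61, [.z, .Z9, .Z5, .Z3, .Z0, .X10, .X8, .X6, .X5, .X2, .X1, .y10, .y7, .y4, .y3, .y2, .y1, .p2,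
    .hi, .p10, .hi, .p5, .hi, .p, .hi, .xii, .p, .xii, .p7, .xii, .y4, .tau, .y1, .xii, .p10, .xii, .y8, .p10, .xii,
    .y3, .y7, .tau, .y1, .xii, .p10, .xii, .y8, .p10, .xii, .y2, .taui, .X0, .p2, .xii, .p8, .xii, .y4, .taui, .xii,
    .p7, .xii, .y2, .p9, .xii, .y2, .y7, .taui, .xii, .y2, .p10, .xii], [.z, .Z8, .Z7, .Z4, .Z3, .Z2, .X10, .X9,
    .X8, .X7, .X6, .X4, .X3, .X2, .X1, .X0, .y10, .y8, .y7, .y3, .y2, .p9, .hi, .p6, .hi, .p8, .hi, .p9, .hi, .p,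
    .hi, .p10, .tau, .X0, .xii, .p10, .xii, .y10, .p5, .hi, .p5, .tau], .ord [2, 3, 3] [.Z10, .Z9, .Z8, .Z6, .Z5,
    .Z2, .Z1, .X10, .X9, .X1, .y9, .y7, .y6, .y5, .y1, .p3, .hi, .p8, .hi, .p6, .hi, .p, .hi, .p10, .taui, .xii,
    .y6, .p, .xii, .y2, .p, .xii, .y1, .y2, .tau, .xii, .p5, .xii, .y4, .p, .y7, .xii, .y4, .taui, .xii, .p10, .xii,
    .y4, .p2, .xii, .y7, .taui] 12⟩

theorem a13 : svA r13 = true := by decide +kernel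
theorem b13 : svB' Base.wg Base.wc Base.we r13 = true := by decide +kernel
theorem c13 : svC Front.wAp r13 = true := by decide +kernel

/-- an exception -/
def r14 : SvD :=
  ⟨(0, [(0, 1), (12, 1), (0, 1), (15, 1), (17, 1), (1, 1), (12, 1), (16, 1), (15, 1), (0, 1), (15, 1), (1, 1), (17,
    1), (15, 2), (17, 2), (15, 1), (1, 1), (0, 1), (1, 2), (0, 2)]), 0, [.z, .Z9, .Z5, .Z4, .Z3, .X10, .X6, .X2,
    .X0, .y8, .y6, .y5, .hi, .p, .hi, .p10, .hi, .p10, .hi, .p9, .hi, .p3, .hi, .p8, .xii, .hi, .xii, .p9, .y4,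
    .xii, .y6, .tau, .xii, .p, .xii, .y1, .hi, .xii, .y7, .y8, .tau, .y1, .xii, .p10, .xii, .y5, .p10, .xii, .y2,
    .tau, .X0, .p8, .xii, .y9, .p, .xii, .tau, .xii, .p5, .xii, .y4, .p5, .xii, .y9, .y10, .taui, .xii, .p], [.Z10,
    .Z7, .Z6, .Z3, .Z2, .Z1, .Z0, .X9, .X8, .X4, .X2, .X1, .y10, .y9, .y8, .y7, .y5, .p10, .hi, .p9, .hi, .p8, .hi,
    .p8, .hi, .p6, .hi, .p9], .ord [2, 3, 3] [.Z9, .Z8, .Z2, .Z0, .X8, .X6, .X4, .X2, .X0, .y9, .y8, .y7, .y2, .y1,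
    .p2, .hi, .p8, .hi, .p5, .hi, .p7, .hi, .p10, .hi, .tau, .xii, .p, .xii, .y2, .hi, .xii, .y5, .y9, .tau, .xii,
    .p10, .xii, .y4, .p10, .xii, .y5, .y9, .taui, .xii, .p, .xii, .y4, .hi, .xii, .y5, .taui] 12⟩

theorem a14 : svA r14 = true := by decide +kernel
theorem b14 : svB' Base.wg Base.wc Base.we r14 = true := by decide +kernel
theorem c14 : svC Front.wAp r14 = true := by decide +kernel

/-- an exception -/
def r15 : SvD :=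
  ⟨(0, [(0, 1), (12, 1), (0, 1), (15, 1), (17, 1), (1, 1), (12, 1), (16, 1), (15, 1), (0, 1), (15, 1), (1, 1), (17,
    1), (15, 2), (17, 2), (15, 1), (1, 1), (0, 1), (1, 2), (0, 2)]), 53, [.z, .Z9, .Z5, .Z4, .Z3, .X10, .X6, .X2,
    .X0, .y8, .y6, .y5, .hi, .p, .hi, .p10, .hi, .p10, .hi, .p9, .hi, .p3, .hi, .p8, .xii, .hi, .xii, .p9, .y4,
    .xii, .y6, .tau, .xii, .p, .xii, .y1, .hi, .xii, .y7, .y8, .tau, .y1, .xii, .p10, .xii, .y5, .p10, .xii, .y2,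
    .tau, .X0, .p8, .xii, .y9, .p, .xii, .tau, .xii, .p5, .xii, .y4, .p5, .xii, .y9, .y10, .taui, .xii, .p], [.Z8,
    .Z7, .Z5, .Z4, .Z2, .X5, .X2, .y8, .y5, .y3, .p10, .hi, .p5, .hi, .p7, .hi, .p6, .hi, .p8, .hi, .p7, .hi, .p7,
    .tau, .xii, .y2, .p, .xii, .y1, .hi, .xii, .y4, .y5, .taui, .X0, .xii, .y2, .p6, .xii, .p10, .xii, .y2, .y10,
    .taui, .xii, .p, .xii, .p4, .xii, .y4, .y8, .taui], .ord [0, 2, 1] [.Z10, .Z9, .Z4, .Z1, .X8, .X3, .X2, .X0,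
    .y10, .y7, .y6, .y5, .y4, .y2, .hi, .p5, .hi, .p10, .hi, .p, .hi, .p3, .hi, .p4, .hi, .p7, .hi, .xii, .y2, .p2,
    .hi, .taui, .p7, .xii, .p3, .y1, .hi, .xii, .y6, .p8, .tau, .xii, .p10, .xii, .y10, .p2, .xii, .y6, .taui] 12⟩

theorem a15 : svA r15 = true := by decide +kernel
theorem b15 : svB' Base.wg Base.wc Base.we r15 = true := by decide +kernel
theorem c15 : svC Front.wAp r15 = true := by decide +kernel

/-- an exception -/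
def r16 : SvD :=
  ⟨(0, [(0, 1), (12, 1), (0, 1), (15, 1), (17, 1), (1, 1), (12, 1), (16, 1), (15, 1), (0, 1), (15, 1), (1, 1), (17,
    1), (15, 2), (17, 2), (15, 1), (1, 1), (0, 1), (1, 2), (0, 2)]), 67, [.z, .Z9, .Z5, .Z4, .Z3, .X10, .X6, .X2,
    .X0, .y8, .y6, .y5, .hi, .p, .hi, .p10, .hi, .p10, .hi, .p9, .hi, .p3, .hi, .p8, .xii, .hi, .xii, .p9, .y4,
    .xii, .y6, .tau, .xii, .p, .xii, .y1, .hi, .xii, .y7, .y8, .tau, .y1, .xii, .p10, .xii, .y5, .p10, .xii, .y2,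
    .tau, .X0, .p8, .xii, .y9, .p, .xii, .tau, .xii, .p5, .xii, .y4, .p5, .xii, .y9, .y10, .taui, .xii, .p], [.Z8,
    .Z7, .Z2, .X8, .X7, .X4, .X1, .X0, .y10, .y9, .y8, .y7, .y6, .y4, .y2, .hi, .p5, .hi, .p8, .hi, .p, .hi, .p7,
    .hi, .p5, .hi, .p3, .hi, .tau, .y1, .xii, .p10, .xii, .y1, .p10, .y9, .xii, .y8, .taui, .y1, .xii, .y2, .p4,
    .xii, .y9, .p10, .xii, .y6, .tau, .xii, .hi, .xii, .y4, .p9, .xii, .y5, .taui], .ord [0, 1, 2] [.Z10, .Z5, .Z0,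
    .X10, .X9, .X8, .X7, .X2, .X1, .X0, .y9, .y4, .y3, .y2, .p10, .hi, .p2, .hi, .p7, .hi, .p9, .hi, .p6, .hi, .p10,
    .xii, .y2, .hi, .p10, .taui, .y1, .xii, .y2, .p10, .xii, .y8, .taui, .X0, .p2, .xii, .y6, .hi, .xii, .y10,
    .taui, .xii, .p, .xii, .p, .xii, .y3, .y6] 12⟩

theorem a16 : svA r16 = true := by decide +kernel
theorem b16 : svB' Base.wg Base.wc Base.we r16 = true := by decide +kernel
theorem c16 : svC Front.wAp r16 = true := by decide +kernel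

/-- an exception -/
def r17 : SvD :=
  ⟨(0, [(1, 1), (9, 1), (15, 2), (0, 1), (15, 1), (16, 1), (9, 1), (15, 1), (17, 1), (0, 1), (16, 1), (17, 1), (15,
    1), (17, 1), (12, 1), (17, 1), (1, 1), (0, 1), (1, 2), (0, 2)]), 6, [.Z10, .Z8, .Z7, .Z5, .Z4, .Z2, .X8, .X6,
    .X5, .X4, .X3, .X2, .X0, .y10, .y8, .y6, .y5, .y4, .y3, .y1, .p2, .hi, .p5, .hi, .p4, .hi, .p8, .hi, .p5, .hi,
    .p2, .hi, .xii, .y2, .hi, .xii, .p5, .xii, .y4, .taui, .X0, .xii, .p3, .xii, .hi, .xii, .y10, .hi, .taui, .X0,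
    .hi, .xii, .p5, .xii, .y1, .y3, .hi, .p5, .taui, .xii, .p4, .xii, .y5, .p4, .y5, .xii, .y4, .taui, .xii, .y6,
    .p2], [.Z9, .Z4, .Z3, .Z2, .Z0, .X10, .X8, .X7, .X3, .X1, .y10, .y8, .y6, .y5, .p2, .hi, .p6, .hi, .p7, .hi,
    .p7, .hi, .p7, .hi, .p3, .tau, .X0, .xii, .p10, .xii, .y10, .p5, .hi, .p5, .tau], .ord [0, 2] [.Z9, .Z8, .Z2,
    .Z1, .Z0, .X5, .X3, .X2, .X1, .y9, .y7, .y6, .y3, .y2, .p7, .hi, .p8, .hi, .p4, .hi, .p10, .hi, .p3, .hi, .p5,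
    .xii, .p, .xii, .y1, .y4, .tau, .xii, .y6, .p, .hi, .xii, .y1, .p3, .hi, .taui, .p5, .xii, .hi, .p7, .xii, .y8,
    .p5, .taui, .xii, .y2, .hi, .xii, .p9, .xii, .y2, .y9] 7⟩

theorem a17 : svA r17 = true := by decide +kernel
theorem b17 : svB' Base.wg Base.wc Base.we r17 = true := by decide +kernel
theorem c17 : svC Front.wAp r17 = true := by decide +kernel

/-- an exception -/
def r18 : SvD :=
  ⟨(0, [(0, 1), (12, 1), (15, 2), (17, 1), (12, 1), (17, 1), (15, 1), (0, 1), (17, 1), (16, 1), (9, 1), (15, 1),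
    (17, 1), (0, 1), (15, 1), (1, 1), (15, 2), (0, 1), (0, 1), (1, 1), (0, 2), (1, 2)]), 67, [.Z6, .Z4, .Z3, .X9,
    .X0, .y10, .y9, .y1, .p3, .hi, .p6, .hi, .p9, .hi, .p5, .hi, .p8, .hi, .p10, .xii, .y2, .hi, .xii, .p4, .hi,
    .taui, .xii, .y2, .p, .xii, .y3, .hi, .xii, .y6, .taui, .X0, .y1, .p9, .xii, .p, .xii, .y1, .y6, .taui, .xii,
    .p7, .xii, .y9, .y10, .p10, .xii, .taui, .xii, .y6, .p8], [.X10, .X9, .X7, .X6, .X5, .X3, .X1, .X0, .y10, .y9,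
    .y8, .y7, .y5, .y4, .y3, .y2, .y1, .hi, .p10, .hi, .p10, .hi, .p, .hi, .p8, .hi, .p7, .hi, .p7, .hi, .xii, .p5,
    .hi, .p5], .ord [0, 2, 3, 2] [.z, .Z10, .Z9, .Z7, .Z6, .Z3, .Z0, .X8, .X6, .X1, .X0, .y7, .y6, .p10, .hi, .p7,
    .hi, .p5, .hi, .p6, .hi, .p10, .hi, .p6, .hi, .xii, .y2, .taui, .xii, .y6, .p3, .hi, .xii, .p10, .y5, .tau, .p5,
    .xii, .p10, .xii, .y10, .p3, .taui, .xii, .y2, .p, .xii, .y3, .hi, .p4] 7⟩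

theorem a18 : svA r18 = true := by decide +kernel
theorem b18 : svB' Base.wg Base.wc Base.we r18 = true := by decide +kernel
theorem c18 : svC Front.wAp r18 = true := by decide +kernel

/-- an exception -/
def r19 : SvD :=
  ⟨(0, [(0, 1), (9, 1), (16, 1), (0, 1), (1, 1), (15, 1), (16, 2), (9, 1), (8, 1), (17, 1), (0, 1), (17, 1), (15,
    3), (16, 1), (15, 1), (0, 1)]), 19, [.Z9, .Z8, .Z6, .Z5, .Z4, .Z3, .X9, .X5, .X0, .y7, .y3, .p5, .hi, .p3, .hi,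
    .p6, .hi, .p4, .hi, .p10, .hi, .p4, .hi, .xii, .y2, .p10, .hi, .p, .taui, .y1, .xii, .p10, .xii, .y8, .p10,
    .xii, .y4, .y10, .tau, .p9, .xii, .p2, .y2, .xii, .y5, .p2, .hi, .p2, .tau, .xii, .p5, .xii, .y8, .y9, .hi,
    .p3], [.Z10, .Z9, .Z7, .Z6, .Z5, .Z4, .Z3, .X10, .X9, .X8, .X7, .X6, .X4, .X2, .X0, .y5, .y4, .y3, .p4, .hi,
    .p10, .hi, .p4, .hi, .p10, .hi, .p10, .hi, .p10, .hi, .xii, .y2, .hi, .p8, .xii, .y4, .tau, .xii, .y1, .p3, .hi,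
    .xii, .y2, .p2, .hi, .taui, .p2, .xii, .p7, .xii, .y10, .p9, .y3, .taui, .xii, .hi, .xii, .p9, .y4, .xii, .y4,
    .tau], .ord [0, 2] [.z, .Z8, .Z7, .Z6, .Z5, .Z4, .Z3, .X10, .X6, .X3, .X1, .X0, .y10, .y9, .y8, .y7, .y5, .y2,
    .hi, .p5, .hi, .p3, .hi, .p7, .hi, .p, .hi, .p8, .taui, .xii, .p, .xii, .hi, .y8, .xii, .y6, .tau, .X0, .xii,
    .p10, .xii, .y4, .p10, .y7, .xii, .y7, .tau, .xii, .hi, .xii, .p10, .xii, .y8, .y10, .taui] 12⟩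

theorem a19 : svA r19 = true := by decide +kernel
theorem b19 : svB' Base.wg Base.wc Base.we r19 = true := by decide +kernel
theorem c19 : svC Front.wAp r19 = true := by decide +kernel

/-- an exception -/
def r20 : SvD :=
  ⟨(0, [(0, 1), (9, 1), (16, 1), (0, 1), (1, 1), (15, 1), (16, 2), (9, 1), (8, 1), (17, 1), (0, 1), (17, 1), (15,
    3), (16, 1), (15, 1), (0, 1)]), 52, [.Z9, .Z8, .Z6, .Z5, .Z4, .Z3, .X9, .X5, .X0, .y7, .y3, .p5, .hi, .p3, .hi,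
    .p6, .hi, .p4, .hi, .p10, .hi, .p4, .hi, .xii, .y2, .p10, .hi, .p, .taui, .y1, .xii, .p10, .xii, .y8, .p10,
    .xii, .y4, .y10, .tau, .p9, .xii, .p2, .y2, .xii, .y5, .p2, .hi, .p2, .tau, .xii, .p5, .xii, .y8, .y9, .hi,
    .p3], [.z, .Z8, .Z6, .Z1, .Z0, .X10, .X7, .X6, .X5, .y10, .y8, .y7, .y5, .y4, .y3, .y1, .p3, .hi, .p7, .hi, .p7,
    .hi, .p9, .hi, .p8, .hi, .p5, .taui, .y1, .xii, .y2, .hi, .xii, .y9, .p10, .xii, .y10, .tau, .xii, .p5, .xii,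
    .y3, .hi, .xii, .y6, .tau, .xii, .y2, .hi, .xii, .p9, .xii, .y1, .y10, .taui], .ord [0, 2, 3, 2] [.z, .Z9, .Z8,
    .Z7, .Z5, .Z2, .Z1, .Z0, .X10, .X9, .X8, .X7, .X6, .X2, .y10, .y9, .y5, .y4, .y3, .y2, .p6, .hi, .p5, .hi, .p9,
    .hi, .p7, .hi, .p, .hi, .p2, .xii, .hi, .p8, .xii, .y1, .y7, .taui, .xii, .y6, .p3, .hi, .xii, .p10, .y1, .tau,
    .X0, .y1, .p5, .xii, .p7, .xii, .y5, .p5, .y3, .tau, .xii, .p3, .hi, .xii, .p4, .hi, .p2] 5⟩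

theorem a20 : svA r20 = true := by decide +kernel
theorem b20 : svB' Base.wg Base.wc Base.we r20 = true := by decide +kernel
theorem c20 : svC Front.wAp r20 = true := by decide +kernel

/-- an exception -/
def r21 : SvD :=
  ⟨(0, [(0, 1), (9, 1), (16, 1), (0, 1), (1, 1), (15, 1), (16, 2), (9, 1), (8, 1), (17, 1), (0, 1), (17, 1), (15,
    3), (16, 1), (15, 1), (0, 1)]), 76, [.Z9, .Z8, .Z6, .Z5, .Z4, .Z3, .X9, .X5, .X0, .y7, .y3, .p5, .hi, .p3, .hi,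
    .p6, .hi, .p4, .hi, .p10, .hi, .p4, .hi, .xii, .y2, .p10, .hi, .p, .taui, .y1, .xii, .p10, .xii, .y8, .p10,
    .xii, .y4, .y10, .tau, .p9, .xii, .p2, .y2, .xii, .y5, .p2, .hi, .p2, .tau, .xii, .p5, .xii, .y8, .y9, .hi,
    .p3], [.z, .Z10, .Z5, .Z3, .Z2, .Z1, .Z0, .X10, .X9, .X7, .X5, .X4, .X0, .y10, .y9, .y8, .y7, .y6, .y3, .y2,
    .y1, .p5, .hi, .p8, .hi, .p3, .hi, .p, .hi, .p, .hi, .p5, .xii, .p5, .hi, .p5], .ord [0, 2] [.Z10, .Z8, .Z5,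
    .Z2, .Z1, .Z0, .X10, .X4, .X3, .X2, .y9, .y4, .y2, .p3, .hi, .p5, .hi, .p3, .hi, .p4, .hi, .p3, .xii, .y2, .p10,
    .hi, .p, .tau, .X0, .y1, .p6, .xii, .p, .xii, .y6, .p4, .tau, .X0, .p8, .xii, .p, .xii, .p8, .y7, .taui, .xii,
    .p, .xii, .y4, .p, .xii, .y4] 26⟩

theorem a21 : svA r21 = true := by decide +kernel
theorem b21 : svB' Base.wg Base.wc Base.we r21 = true := by decide +kernel
theorem c21 : svC Front.wAp r21 = true := by decide +kernel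

/-- an exception -/
def r22 : SvD :=
  ⟨(0, [(11, 1), (15, 1), (1, 1), (17, 1), (15, 2), (17, 1), (15, 2), (16, 1), (0, 1), (9, 1), (15, 1), (0, 1), (3,
    1), (16, 1)]), 20, [.Z6, .Z4, .Z3, .Z2, .Z0, .X10, .X6, .X4, .X3, .y9, .y7, .y4, .y3, .y2, .y1, .hi, .p7, .hi,
    .p10, .hi, .p, .hi, .p, .hi, .p3, .hi, .p5, .xii, .y2, .hi, .p10, .hi, .p8, .tau, .xii, .y6, .p, .xii, .p, .xii,
    .y3, .taui, .xii, .y2, .p4, .xii, .p8, .xii, .p, .y10, .taui, .xii, .p2, .xii, .y7, .hi, .xii, .y2, .y10, .taui,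
    .xii, .p3, .hi], [.Z10, .Z8, .Z7, .Z0, .X6, .X5, .X3, .X2, .X1, .X0, .y10, .y9, .y8, .y5, .y1, .p5, .hi, .p3,
    .hi, .p7, .hi, .p6, .hi, .p8, .hi, .p5, .xii, .taui, .hi, .xii, .p3, .hi, .xii, .y10, .p10, .y9, .taui, .xii,
    .p, .xii, .y1, .y10, .hi, .xii], .ord [0, 2, 3, 2] [.z, .Z10, .Z4, .Z2, .Z1, .X6, .X3, .X0, .y9, .y2, .p9, .hi,
    .p5, .hi, .p, .hi, .p8, .hi, .p, .hi, .p4, .hi, .tau, .xii, .p, .xii, .y1, .y6, .hi, .xii, .y7, .y10, .taui,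
    .X0, .y1, .xii, .y1, .p, .xii, .y4, .p, .xii, .y8, .tau, .xii, .p10, .xii, .y5, .p10, .xii, .y7, .y10] 5⟩

theorem a22 : svA r22 = true := by decide +kernel
theorem b22 : svB' Base.wg Base.wc Base.we r22 = true := by decide +kernel
theorem c22 : svC Front.wAp r22 = true := by decide +kernel

/-- the list -/
def S : List SvD :=
  [r0, r1, r2, r3, r4, r5, r6, r7, r8, r9, r10, r11, r12, r13, r14, r15, r16, r17, r18, r19, r20, r21, r22]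

theorem ok : ∀ r ∈ S, svA r = true ∧ svB' Base.wg Base.wc Base.we r = true ∧ svC Front.wAp r = true :=
  List.forall_mem_cons.2 ⟨⟨a0, b0, c0⟩,
  List.forall_mem_cons.2 ⟨⟨a1, b1, c1⟩,
  List.forall_mem_cons.2 ⟨⟨a2, b2, c2⟩,
  List.forall_mem_cons.2 ⟨⟨a3, b3, c3⟩,
  List.forall_mem_cons.2 ⟨⟨a4, b4, c4⟩,
  List.forall_mem_cons.2 ⟨⟨a5, b5, c5⟩,
  List.forall_mem_cons.2 ⟨⟨a6, b6, c6⟩,
  List.forall_mem_cons.2 ⟨⟨a7, b7, c7⟩,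
  List.forall_mem_cons.2 ⟨⟨a8, b8, c8⟩,
  List.forall_mem_cons.2 ⟨⟨a9, b9, c9⟩,
  List.forall_mem_cons.2 ⟨⟨a10, b10, c10⟩,
  List.forall_mem_cons.2 ⟨⟨a11, b11, c11⟩,
  List.forall_mem_cons.2 ⟨⟨a12, b12, c12⟩,
  List.forall_mem_cons.2 ⟨⟨a13, b13, c13⟩,
  List.forall_mem_cons.2 ⟨⟨a14, b14, c14⟩,
  List.forall_mem_cons.2 ⟨⟨a15, b15, c15⟩,
  List.forall_mem_cons.2 ⟨⟨a16, b16, c16⟩,
  List.forall_mem_cons.2 ⟨⟨a17, b17, c17⟩,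
  List.forall_mem_cons.2 ⟨⟨a18, b18, c18⟩,
  List.forall_mem_cons.2 ⟨⟨a19, b19, c19⟩,
  List.forall_mem_cons.2 ⟨⟨a20, b20, c20⟩,
  List.forall_mem_cons.2 ⟨⟨a21, b21, c21⟩,
  List.forall_mem_cons.2 ⟨⟨a22, b22, c22⟩,
  List.forall_mem_nil _⟩⟩⟩⟩⟩⟩⟩⟩⟩⟩⟩⟩⟩⟩⟩⟩⟩⟩⟩⟩⟩⟩⟩

end Cfsg.Agent.BX.No33.SvP0
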