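import Cfsg.Agent.BabyM.WordsTh
import Cfsg.Agent.H863.U33.ChkAll
set_option linter.all false
open scoped Cfsg.Agent.FastGrp

/-!
# The centraliser-free `L₃(3)` of the Baby Monster lies in a Thompson group (helper8)

`K` is the Thompson group of `BabyM/WordsTh`.  It contains `x = a` and `y = (d e) ^ r`, which generate an `L₃(3)`;
`xy w` is a word in them.  `not_coatom` : a subgroup of order at most 5616 that is conjugate into `K` is not maximal.
`hit` : this applies to `⟨g wa, g wy1, g wc⟩`.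
-/

set_option autoImplicit false
set_option Elab.async false
set_option maxRecDepth 100000

namespace Cfsg.Agent.BX.No33.Th

open Subgroup Cfsg.Agent.H819.U33 Cfsg.Agent.BMx.Fast Cfsg.Agent.BabyM
open Cfsg.Agent.BabyM.Conc (Ltr)
open Cfsg.Agent.H863.U33 (wy1)

/-- the Thompson group -/
noncomputable def K : Subgroup G := closure (Set.range WordsTh0.S.gen)

theorem card_K (hs : Cfsg.IsTh Cfsg.Spor.Th) : Nat.card K = 90745943887872000 := by
  obtain ⟨K', h, rfl⟩ := WordsTh.exists_th Instance.all Instance.ok hs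
  exact h.2

theorem gen_mem (i : Cfsg.Spor.Th.Gen) : g (WordsTh0.w i) ∈ K :=
  K.inv_mem (subset_closure ⟨i, rfl⟩)

theorem flat_mem {L : List (List Ltr)} (h : ∀ v ∈ L, g v ∈ K) : g L.flatten ∈ K := by
  rw [g_flatten]
  exact K.list_prod_mem fun u hu => by
    obtain ⟨v, hv, rfl⟩ := List.mem_map.1 hu
    exact h v hv

/-- a word in the generators of the Thompson group -/
def tw (l : List Cfsg.Spor.Th.Gen) : List Ltr := (l.map WordsTh0.w).flatten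

theorem tw_mem (l : List Cfsg.Spor.Th.Gen) : g (tw l) ∈ K :=
  flat_mem fun v hv => by
    obtain ⟨i, -, rfl⟩ := List.mem_map.1 hv
    exact gen_mem i

/-- `p = b u d s` -/
def wp : List Ltr :=
  [.Z7, .Z3, .Z2, .Z1, .Z0, .X10, .X8, .X3, .X2, .X1, .X0, .y10, .y5, .y4, .y3, .y1, .p7, .hi, .p4, .hi, .p6, .hi,
  .p2, .xii, .y2, .hi, .xii, .p10, .xii, .y8, .y9, .y10, .taui, .p6, .xii, .p8, .xii, .y3, .p5, .hi, .p5, .tau, .xii,
  .p8, .xii, .y2, .p7, .y4, .taui, .xii, .p7]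

/-- `q = s u d b a` -/
def wq : List Ltr :=
  [.z, .Z7, .Z6, .Z5, .Z1, .Z0, .X3, .y7, .y6, .y5, .y3, .y1, .p6, .hi, .p, .hi, .p4, .hi, .p4, .hi, .p5, .hi, .p2,
  .hi, .xii, .y2, .p10, .xii, .y1, .y7, .tau, .xii, .y6, .p, .xii, .y10, .p, .xii, .y4, .y7, .tau, .y1, .xii, .p10,
  .xii, .y1, .p10, .xii, .y9, .tau, .p9, .xii, .y6, .p10, .xii, .y5, .taui, .xii, .p2, .xii, .y2, .p10, .xii, .y3,
  .taui, .xii, .p8]

/-- `r = q q p q p p p` -/
def wr : List Ltr :=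
  [.Z10, .Z8, .Z7, .Z5, .Z3, .Z1, .X10, .X8, .X7, .X6, .X5, .X4, .X3, .X2, .X1, .X0, .y10, .y9, .y8, .y7, .y6, .y2,
  .p3, .hi, .p5, .hi, .p10, .hi, .p8, .hi, .p6, .hi, .p7, .hi, .xii, .hi, .xii, .y4, .p9, .xii, .y7, .tau, .xii, .y1,
  .p, .xii, .y10, .p, .xii, .y5, .y10, .tau, .xii, .p, .xii, .y1, .hi, .xii, .y7, .taui, .p9, .xii, .y7, .p3, .xii,
  .tau, .xii, .y2, .p5, .xii, .p5, .y7, .xii, .y7, .taui, .xii, .hi, .p]

/-- `y = r⁻¹ d e r` -/
def wy : List Ltr :=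
  [.z, .Z9, .Z6, .Z5, .Z4, .Z3, .Z2, .Z1, .Z0, .X9, .X8, .X6, .X5, .X4, .y10, .y9, .y8, .y6, .y5, .y3, .hi, .p7, .hi,
  .p9, .hi, .p9, .hi, .p4, .hi, .p5, .hi, .p9, .hi, .xii, .p10, .xii, .y6, .p2, .xii, .y3, .y10, .taui, .y1, .xii,
  .y6, .p10, .xii, .y8, .p10, .xii, .y2, .tau, .xii, .p, .xii, .y1, .y10, .hi, .xii, .y4, .y7, .tau, .X0, .y1, .p4,
  .xii, .p, .xii, .tau, .xii, .p6, .xii, .p10, .y8, .xii, .y7, .taui, .xii, .p6, .xii, .y7]

theorem p_mem : g wp ∈ K := by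
  rw [eq_of_eqF (w := tw [.b, .u, .d, .s]) (by decide +kernel)]
  exact tw_mem _

theorem q_mem : g wq ∈ K := by
  rw [eq_of_eqF (w := tw [.s, .u, .d, .b, .a]) (by decide +kernel)]
  exact tw_mem _

theorem r_mem : g wr ∈ K := by
  rw [eq_of_eqF (w := [wq, wq, wp, wq, wp, wp, wp].flatten) (by decide +kernel)]
  refine flat_mem fun v hv => ?_
  simp only [List.mem_cons, List.not_mem_nil, or_false] at hv
  rcases hv with rfl | rfl | rfl | rfl | rfl | rfl | rfl <;> first | exact p_mem | exact q_mem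

theorem y_mem : g wy ∈ K := by
  rw [eq_of_eqF (w := cj wr (tw [.d, .e])) (by decide +kernel), g_cj]
  exact K.mul_mem (K.mul_mem (K.inv_mem r_mem) (tw_mem _)) r_mem

/-- the letters `0 = x`, `1 = y`, `2 = y⁻¹` -/
def lt : ℕ → List Ltr
  | 0 => WordsTh0.w .a
  | 1 => wy
  | _ => TransInv.winv wy

theorem lt_mem (i : ℕ) : g (lt i) ∈ K := by
  unfold lt
  split
  · exact gen_mem _
  · exact y_mem
  · rw [g_winv]
    exact K.inv_mem y_mem

/-- a word in `x`, `y` -/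
def xy (l : List ℕ) : List Ltr := (l.map lt).flatten

theorem xy_mem (l : List ℕ) : g (xy l) ∈ K :=
  flat_mem fun v hv => by
    obtain ⟨i, -, rfl⟩ := List.mem_map.1 hv
    exact lt_mem i

/-- the certificate for `u ^ t ∈ K` -/
theorem mem_of {t u : List Ltr} (l : List ℕ) (h : eqF (cj t u) (xy l) = true) : (g t)⁻¹ * g u * g t ∈ K := by
  rw [← g_cj, eq_of_eqF h]
  exact xy_mem l

/-- the conjugate of `K` by `t⁻¹` -/
noncomputable def Kc (t : G) : Subgroup G := K.comap (MulAut.conj t⁻¹).toMonoidHom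

theorem mem_Kc {t u : G} : u ∈ Kc t ↔ t⁻¹ * u * t ∈ K := by
  unfold Kc
  rw [mem_comap]
  show t⁻¹ * u * t⁻¹⁻¹ ∈ K ↔ _
  rw [inv_inv]

theorem card_Kc (hs : Cfsg.IsTh Cfsg.Spor.Th) (t : G) : Nat.card (Kc t) = 90745943887872000 := by
  rw [← card_K hs]
  unfold Kc
  rw [comap_equiv_eq_map_symm']
  exact card_map_of_injective (MulEquiv.injective _)

/-- **A small subgroup of a conjugate of the Thompson group is not maximal.** -/
theorem not_coatom (hs : Cfsg.IsTh Cfsg.Spor.Th) (t : G) {M : Subgroup G} (hM : M ≤ Kc t) (hc : Nat.card M ≤ 5616) :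
    ¬ IsCoatom M := by
  intro h
  have h1 := card_Kc hs t
  rcases hM.eq_or_lt with h2 | h2
  · rw [← h2] at h1
    omega
  · rw [h.2 _ h2, card_top, Instance.isB.2] at h1
    omega

/-- the element of order 13 (helper13, normalised by `wy1`) -/
def wa : List Ltr :=
  [.z, .Z9, .Z8, .Z3, .Z2, .Z1, .Z0, .X10, .X9, .X8, .X7, .X4, .X2, .X1, .y1, .p10, .hi, .p10, .hi, .p8, .hi, .p6,
  .hi, .p2, .hi, .xii, .y2, .p10, .xii, .y10, .p3, .hi, .taui, .y1, .xii, .p10, .xii, .y8, .p10, .xii, .y3, .y7, .tau,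
  .y1, .xii, .p10, .xii, .y1, .p10, .xii, .y3, .y5, .taui, .X0, .p7, .xii, .y4, .p4, .xii, .tau, .xii, .y2, .p4, .xii,
  .y5, .p10, .xii, .y10, .tau, .xii, .y6, .p4]

/-- the involution of the diagonal hit -/
def wc : List Ltr :=
  [.Z9, .Z6, .Z4, .Z1, .X10, .X9, .X8, .X6, .X5, .X3, .X2, .X0, .y10, .y7, .y5, .y4, .y1, .p2, .hi, .p7, .hi, .p10,
  .hi, .p5, .hi, .p5, .hi, .p7, .xii, .y2, .p5, .hi, .p5, .taui, .p10, .xii, .p4, .hi, .xii, .y2, .y8, .y9, .taui,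
  .xii, .hi, .p7, .xii, .y1, .y2, .tau, .xii, .p]

/-- the conjugating element -/
def wt : List Ltr :=
  [.Z9, .Z8, .Z6, .Z4, .Z2, .Z1, .Z0, .X10, .X7, .X6, .X2, .X0, .y10, .y8, .y3, .y2, .y1, .p3, .hi, .p5, .hi, .p4,
  .hi, .p7, .hi, .p7, .hi, .p4, .hi, .xii, .p10, .xii, .y4, .p6, .xii, .y3, .tau, .xii, .p, .xii, .y3, .hi, .xii, .y5,
  .tau, .X0, .p10, .xii, .y8, .p5, .xii, .y10, .p, .xii, .y7, .tau, .xii, .p4, .xii, .p2, .hi, .y10, .p4, .taui, .xii,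
  .y2, .p, .hi]

theorem a_mem : g wa ∈ Kc (g wt) := mem_Kc.2 (mem_of [2, 0, 1, 0, 2, 0, 1, 0, 1, 0, 2, 0, 2] (by decide +kernel))

theorem b_mem : g wy1 ∈ Kc (g wt) := mem_Kc.2 (mem_of [0, 2, 0, 2, 0, 2, 0, 1, 0, 2, 0] (by decide +kernel))

theorem c_mem : g wc ∈ Kc (g wt) := mem_Kc.2 (mem_of [0, 2, 0, 1, 0] (by decide +kernel))

/-- **The diagonal hit is not a maximal subgroup.** -/
theorem hit (hs : Cfsg.IsTh Cfsg.Spor.Th) {M : Subgroup G} (hM : M ≤ closure {g wa, g wy1, g wc})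
    (hc : Nat.card M ≤ 5616) : ¬ IsCoatom M := by
  refine not_coatom hs (g wt) (hM.trans ((closure_le _).2 ?_)) hc
  rintro u (rfl | rfl | rfl)
  exacts [a_mem, b_mem, c_mem]

end Cfsg.Agent.BX.No33.Th
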